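import Cfsg.Agent.Lib.Schur.PathCert

/-!
Data for the Schur multiplier of the Tits group: matrices over the field of two elements as column bit masks, and
rewriting certificates at the primes 2, 3 and 5.
-/

set_option autoImplicit false
set_option maxRecDepth 20000

namespace CfsgLib.TitsSchur

/-- The roots used. -/
def roots : List ℕ := [14, 17, 19, 20, 22, 23, 24, 25, 27, 28, 30, 33]

/-- Their matrices. -/
def rootMats : List (List ℕ) := [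
  [1, 2, 4, 8, 16, 32, 64, 136, 256, 512, 1024, 2048, 4096, 8192, 16384, 33040, 66080, 132160, 264192, 528384,
    1056768, 2097152, 4194304, 8388608, 16777216, 33554432, 67108864, 134217728, 268435456, 536870912, 1073741824,
    2147483648, 4294967296, 281483566661632, 17314086912, 34628173824, 69256347648, 137438953472, 274877906944,
    549755813888, 1099511627776, 2337535950848, 4675071901696, 9350143803392, 18691697672192, 35184372088832,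
    70368744177664, 140737488355328, 281474976710656, 562949953437696, 1125899906842624, 2251799813685248],
  [1, 2, 4, 8, 18, 36, 64, 128, 256, 512, 1024, 2176, 4096, 8192, 17408, 32768, 65536, 131072, 262144, 524288,
    1048576, 2129920, 4194304, 8454144, 16777216, 33554432, 67108864, 134742016, 269484032, 536870912,
    1688850934136832, 2164260864, 4362076160, 8589934592, 17179869184, 34359738368, 68719476736, 146028888064,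
    274877906944, 549755813888, 1168231104512, 2199023255552, 4398046511104, 8796093022208, 17592186044416,
    39582418599936, 79164837199872, 140737488355328, 281474976710656, 562949953421312, 1125899906842624,
    2251799813816320],
  [1, 2, 4, 8, 16, 42, 64, 128, 256, 640, 1024, 2304, 4096, 9216, 20480, 32768, 65536, 131072, 262144, 524288,
    1048576, 2097152, 4194304, 8683520, 16777216, 34734080, 67108864, 134217728, 562950222381056, 536870912,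
    1212153856, 2147483648, 4848615424, 8589934592, 17179869184, 42949672960, 68719476736, 154618822656,
    274877906944, 618475290624, 1374389534720, 2199023255552, 4398046511104, 8796093022208, 17592186044416,
    35184372088832, 92358976733184, 140737488355328, 281474977234944, 562949953421312, 1125899907366912,
    2251799814209536],
  [1, 2, 4, 8, 28, 32, 64, 128, 384, 512, 1024, 2560, 5120, 8192, 24576, 32768, 65536, 131072, 262144, 524288,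
    1048576, 2424832, 4849664, 8388608, 16777216, 33554432, 67108864, 562950088687616, 268435456, 536870912,
    1375731712, 2751463424, 4294967296, 8589934592, 25769803776, 34359738368, 68719476736, 171798691840,
    343597383680, 549755813888, 1649267441664, 2199023255552, 4398046511104, 8796093022208, 17592186044416,
    61572651155456, 70368744177664, 140737488355328, 281474977759232, 562949953421312, 1125899907891200,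
    2251799813685248],
  [1, 2, 6, 8, 16, 48, 64, 128, 256, 768, 1024, 2048, 4096, 12288, 16384, 32768, 98304, 131072, 262144, 524288,
    1572864, 2097152, 4194304, 10485760, 16777216, 1125899944591360, 83886080, 134217728, 402653184, 536870912,
    1073741824, 2147483648, 6442450944, 8589934592, 17179869184, 51539607552, 68719476736, 137438953472,
    274877906944, 824633720832, 1099511627776, 2199023255552, 4398046511104, 13194139533312, 17592186044416,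
    35184372088832, 105553116266496, 140737488355328, 281474976710656, 562949953421312, 1125899906842624,
    2251799817879552],
  [1, 3, 4, 8, 16, 32, 96, 128, 256, 512, 1536, 2048, 6144, 8192, 16384, 32768, 65536, 196608, 262144, 786432,
    1048576, 2097152, 6291456, 8388608, 2251799838851072, 33554432, 100663296, 134217728, 268435456, 805306368,
    1073741824, 3221225472, 4294967296, 8589934592, 17179869184, 34359738368, 103079215104, 137438953472,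
    412316860416, 549755813888, 1099511627776, 2199023255552, 6597069766656, 8796093022208, 17592186044416,
    35184372088832, 70368744177664, 211106232532992, 281474976710656, 562949953421312, 1125899915231232,
    2251799813685248],
  [3, 2, 4, 8, 16, 96, 64, 128, 256, 1536, 1024, 6144, 4096, 8192, 16384, 32768, 196608, 131072, 786432, 524288,
    1048576, 6291456, 4194304, 2251799838851072, 16777216, 100663296, 67108864, 134217728, 805306368, 536870912,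
    3221225472, 2147483648, 4294967296, 8589934592, 17179869184, 103079215104, 68719476736, 412316860416,
    274877906944, 549755813888, 1099511627776, 6597069766656, 4398046511104, 8796093022208, 17592186044416,
    35184372088832, 211106232532992, 140737488355328, 281474976710656, 562949953421312, 1125899923619840,
    2251799813685248],
  [1, 6, 4, 8, 48, 32, 64, 128, 768, 512, 1024, 2048, 12288, 8192, 16384, 98304, 65536, 131072, 262144, 1572864,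
    1048576, 10485760, 1125899944591360, 8388608, 83886080, 33554432, 67108864, 402653184, 268435456, 536870912,
    1073741824, 6442450944, 4294967296, 8589934592, 51539607552, 34359738368, 68719476736, 137438953472,
    824633720832, 549755813888, 1099511627776, 2199023255552, 13194139533312, 8796093022208, 17592186044416,
    105553116266496, 70368744177664, 140737488355328, 281474976710656, 562949953421312, 1125899906842624,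
    2251799847239680],
  [1, 2, 28, 8, 16, 32, 64, 384, 256, 2560, 5120, 2048, 4096, 24576, 16384, 32768, 2424832, 4849664, 262144,
    524288, 562950088687616, 2097152, 4194304, 8388608, 16777216, 1375731712, 2751463424, 134217728, 268435456,
    536870912, 1073741824, 2147483648, 4294967296, 25769803776, 17179869184, 171798691840, 343597383680,
    137438953472, 274877906944, 1649267441664, 1099511627776, 2199023255552, 4398046511104, 61572651155456,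
    17592186044416, 35184372088832, 70368744177664, 140737488355328, 281475110928384, 562949953421312,
    1125900041060352, 2251799813685248],
  [1, 42, 4, 8, 16, 32, 64, 640, 2304, 512, 9216, 2048, 20480, 8192, 16384, 8683520, 65536, 34734080, 262144,
    562950222381056, 1048576, 2097152, 1212153856, 8388608, 4848615424, 33554432, 67108864, 134217728, 268435456,
    536870912, 1073741824, 2147483648, 4294967296, 42949672960, 154618822656, 34359738368, 618475290624,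
    137438953472, 1374389534720, 549755813888, 1099511627776, 2199023255552, 92358976733184, 8796093022208,
    17592186044416, 35184372088832, 70368744177664, 140737488355328, 281475245146112, 562949953421312,
    1125900175278080, 2251800082120704],
  [1, 18, 36, 8, 16, 32, 64, 2176, 256, 512, 17408, 2048, 4096, 8192, 16384, 2129920, 8454144, 1688850934136832,
    262144, 134742016, 269484032, 2097152, 4194304, 8388608, 2164260864, 33554432, 4362076160, 134217728, 268435456,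
    536870912, 1073741824, 2147483648, 4294967296, 146028888064, 17179869184, 34359738368, 1168231104512,
    137438953472, 274877906944, 549755813888, 1099511627776, 2199023255552, 39582418599936, 79164837199872,
    17592186044416, 35184372088832, 70368744177664, 140737488355328, 281474976710656, 562949953421312,
    1125899906842624, 2251800887427072],
  [1, 2, 4, 136, 33040, 66080, 132160, 128, 256, 512, 1024, 264192, 528384, 1056768, 281483566661632, 32768, 65536,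
    131072, 262144, 524288, 1048576, 2097152, 4194304, 8388608, 16777216, 33554432, 67108864, 17314086912,
    34628173824, 69256347648, 2337535950848, 4675071901696, 9350143803392, 8589934592, 17179869184, 34359738368,
    68719476736, 137438953472, 274877906944, 549755813888, 18691697672192, 2199023255552, 4398046511104,
    8796093022208, 17592186044416, 35184372088832, 70368744177664, 140737488355328, 281474976710656,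
    562958543355904, 1125899906842624, 2251799813685248]]

/-- Twenty-four words in the roots, by position. -/
def kWords : List (List ℕ) := [[11, 6], [9, 10], [0, 5], [2, 1], [8, 7, 9, 3, 4, 2], [8, 7, 9, 3, 4, 2, 3, 4, 2, 3, 4, 2],
    [8, 7, 9, 0, 5, 8, 7, 9, 8, 7, 9, 8, 7, 9], [8, 7, 9, 11, 6, 8, 7, 9, 8, 7, 9, 8, 7, 9],
    [8, 7, 9, 2, 1, 8, 7, 9, 8, 7, 9, 8, 7, 9], [8, 7, 9, 9, 10, 8, 7, 9, 8, 7, 9, 8, 7, 9], [3, 4, 2, 8, 7, 9],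
    [3, 4, 2, 3, 4, 2, 3, 4, 2, 8, 7, 9], [6, 11], [10, 9], [5, 0], [1, 2], [2, 4, 3, 9, 7, 8],
    [2, 4, 3, 2, 4, 3, 2, 4, 3, 9, 7, 8], [9, 7, 8, 9, 7, 8, 9, 7, 8, 5, 0, 9, 7, 8],
    [9, 7, 8, 9, 7, 8, 9, 7, 8, 6, 11, 9, 7, 8], [9, 7, 8, 9, 7, 8, 9, 7, 8, 1, 2, 9, 7, 8],
    [9, 7, 8, 9, 7, 8, 9, 7, 8, 10, 9, 9, 7, 8], [9, 7, 8, 2, 4, 3], [9, 7, 8, 2, 4, 3, 2, 4, 3, 2, 4, 3]]

/-- Their matrices. -/
def kMats : List (List ℕ) := [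
  [3, 2, 4, 136, 33040, 198240, 132160, 128, 256, 1536, 1024, 792576, 528384, 1056768, 281483566661632, 32768,
    196608, 131072, 786432, 524288, 1048576, 6291456, 4194304, 2251799838851072, 16777216, 100663296, 67108864,
    17314086912, 103884521472, 69256347648, 7012607852544, 4675071901696, 9350143803392, 8589934592, 17179869184,
    103079215104, 68719476736, 412316860416, 274877906944, 549755813888, 18691697672192, 6597069766656,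
    4398046511104, 8796093022208, 17592186044416, 35184372088832, 211106232532992, 140737488355328, 281474976710656,
    562958543355904, 1125899923619840, 2251799813685248],
  [1, 58, 36, 8, 16, 32, 64, 2688, 2304, 512, 25600, 2048, 20480, 8192, 16384, 10780672, 8454144, 1688851237175296,
    262144, 562950356598784, 269484032, 2097152, 1212153856, 8388608, 6996099072, 33554432, 4362076160, 134217728,
    268435456, 536870912, 1073741824, 2147483648, 4294967296, 180388626432, 154618822656, 34359738368,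
    1717986918400, 137438953472, 1374389534720, 549755813888, 1099511627776, 2199023255552, 127543348822016,
    79164837199872, 17592186044416, 35184372088832, 70368744177664, 140737488355328, 281475245146112,
    562949953421312, 1125900175278080, 2251801155862528],
  [1, 3, 4, 8, 16, 32, 96, 136, 256, 512, 1536, 2048, 6144, 8192, 16384, 33040, 66080, 198240, 264192, 792576,
    1056768, 2097152, 6291456, 8388608, 2251799838851072, 33554432, 100663296, 134217728, 268435456, 805306368,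
    1073741824, 3221225472, 4294967296, 281483566661632, 17314086912, 34628173824, 103884521472, 137438953472,
    412316860416, 549755813888, 1099511627776, 2337535950848, 7012607852544, 9350143803392, 18691697672192,
    35184372088832, 70368744177664, 211106232532992, 281474976710656, 562949953437696, 1125899915231232,
    2251799813685248],
  [1, 2, 4, 8, 18, 46, 64, 128, 256, 640, 1024, 2432, 4096, 9216, 21504, 32768, 65536, 131072, 262144, 524288,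
    1048576, 2129920, 4194304, 8749056, 16777216, 34734080, 67108864, 134742016, 562950223429632, 536870912,
    1688851073073152, 2164260864, 4915724288, 8589934592, 17179869184, 42949672960, 68719476736, 163208757248,
    274877906944, 618475290624, 1443109011456, 2199023255552, 4398046511104, 8796093022208, 17592186044416,
    39582418599936, 101155069755392, 140737488355328, 281474977234944, 562949953421312, 1125899907366912,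
    2251799814340608],
  [1, 54, 42, 8, 36, 58, 64, 2944, 2176, 2304, 29696, 2688, 17408, 20480, 25600, 10584064, 8683520,
    562951469268992, 262144, 404226048, 562950222381056, 8454144, 1688850934136832, 10780672, 6526337024,
    1212153856, 4848615424, 269484032, 562950356598784, 536870912, 1688851237175296, 4362076160, 6996099072,
    197568495616, 146028888064, 154618822656, 1992864825344, 180388626432, 1168231104512, 1374389534720,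
    1717986918400, 2199023255552, 118747255799808, 92358976733184, 17592186044416, 79164837199872, 127543348822016,
    140737488355328, 844425064873984, 562949953421312, 1688849995005952, 3940650111860736],
  [1, 54, 42, 8, 18, 46, 64, 2944, 2176, 640, 29696, 2432, 17408, 9216, 21504, 10584064, 8683520, 562951469268992,
    262144, 404226048, 562950222381056, 2129920, 1688850934136832, 8749056, 6526337024, 34734080, 4848615424,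
    134742016, 562950223429632, 536870912, 1688851073073152, 2164260864, 4915724288, 197568495616, 146028888064,
    42949672960, 1992864825344, 163208757248, 1168231104512, 618475290624, 1443109011456, 2199023255552,
    118747255799808, 92358976733184, 17592186044416, 39582418599936, 101155069755392, 140737488355328,
    844425199616000, 562949953421312, 1688850129747968, 3377701202690048],
  [1, 3, 4, 8, 16, 32, 96, 136, 256, 512, 1536, 2048, 6144, 8192, 16384, 33040, 66080, 198240, 264192, 792576,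
    1056768, 2097152, 6291456, 8388608, 2251799838851072, 33554432, 100663296, 134217728, 268435456, 805306368,
    1073741824, 3221225472, 4294967296, 281483566661632, 17314086912, 34628173824, 103884521472, 137438953472,
    412316860416, 549755813888, 1099511627776, 2337535950848, 7012607852544, 9350143803392, 18691697672192,
    35184372088832, 70368744177664, 211106232532992, 281474976710656, 562949953437696, 1125899915231232,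
    2251799813685248],
  [55, 562951471723970, 562951477982916, 2952, 562951477984592, 562951471726176, 562951469298752, 404500608,
    404505856, 404506112, 281672546780160, 404502528, 844622633373696, 844622768119808, 281672947875840,
    2814756297801728, 3940656234037248, 121779586727936, 404488192, 2019172024320, 2036352417792, 3377707326898176,
    122133858484224, 2251807455707136, 61916265316352, 122153265528832, 92977519132672, 2148154736640,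
    2165468823552, 1993401696256, 121915867922432, 93735513751552, 63226213564416, 833223655424, 1185410973696,
    1202590842880, 17660905521152, 962072674304, 17867063951360, 18141941858304, 18691697672192, 120946279055360,
    145135534866432, 149533581377536, 17592186044416, 175921860444160, 211106232532992, 140737488355328,
    281526516318208, 563147521916928, 1125957972787200, 2253966691794944],
  [1, 32, 16, 8, 4, 2, 64, 2048, 512, 256, 16384, 128, 8192, 4096, 1024, 8388608, 2097152, 1073741824, 262144,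
    268435456, 134217728, 65536, 33554432, 32768, 4294967296, 4194304, 2147483648, 1048576, 524288, 536870912,
    131072, 67108864, 16777216, 137438953472, 34359738368, 17179869184, 1099511627776, 8589934592, 549755813888,
    274877906944, 68719476736, 2199023255552, 70368744177664, 35184372088832, 17592186044416, 8796093022208,
    4398046511104, 140737488355328, 281474976710656, 562949953421312, 1125899906842624, 2814749767106560],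
  [1, 58, 36, 8, 16, 32, 64, 2688, 2304, 512, 25600, 2048, 20480, 8192, 16384, 10780672, 8454144, 1688851237175296,
    262144, 562950356598784, 269484032, 2097152, 1212153856, 8388608, 6996099072, 33554432, 4362076160, 134217728,
    268435456, 536870912, 1073741824, 2147483648, 4294967296, 180388626432, 154618822656, 34359738368,
    1717986918400, 137438953472, 1374389534720, 549755813888, 1099511627776, 2199023255552, 127543348822016,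
    79164837199872, 17592186044416, 35184372088832, 70368744177664, 140737488355328, 281475245146112,
    562949953421312, 1125900175278080, 2251801155862528],
  [1, 46, 18, 8, 42, 54, 64, 2432, 640, 2176, 21504, 2944, 9216, 17408, 29696, 8749056, 2129920, 1688851073073152,
    262144, 562950223429632, 134742016, 8683520, 34734080, 10584064, 4915724288, 1688850934136832, 2164260864,
    562950222381056, 404226048, 536870912, 562951469268992, 4848615424, 6526337024, 163208757248, 42949672960,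
    146028888064, 1443109011456, 197568495616, 618475290624, 1168231104512, 1992864825344, 2199023255552,
    101155069755392, 39582418599936, 17592186044416, 92358976733184, 118747255799808, 140737488355328,
    844425199616000, 562949953421312, 1688850129747968, 3940651156111360],
  [1, 32, 16, 8, 36, 58, 64, 2048, 512, 2304, 16384, 2688, 8192, 20480, 25600, 8388608, 2097152, 1073741824,
    262144, 268435456, 134217728, 8454144, 33554432, 10780672, 4294967296, 1212153856, 2147483648, 269484032,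
    562950356598784, 536870912, 1688851237175296, 4362076160, 6996099072, 137438953472, 34359738368, 154618822656,
    1099511627776, 180388626432, 549755813888, 1374389534720, 1717986918400, 2199023255552, 70368744177664,
    35184372088832, 17592186044416, 79164837199872, 127543348822016, 140737488355328, 281475245146112,
    562949953421312, 1125900175278080, 2814751109283840],
  [3, 2, 4, 136, 33040, 198240, 132160, 128, 256, 1536, 1024, 792576, 528384, 1056768, 281483566661632, 32768,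
    196608, 131072, 786432, 524288, 1048576, 6291456, 4194304, 2251799838851072, 16777216, 100663296, 67108864,
    17314086912, 103884521472, 69256347648, 7012607852544, 4675071901696, 9350143803392, 8589934592, 17179869184,
    103079215104, 68719476736, 412316860416, 274877906944, 549755813888, 18691697672192, 6597069766656,
    4398046511104, 8796093022208, 17592186044416, 35184372088832, 211106232532992, 140737488355328, 281474976710656,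
    562958543355904, 1125899923619840, 2251799813685248],
  [1, 58, 36, 8, 16, 32, 64, 2688, 2304, 512, 25600, 2048, 20480, 8192, 16384, 10780672, 8454144, 1688851237175296,
    262144, 562950356598784, 269484032, 2097152, 1212153856, 8388608, 6996099072, 33554432, 4362076160, 134217728,
    268435456, 536870912, 1073741824, 2147483648, 4294967296, 180388626432, 154618822656, 34359738368,
    1717986918400, 137438953472, 1374389534720, 549755813888, 1099511627776, 2199023255552, 127543348822016,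
    79164837199872, 17592186044416, 35184372088832, 70368744177664, 140737488355328, 281475245146112,
    562949953421312, 1125900175278080, 2251801155862528],
  [1, 3, 4, 8, 16, 32, 96, 136, 256, 512, 1536, 2048, 6144, 8192, 16384, 33040, 66080, 198240, 264192, 792576,
    1056768, 2097152, 6291456, 8388608, 2251799838851072, 33554432, 100663296, 134217728, 268435456, 805306368,
    1073741824, 3221225472, 4294967296, 281483566661632, 17314086912, 34628173824, 103884521472, 137438953472,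
    412316860416, 549755813888, 1099511627776, 2337535950848, 7012607852544, 9350143803392, 18691697672192,
    35184372088832, 70368744177664, 211106232532992, 281474976710656, 562949953437696, 1125899915231232,
    2251799813685248],
  [1, 2, 4, 8, 18, 46, 64, 128, 256, 640, 1024, 2432, 4096, 9216, 21504, 32768, 65536, 131072, 262144, 524288,
    1048576, 2129920, 4194304, 8749056, 16777216, 34734080, 67108864, 134742016, 562950223429632, 536870912,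
    1688851073073152, 2164260864, 4915724288, 8589934592, 17179869184, 42949672960, 68719476736, 163208757248,
    274877906944, 618475290624, 1443109011456, 2199023255552, 4398046511104, 8796093022208, 17592186044416,
    39582418599936, 101155069755392, 140737488355328, 281474977234944, 562949953421312, 1125899907366912,
    2251799814340608],
  [1, 54, 42, 8, 36, 58, 64, 2944, 2176, 2304, 29696, 2688, 17408, 20480, 25600, 10584064, 8683520,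
    562951469268992, 262144, 404226048, 562950222381056, 8454144, 1688850934136832, 10780672, 6526337024,
    1212153856, 4848615424, 269484032, 562950356598784, 536870912, 1688851237175296, 4362076160, 6996099072,
    197568495616, 146028888064, 154618822656, 1992864825344, 180388626432, 1168231104512, 1374389534720,
    1717986918400, 2199023255552, 118747255799808, 92358976733184, 17592186044416, 79164837199872, 127543348822016,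
    140737488355328, 844425064873984, 562949953421312, 1688849995005952, 3940650111860736],
  [1, 58, 36, 8, 42, 54, 64, 2688, 2304, 2176, 25600, 2944, 20480, 17408, 29696, 10780672, 8454144,
    1688851237175296, 262144, 562950356598784, 269484032, 8683520, 1212153856, 10584064, 6996099072,
    1688850934136832, 4362076160, 562950222381056, 404226048, 536870912, 562951469268992, 4848615424, 6526337024,
    180388626432, 154618822656, 146028888064, 1717986918400, 197568495616, 1374389534720, 1168231104512,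
    1992864825344, 2199023255552, 127543348822016, 79164837199872, 17592186044416, 92358976733184, 118747255799808,
    140737488355328, 844425064873984, 562949953421312, 1688849995005952, 3377700158439424],
  [1, 3, 4, 8, 16, 32, 96, 136, 256, 512, 1536, 2048, 6144, 8192, 16384, 33040, 66080, 198240, 264192, 792576,
    1056768, 2097152, 6291456, 8388608, 2251799838851072, 33554432, 100663296, 134217728, 268435456, 805306368,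
    1073741824, 3221225472, 4294967296, 281483566661632, 17314086912, 34628173824, 103884521472, 137438953472,
    412316860416, 549755813888, 1099511627776, 2337535950848, 7012607852544, 9350143803392, 18691697672192,
    35184372088832, 70368744177664, 211106232532992, 281474976710656, 562949953437696, 1125899915231232,
    2251799813685248],
  [55, 562951471723970, 562951477982916, 2952, 562951477984592, 562951471726176, 562951469298752, 404500608,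
    404505856, 404506112, 281672546780160, 404502528, 844622633373696, 844622768119808, 281672947875840,
    2814756297801728, 3940656234037248, 121779586727936, 404488192, 2019172024320, 2036352417792, 3377707326898176,
    122133858484224, 2251807455707136, 61916265316352, 122153265528832, 92977519132672, 2148154736640,
    2165468823552, 1993401696256, 121915867922432, 93735513751552, 63226213564416, 833223655424, 1185410973696,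
    1202590842880, 17660905521152, 962072674304, 17867063951360, 18141941858304, 18691697672192, 120946279055360,
    145135534866432, 149533581377536, 17592186044416, 175921860444160, 211106232532992, 140737488355328,
    281526516318208, 563147521916928, 1125957972787200, 2253966691794944],
  [1, 32, 16, 8, 4, 2, 64, 2048, 512, 256, 16384, 128, 8192, 4096, 1024, 8388608, 2097152, 1073741824, 262144,
    268435456, 134217728, 65536, 33554432, 32768, 4294967296, 4194304, 2147483648, 1048576, 524288, 536870912,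
    131072, 67108864, 16777216, 137438953472, 34359738368, 17179869184, 1099511627776, 8589934592, 549755813888,
    274877906944, 68719476736, 2199023255552, 70368744177664, 35184372088832, 17592186044416, 8796093022208,
    4398046511104, 140737488355328, 281474976710656, 562949953421312, 1125899906842624, 2814749767106560],
  [1, 58, 36, 8, 16, 32, 64, 2688, 2304, 512, 25600, 2048, 20480, 8192, 16384, 10780672, 8454144, 1688851237175296,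
    262144, 562950356598784, 269484032, 2097152, 1212153856, 8388608, 6996099072, 33554432, 4362076160, 134217728,
    268435456, 536870912, 1073741824, 2147483648, 4294967296, 180388626432, 154618822656, 34359738368,
    1717986918400, 137438953472, 1374389534720, 549755813888, 1099511627776, 2199023255552, 127543348822016,
    79164837199872, 17592186044416, 35184372088832, 70368744177664, 140737488355328, 281475245146112,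
    562949953421312, 1125900175278080, 2251801155862528],
  [1, 46, 18, 8, 42, 54, 64, 2432, 640, 2176, 21504, 2944, 9216, 17408, 29696, 8749056, 2129920, 1688851073073152,
    262144, 562950223429632, 134742016, 8683520, 34734080, 10584064, 4915724288, 1688850934136832, 2164260864,
    562950222381056, 404226048, 536870912, 562951469268992, 4848615424, 6526337024, 163208757248, 42949672960,
    146028888064, 1443109011456, 197568495616, 618475290624, 1168231104512, 1992864825344, 2199023255552,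
    101155069755392, 39582418599936, 17592186044416, 92358976733184, 118747255799808, 140737488355328,
    844425199616000, 562949953421312, 1688850129747968, 3940651156111360],
  [1, 46, 18, 8, 4, 2, 64, 2432, 640, 256, 21504, 128, 9216, 4096, 1024, 8749056, 2129920, 1688851073073152,
    262144, 562950223429632, 134742016, 65536, 34734080, 32768, 4915724288, 4194304, 2164260864, 1048576, 524288,
    536870912, 131072, 67108864, 16777216, 163208757248, 42949672960, 17179869184, 1443109011456, 8589934592,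
    618475290624, 274877906944, 68719476736, 2199023255552, 101155069755392, 39582418599936, 17592186044416,
    8796093022208, 4398046511104, 140737488355328, 281474977234944, 562949953421312, 1125899907366912,
    2814749767761920]]

/-- Generators at 2, as words in the twenty-four. -/
def letters2 : List (List ℕ) := [[0, 1, 0, 5, 0, 7, 10, 7], [8, 2, 0, 1, 0, 2, 8], [3, 7, 0, 11, 0, 7, 10, 7], [2, 0, 8, 0, 8, 0, 2], [8, 0, 8],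
    [2, 0, 1, 0, 2], [1, 2, 0, 1, 7, 2, 2, 0, 1, 7, 2], [1], [0, 1, 7, 0, 7, 1, 7, 0], [0], [2, 0, 1, 7, 2],
    [0, 1, 0], [0], [1], [2], [3]]

/-- Their matrices. -/
def mats2 : List (List ℕ) := [
  [1567903581470721, 4398063812610, 8796161179652, 580542676336648, 35186653790224, 70373307580448,
    140738025226304, 77309411456, 292057776384, 584115552768, 68719477760, 1236950583296, 274877911040,
    549755822080, 1099511644160, 4398046543872, 8796093087744, 131072, 17592186306560, 524288, 1048576,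
    35184374185984, 4194304, 70368752566272, 16777216, 33554432, 67108864, 134217728, 268435456, 536870912,
    1073741824, 2147483648, 4294967296, 8589934592, 17179869184, 34359738368, 68719476736, 137438953472,
    274877906944, 549755813888, 1099511627776, 2199023255552, 4398046511104, 8796093022208, 17592186044416,
    35184372088832, 70368744177664, 140737488355328, 299067162755072, 562949953421312, 1125899906842624,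
    2392537302040576],
  [1082132481, 3730645100531714, 4328529924, 268451848, 1073741840, 32, 4294967360, 845558801498240, 137573171456,
    268435968, 550292685824, 2048, 1099511631872, 8192, 16384, 37400575246336, 70403103981568, 149602300985344,
    137439215616, 17867064475648, 549756862464, 2097152, 35184376283136, 8388608, 140737505132544, 33554432,
    67108864, 134217728, 268435456, 536870912, 1073741824, 2147483648, 4294967296, 17600775979008, 17179869184,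
    34359738368, 68719476736, 137438953472, 274877906944, 549755813888, 1099511627776, 2199023255552, 4398046511104,
    8796093022208, 17592186044416, 35184372088832, 70368744177664, 140737488355328, 282574488338432,
    564049465049088, 1196268651020288, 2322168557862912],
  [70506218783233, 141012437566466, 2568459162484740, 1099645853704, 4294983696, 1073741856, 2147483712,
    17609366962304, 282024732524800, 137438953984, 274877907968, 268437504, 536875008, 1099511635968, 16384,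
    8804682989568, 2199023321088, 4398046642176, 34360000512, 68720001024, 17592187092992, 70506185228288,
    141012370456576, 8388608, 16777216, 70368777732096, 140737555464192, 1099645845504, 268435456, 536870912,
    1073741824, 2147483648, 4294967296, 8589934592, 17609365913600, 34359738368, 68719476736, 137438953472,
    274877906944, 549755813888, 1099511627776, 2199023255552, 4398046511104, 8796093022208, 17592186044416,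
    35184372088832, 70368744177664, 140737488355328, 281474976710656, 563499709235200, 1161634034745344,
    2251799813685248],
  [4406640705793, 131074, 16778244, 68720529416, 3105020836839440, 141289425223712, 67108928, 524416, 8589934848,
    281749854618112, 1024, 17626680002560, 68719480832, 536879104, 549755830272, 32768, 4406636511232, 131072,
    17180131328, 524288, 68720525312, 2199025352704, 4398050705408, 35321819430912, 16777216, 141287277723648,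
    67108864, 17592320262144, 1099780063232, 536870912, 70369817919488, 140739635838976, 4294967296, 8589934592,
    17179869184, 17626545782784, 68719476736, 137438953472, 274877906944, 549755813888, 1099511627776,
    2199023255552, 4398046511104, 8796093022208, 17592186044416, 35184372088832, 70368744177664, 140737488355328,
    281474976710656, 563224831328256, 1134970877771776, 2252074691592192],
  [33, 1075855682, 8389124, 2056, 16, 32, 1073758272, 268705920, 16640, 512, 281612415665152, 2048, 134221824,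
    268443648, 16384, 2814754062106624, 33619968, 73126180421632, 268697600, 1117228892160, 34360786944, 1075838976,
    2151677952, 8388608, 35459266772992, 33554432, 70918567100416, 134217728, 268435456, 1100048498688, 1073741824,
    2147483648, 4294967296, 558345748480, 1116691496960, 34359738368, 17660905521152, 137438953472, 274877906944,
    549755813888, 1099511627776, 72567767433216, 145135534866432, 8796093022208, 17592186044416, 35184372088832,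
    70368744177664, 140737488355328, 281474976710656, 563087392374784, 1125904201809920, 2251937252638720],
  [163969, 2, 131076, 525320, 20975632, 4226591483764768, 16777280, 128, 524544, 8590983680, 1024, 844510829479936,
    4096, 68719484928, 275414794240, 32768, 65536, 131072, 8590196736, 524288, 1048576, 4415228477440, 4194304,
    11029484404736, 16777216, 8796126576640, 67108864, 275012124672, 18142210293760, 536870912, 177022445813760,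
    2147483648, 140741783322624, 8589934592, 17179869184, 34359738368, 68719476736, 17729624997888, 274877906944,
    549755813888, 1099511627776, 2199023255552, 4398046511104, 8796093022208, 17592186044416, 35184372088832,
    70368744177664, 140737488355328, 281543696187392, 563018672898048, 1130297953353728, 2256266579673088],
  [4209361062633209, 2734414457860546, 4050372760126020, 863752419036680, 1071030657357840, 4344278964772896,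
    1986791523508288, 299824017847424, 846135133229312, 19079051108864, 300691198313472, 846573219104768,
    863580618493952, 19344801144832, 962877997056, 3042999920001024, 4162242707783680, 258119028572160,
    563474879217664, 19542638592000, 1134409285632, 268713691447296, 73686610608128, 65460947124224,
    207051800182784, 149537909899264, 220452148477952, 18004637122560, 18142210293760, 19241990356992,
    177022445813760, 106654775377920, 211110527500288, 18494129176576, 18983755448320, 1683627180032,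
    17660905521152, 18829136625664, 17867063951360, 549755813888, 1099511627776, 266081813921792, 145135534866432,
    149533581377536, 17592186044416, 35184372088832, 70368744177664, 140737488355328, 299720534654976,
    581882169262080, 1342544499703808, 2435111702233088],
  [1, 58, 36, 8, 16, 32, 64, 2688, 2304, 512, 25600, 2048, 20480, 8192, 16384, 10780672, 8454144, 1688851237175296,
    262144, 562950356598784, 269484032, 2097152, 1212153856, 8388608, 6996099072, 33554432, 4362076160, 134217728,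
    268435456, 536870912, 1073741824, 2147483648, 4294967296, 180388626432, 154618822656, 34359738368,
    1717986918400, 137438953472, 1374389534720, 549755813888, 1099511627776, 2199023255552, 127543348822016,
    79164837199872, 17592186044416, 35184372088832, 70368744177664, 140737488355328, 281475245146112,
    562949953421312, 1125900175278080, 2251801155862528],
  [1556977722524877, 4398047068162, 13262877590660, 580817018163464, 2170728700973136, 4353261152782368,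
    2135544196763712, 68719477888, 352187847936, 581169741832704, 77309936640, 846177813686272, 292057780224,
    845370359816192, 1511962722304, 4398063976448, 8796161245184, 131072, 580619987058688, 524288, 77310459904,
    3446233106481152, 4398067482624, 79753558097920, 4398063288320, 169908939784192, 13262926118912, 17867735040000,
    18829405061120, 17867600822272, 212211112869888, 35186519572480, 247394411216896, 77309411328, 360777252864,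
    584115552256, 68719476736, 19378892439552, 274877906944, 18141941858304, 1099511627776, 169324790677504,
    4398046511104, 8796093022208, 17592186044416, 175921860444160, 70368744177664, 140737488355328, 281767571357696,
    563242011197440, 1135056844226560, 2280456439463936],
  [3, 2, 4, 136, 33040, 198240, 132160, 128, 256, 1536, 1024, 792576, 528384, 1056768, 281483566661632, 32768,
    196608, 131072, 786432, 524288, 1048576, 6291456, 4194304, 2251799838851072, 16777216, 100663296, 67108864,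
    17314086912, 103884521472, 69256347648, 7012607852544, 4675071901696, 9350143803392, 8589934592, 17179869184,
    103079215104, 68719476736, 412316860416, 274877906944, 549755813888, 18691697672192, 6597069766656,
    4398046511104, 8796093022208, 17592186044416, 35184372088832, 211106232532992, 140737488355328, 281474976710656,
    562958543355904, 1125899923619840, 2251799813685248],
  [131205, 4226539879827886, 4226539896609276, 524552, 4226539895920752, 4226539879139360, 20975680,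
    844493650144640, 844502240341760, 844502239816192, 275012670464, 844493649618944, 844785841631232,
    844785841627136, 275012141056, 8839086178304, 3391022821605376, 1831036586164224, 8591245312, 580705618231296,
    580981166702592, 3391014230294528, 1296863214960640, 8830494703616, 181767931691008, 170601771696128,
    181770062397440, 18005442428928, 17729893433344, 275414777856, 141842368692224, 177027814522880,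
    177025667039232, 18373870092288, 18399639896064, 18313740550144, 1443109011456, 18279380811776, 19516331393024,
    19241453486080, 1099511627776, 10995116277760, 101155069755392, 272678883688448, 17592186044416,
    246290604621824, 70368744177664, 140737488355328, 281767705575424, 562967133290496, 1126261422292992,
    2280628003274752],
  [231417, 231418, 198244, 794120, 2251799845148688, 4229241252110368, 1977441446813760, 794240, 792832,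
    281483567718912, 281483567719424, 844546128758784, 844546128760832, 103884529664, 413122183168,
    2251799845961728, 3947774866423808, 1695975061192704, 563079742226432, 563079742488576, 103885570048,
    7029924036608, 7029926133760, 11722316316672, 14094488829952, 9350177357824, 9350210912256, 412451078144,
    19241721921536, 19241990356992, 247391189991424, 247392263733248, 211110527500288, 523986010112, 429496729600,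
    19275813224448, 19310172962816, 18829136625664, 18966575579136, 549755813888, 1099511627776, 266081813921792,
    268280837177344, 219902325555200, 17592186044416, 35184372088832, 70368744177664, 140737488355328,
    281578861232128, 563465349496832, 1139959750721536, 2258916306059264],
  [3, 2, 4, 136, 33040, 198240, 132160, 128, 256, 1536, 1024, 792576, 528384, 1056768, 281483566661632, 32768,
    196608, 131072, 786432, 524288, 1048576, 6291456, 4194304, 2251799838851072, 16777216, 100663296, 67108864,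
    17314086912, 103884521472, 69256347648, 7012607852544, 4675071901696, 9350143803392, 8589934592, 17179869184,
    103079215104, 68719476736, 412316860416, 274877906944, 549755813888, 18691697672192, 6597069766656,
    4398046511104, 8796093022208, 17592186044416, 35184372088832, 211106232532992, 140737488355328, 281474976710656,
    562958543355904, 1125899923619840, 2251799813685248],
  [1, 58, 36, 8, 16, 32, 64, 2688, 2304, 512, 25600, 2048, 20480, 8192, 16384, 10780672, 8454144, 1688851237175296,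
    262144, 562950356598784, 269484032, 2097152, 1212153856, 8388608, 6996099072, 33554432, 4362076160, 134217728,
    268435456, 536870912, 1073741824, 2147483648, 4294967296, 180388626432, 154618822656, 34359738368,
    1717986918400, 137438953472, 1374389534720, 549755813888, 1099511627776, 2199023255552, 127543348822016,
    79164837199872, 17592186044416, 35184372088832, 70368744177664, 140737488355328, 281475245146112,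
    562949953421312, 1125900175278080, 2251801155862528],
  [1, 3, 4, 8, 16, 32, 96, 136, 256, 512, 1536, 2048, 6144, 8192, 16384, 33040, 66080, 198240, 264192, 792576,
    1056768, 2097152, 6291456, 8388608, 2251799838851072, 33554432, 100663296, 134217728, 268435456, 805306368,
    1073741824, 3221225472, 4294967296, 281483566661632, 17314086912, 34628173824, 103884521472, 137438953472,
    412316860416, 549755813888, 1099511627776, 2337535950848, 7012607852544, 9350143803392, 18691697672192,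
    35184372088832, 70368744177664, 211106232532992, 281474976710656, 562949953437696, 1125899915231232,
    2251799813685248],
  [1, 2, 4, 8, 18, 46, 64, 128, 256, 640, 1024, 2432, 4096, 9216, 21504, 32768, 65536, 131072, 262144, 524288,
    1048576, 2129920, 4194304, 8749056, 16777216, 34734080, 67108864, 134742016, 562950223429632, 536870912,
    1688851073073152, 2164260864, 4915724288, 8589934592, 17179869184, 42949672960, 68719476736, 163208757248,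
    274877906944, 618475290624, 1443109011456, 2199023255552, 4398046511104, 8796093022208, 17592186044416,
    39582418599936, 101155069755392, 140737488355328, 281474977234944, 562949953421312, 1125899907366912,
    2251799814340608]]

/-- Columns separating the Sylow subgroup at 2. -/
def cols2 : List ℕ := [0, 1]

/-- Normal forms at 2, part 0. -/
def elts2_0 : List (List ℕ) := [[], [7], [9], [0, 1, 3, 6, 7, 9], [4], [4, 7], [1, 2, 3, 4, 5, 8, 9], [1, 2, 3, 5, 6, 7, 8, 9],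
    [2, 3, 5, 6, 8, 9], [0, 1, 3, 4, 5, 7, 8, 9], [7, 9], [1, 2, 3, 6, 9], [10], [0, 1, 4, 7, 10],
    [0, 2, 4, 6, 7, 9, 10], [9, 10], [5, 10], [1, 4, 5, 7, 10], [5, 9, 10], [2, 4, 5, 6, 7, 9, 10], [5], [5, 7],
    [5, 9], [0, 1, 3, 5, 6, 7, 9], [2, 3, 4, 9], [0, 1, 2, 4, 6, 7, 9], [0, 1, 4, 8], [1, 7, 8], [0, 3, 6, 8],
    [0, 1, 3, 4, 6, 7, 8], [0, 1, 3, 6, 7], [0, 1, 3, 6], [0, 1, 4, 6, 8, 10], [2, 4, 6, 7, 8, 10],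
    [0, 1, 6, 8, 10], [2, 6, 7, 8, 10], [4, 9], [0, 1, 3, 4, 6, 7, 9], [4, 7, 9], [1, 2, 3, 4, 6, 9],
    [1, 2, 4, 6, 7, 8, 10], [0, 4, 6, 8, 10], [0, 6, 8, 10], [1, 2, 6, 7, 8, 10], [1], [1, 7], [1, 4, 7], [1, 4],
    [2, 3, 4, 5, 6, 8, 9], [0, 1, 3, 5, 7, 8, 9], [1, 2, 3, 4, 5, 6, 7, 8, 9], [1, 2, 3, 5, 8, 9], [3], [3, 7],
    [3, 9], [0, 1, 6, 7, 9], [3, 5, 9], [0, 1, 5, 6, 7, 9], [3, 5], [3, 5, 7], [3, 5, 9, 10],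
    [2, 3, 4, 5, 6, 7, 9, 10], [3, 5, 10], [1, 3, 4, 5, 7, 10], [0, 2, 3, 4, 6, 7, 9, 10], [3, 9, 10],
    [0, 1, 3, 4, 7, 10], [3, 10], [0, 2, 4, 5, 7, 8, 9, 10], [0, 1, 3, 4, 5, 6, 8, 9, 10],
    [0, 1, 2, 5, 6, 8, 9, 10], [0, 3, 5, 7, 8, 9, 10], [2], [2, 7], [1, 2, 4], [1, 2, 4, 7], [2, 4], [2, 4, 7],
    [1, 2, 7], [1, 2], [0, 2, 6, 8, 10], [1, 6, 7, 8, 10], [6, 7, 8, 10], [0, 1, 2, 6, 8, 10], [0, 2, 4, 6, 8, 10],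
    [1, 4, 6, 7, 8, 10], [0, 1, 2, 4, 6, 8, 10], [4, 6, 7, 8, 10], [4, 10], [0, 1, 7, 10], [4, 9, 10],
    [0, 2, 6, 7, 9, 10], [2, 5], [2, 5, 7], [1, 2, 4, 5, 6, 7, 10], [0, 1, 2, 5, 6, 10], [3, 4, 5, 7, 10],
    [1, 3, 5, 10], [2, 3, 5, 6, 8, 10], [0, 1, 3, 5, 6, 7, 8, 10], [0, 1, 2, 3, 5, 9, 10],
    [0, 1, 3, 4, 5, 6, 7, 9, 10], [1, 3, 7], [1, 3], [0, 2, 3, 5, 7, 9, 10], [1, 2, 3, 4, 5, 6, 9, 10],
    [2, 4, 5, 6, 8, 10], [0, 1, 4, 5, 6, 7, 8, 10], [3, 4], [3, 4, 7], [1, 2, 4, 5, 8, 9], [1, 2, 5, 6, 7, 8, 9],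
    [4, 5, 6, 8], [0, 1, 5, 6, 7, 8], [3, 7, 8, 10], [0, 1, 2, 3, 8, 10], [0, 1, 4, 6, 8], [0, 6, 7, 8],
    [0, 1, 6, 7, 8], [0, 4, 6, 8], [1, 5, 10], [4, 5, 7, 10], [4, 5, 6, 8, 10], [0, 1, 2, 4, 5, 6, 7, 8, 10],
    [0, 2, 3, 5, 6, 7, 8], [1, 2, 3, 4, 5, 6, 8], [2, 3, 5, 7, 8, 9], [0, 1, 3, 4, 5, 6, 8, 9],
    [0, 2, 3, 4, 6, 8, 9], [0, 1, 3, 7, 8, 9], [2, 9], [0, 1, 2, 3, 6, 7, 9], [2, 7, 9], [1, 3, 6, 9], [3, 4, 9],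
    [0, 1, 4, 6, 7, 9], [2, 3, 4, 5, 6, 7, 9], [0, 1, 2, 4, 5, 9], [2, 5, 9], [0, 1, 2, 3, 5, 6, 7, 9],
    [0, 1, 2, 3, 7, 9], [0, 6, 9], [0, 3, 4, 6, 7, 8], [0, 1, 3, 6, 8], [5, 6, 8], [0, 1, 4, 5, 6, 7, 8],
    [1, 3, 4, 7], [1, 3, 4], [0, 1, 6, 7, 8, 9], [1, 4, 8, 9], [1, 2, 4, 7, 9, 10], [2, 6, 9, 10], [2, 3, 4],
    [2, 3, 4, 7], [0, 1, 2, 4, 6, 7], [0, 1, 2, 4, 6], [2, 3, 9], [0, 1, 2, 6, 7, 9], [1, 4, 7, 8], [0, 1, 8],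
    [0, 4, 7, 9, 10], [0, 1, 6, 9, 10], [2, 3, 4, 5, 7, 8, 9], [0, 1, 3, 5, 6, 8, 9], [2, 3, 5, 9],
    [0, 1, 2, 5, 6, 7, 9], [0, 1, 2, 3, 6, 7], [0, 1, 2, 3, 6], [1, 5, 7, 9], [2, 3, 5, 6, 9], [4, 6, 7, 10],
    [6, 10], [1, 2, 7, 9, 10], [2, 4, 6, 9, 10], [0, 1, 2, 3, 4, 5, 8], [0, 1, 2, 3, 5, 7, 8], [0, 4, 6, 9],
    [0, 1, 2, 3, 4, 7, 9], [0, 2, 3, 5, 6, 9, 10], [1, 2, 3, 4, 5, 7, 9, 10], [2, 3, 6, 7, 8, 9],
    [0, 2, 3, 4, 8, 9], [1, 2, 5, 8, 9], [1, 2, 4, 5, 6, 7, 8, 9], [0, 2, 6, 8, 9], [0, 1, 4, 7, 8, 9],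
    [1, 2, 3, 4, 7], [1, 2, 3, 4], [2, 4, 9], [0, 1, 2, 3, 4, 6, 7, 9], [1, 3, 7, 8], [0, 1, 3, 4, 8], [2, 4, 7, 9],
    [1, 3, 4, 6, 9], [0, 1, 2, 5, 9, 10], [0, 1, 4, 5, 6, 7, 9, 10], [3, 6, 7, 10], [3, 4, 6, 10], [0, 2, 4, 8, 9],
    [2, 6, 7, 8, 9], [1, 2, 5, 7, 9], [3, 5, 6, 9], [0, 1, 4, 6, 7], [0, 1, 4, 6], [3, 4, 9, 10],
    [0, 2, 3, 6, 7, 9, 10], [0, 1, 4, 6, 9, 10], [0, 7, 9, 10], [0, 1, 3, 8], [1, 3, 4, 7, 8], [1, 6, 10],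
    [1, 4, 6, 7, 10], [2, 4, 5, 6, 7, 9], [0, 1, 2, 3, 4, 5, 9], [1, 3, 4, 8, 9], [0, 1, 3, 6, 7, 8, 9],
    [1, 2, 3, 7], [1, 2, 3], [2, 7, 8, 10], [0, 1, 8, 10], [0, 3, 4, 5, 6, 10], [3, 5, 6, 7, 10],
    [0, 2, 4, 5, 7, 9, 10], [1, 2, 5, 6, 9, 10], [1, 3, 4, 6, 10], [1, 3, 6, 7, 10], [0, 1, 2, 5, 7, 8],
    [0, 1, 2, 4, 5, 8], [7, 8, 9], [1, 2, 4, 6, 8, 9], [2, 3], [2, 3, 7], [3, 4, 7, 8, 9], [1, 2, 3, 6, 8, 9],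
    [0, 2, 4, 5, 8], [0, 2, 5, 7, 8], [2, 4, 5, 6, 9], [1, 3, 4, 5, 7, 9], [0, 2, 3, 5, 7, 8, 9, 10],
    [0, 1, 5, 6, 8, 9, 10], [0, 1, 2, 3, 4, 5, 6, 8, 9, 10], [0, 4, 5, 7, 8, 9, 10], [0, 2, 4, 5, 6, 9, 10],
    [1, 2, 5, 7, 9, 10], [2, 3, 5], [2, 3, 5, 7], [3, 4, 5, 6, 7, 9], [0, 1, 4, 5, 9], [0, 1, 3, 7, 9],
    [0, 2, 6, 9], [4, 5, 6, 9], [1, 2, 3, 4, 5, 7, 9], [0, 1, 3, 8, 10], [2, 3, 7, 8, 10],
    [0, 1, 2, 3, 5, 6, 7, 8, 10], [3, 5, 6, 8, 10]]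

/-- Normal forms at 2, part 1. -/
def elts2_1 : List (List ℕ) := [[3, 4, 10], [0, 1, 3, 7, 10], [0, 3, 5, 6, 10], [3, 4, 5, 6, 7, 10], [4, 5, 6, 7, 9], [0, 1, 3, 4, 5, 9],
    [0, 2, 3, 5, 7, 8], [0, 2, 3, 4, 5, 8], [0, 1, 2, 8, 10], [7, 8, 10], [0, 2, 4, 6, 9], [0, 1, 3, 4, 7, 9],
    [0, 2, 3, 4, 5, 6, 7, 8], [1, 2, 3, 5, 6, 8], [1, 2, 5, 6, 7, 10], [0, 1, 2, 4, 5, 6, 10], [1, 3, 5, 6, 7, 10],
    [0, 1, 3, 4, 5, 6, 10], [1, 2, 3, 4, 6, 7, 8, 9, 10], [0, 2, 4, 8, 9, 10], [2, 3, 5, 6, 8],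
    [0, 1, 2, 3, 4, 5, 6, 7, 8], [0, 1, 2, 4, 5, 6, 8, 9], [5, 7, 8, 9], [0, 4, 6], [0, 4, 6, 7],
    [0, 1, 3, 4, 5, 7, 8], [0, 1, 3, 5, 8], [2, 6, 7, 10], [2, 4, 6, 10], [0, 4, 5, 6, 7, 8, 9, 10],
    [1, 3, 4, 5, 8, 9, 10], [1, 2, 3, 5, 7], [1, 2, 3, 5], [2, 4, 7, 8, 9], [1, 6, 8, 9], [1, 2, 3, 4, 5, 7, 8, 10],
    [0, 3, 4, 5, 8, 10], [0, 5, 7, 9, 10], [1, 4, 5, 6, 9, 10], [1, 2, 3, 6, 7, 8, 9, 10], [0, 2, 8, 9, 10],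
    [1, 3, 4, 5, 6, 7, 10], [0, 1, 3, 5, 6, 10], [0, 5, 6, 7, 8, 9], [0, 4, 5, 8, 9], [2, 3, 6, 10],
    [2, 3, 4, 6, 7, 10], [1, 2, 3, 4, 5, 8, 9, 10], [0, 2, 4, 5, 6, 7, 8, 9, 10], [1, 3, 5, 7, 9, 10],
    [0, 3, 4, 5, 6, 9, 10], [0, 2, 5, 8, 9, 10], [1, 2, 3, 5, 6, 7, 8, 9, 10], [1, 5, 7, 8, 9, 10],
    [2, 3, 5, 6, 8, 9, 10], [2, 4, 5, 9, 10], [5, 6, 7, 9, 10], [0, 2, 3, 5, 7, 9], [0, 1, 5, 6, 9],
    [3, 4, 6, 9, 10], [1, 3, 7, 9, 10], [1, 2, 3, 4, 6, 7, 10], [1, 2, 3, 6, 10], [0, 1, 3, 4, 5, 8, 10],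
    [2, 3, 4, 5, 7, 8, 10], [1, 4, 5, 8, 9, 10], [0, 3, 4, 5, 6, 7, 8, 9, 10], [0, 2, 4, 6], [0, 2, 4, 6, 7],
    [0, 5, 8, 10], [1, 2, 5, 7, 8, 10], [0, 8, 10], [1, 2, 7, 8, 10], [1, 6, 7, 8, 9, 10], [0, 3, 8, 9, 10],
    [0, 3, 5, 8, 9, 10], [1, 5, 6, 7, 8, 9, 10], [0, 2, 4, 5, 8, 10], [1, 4, 5, 7, 8, 10], [0, 1, 4, 5, 9, 10],
    [0, 1, 2, 5, 6, 7, 9, 10], [2, 5, 7, 8, 10], [0, 1, 5, 8, 10], [0, 2, 6, 8, 9, 10], [0, 1, 3, 7, 8, 9, 10],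
    [0, 1, 2, 4, 5, 8, 10], [4, 5, 7, 8, 10], [0, 5, 8, 9, 10], [1, 3, 5, 6, 7, 8, 9, 10], [0, 8, 9, 10],
    [1, 3, 6, 7, 8, 9, 10], [1, 2, 3, 7, 8, 10], [0, 3, 8, 10], [0, 3, 5, 8, 10], [1, 2, 3, 5, 7, 8, 10], [0, 5, 8],
    [0, 4, 5, 7, 8], [0, 8], [4, 7, 8], [0, 3, 8], [3, 4, 7, 8], [0, 3, 5, 8], [0, 3, 4, 5, 7, 8],
    [1, 3, 5, 6, 8, 10], [0, 2, 3, 5, 6, 7, 8, 10], [0, 5, 8, 9], [0, 4, 5, 6, 7, 8, 9], [0, 8, 9], [4, 6, 7, 8, 9],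
    [0, 3, 8, 9], [3, 4, 6, 7, 8, 9], [0, 3, 5, 8, 9], [0, 3, 4, 5, 6, 7, 8, 9], [0, 3, 7, 10], [1, 3, 4, 10],
    [0, 2, 3, 6], [0, 2, 3, 6, 7], [2, 4, 5, 6, 7], [2, 4, 5, 6], [0, 1, 2, 9, 10], [1, 4, 6, 7, 9, 10],
    [1, 4, 5, 6, 7], [1, 4, 5, 6], [1, 2, 4, 5, 6, 7], [1, 2, 4, 5, 6], [4, 5, 6, 7], [4, 5, 6],
    [0, 2, 4, 5, 6, 10], [2, 5, 6, 7, 10], [0, 2, 4, 5, 7, 9], [0, 1, 3, 4, 5, 6, 9], [3, 7, 8], [0, 3, 4, 8],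
    [0, 1, 2, 4, 6, 7, 8, 9], [1, 2, 8, 9], [2, 3, 4, 5, 9, 10], [3, 5, 6, 7, 9, 10], [0, 2, 8, 10], [1, 7, 8, 10],
    [0, 1, 4, 5, 8, 10], [2, 4, 5, 7, 8, 10], [0, 1, 2, 5, 8, 10], [5, 7, 8, 10], [1, 2, 4, 5, 7, 8, 10],
    [0, 4, 5, 8, 10], [1, 5, 7, 8, 10], [0, 2, 5, 8, 10], [1, 2, 4, 6, 10], [1, 2, 6, 7, 10], [0, 1, 4, 5, 7, 8],
    [0, 1, 5, 8], [1, 2, 5, 7, 8, 9, 10], [3, 5, 6, 8, 9, 10], [2, 3, 5, 7, 8, 10], [0, 1, 3, 5, 8, 10],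
    [1, 2, 5, 6, 7], [1, 2, 5, 6], [5, 6], [5, 6, 7], [2, 5, 6], [2, 5, 6, 7], [4, 7, 8, 9, 10],
    [1, 2, 3, 4, 6, 8, 9, 10], [1, 5, 6], [1, 5, 6, 7], [0, 3, 4, 5, 7, 9, 10], [1, 3, 5, 6, 9, 10],
    [1, 2, 4, 5, 10], [2, 5, 7, 10], [0, 4, 8, 9, 10], [1, 3, 4, 6, 7, 8, 9, 10], [1, 3, 6, 8, 9, 10],
    [2, 7, 8, 9, 10], [1, 4, 5, 7, 9, 10], [0, 5, 6, 9, 10], [0, 2, 3, 4, 5, 8, 10], [1, 3, 4, 5, 7, 8, 10],
    [0, 1, 2, 3, 5, 6, 7, 9, 10], [0, 1, 3, 4, 5, 9, 10], [0, 2, 5, 6, 10], [2, 4, 5, 6, 7, 10],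
    [0, 3, 5, 6, 7, 8, 10], [1, 2, 3, 5, 6, 8, 10], [0, 2, 3, 6, 7, 8], [0, 1, 2, 3, 4, 6, 8], [0, 3, 6, 8, 9],
    [0, 1, 2, 3, 4, 7, 8, 9], [0, 4, 6, 8, 9, 10], [0, 1, 2, 3, 4, 7, 8, 9, 10], [1, 2, 4, 6, 7, 8, 9, 10],
    [0, 2, 3, 4, 8, 9, 10], [0, 1, 2, 3, 4, 9, 10], [1, 3, 6, 7, 9, 10], [0, 1, 2, 3, 6, 9, 10],
    [0, 2, 3, 4, 7, 9, 10], [0, 2, 3, 8, 9, 10], [1, 2, 6, 7, 8, 9, 10], [0, 1, 2, 3, 7, 8, 9, 10],
    [0, 6, 8, 9, 10], [0, 1, 2, 3, 4, 6, 9, 10], [0, 2, 3, 7, 9, 10], [1, 3, 4, 6, 7, 9, 10], [0, 1, 2, 3, 9, 10],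
    [4, 5, 7, 8, 9], [0, 1, 2, 5, 6, 8, 9], [2, 3, 4, 5, 6, 8], [0, 1, 2, 3, 5, 6, 7, 8], [1, 2, 5, 6, 7, 8, 9, 10],
    [0, 2, 3, 5, 8, 9, 10], [1, 3, 10], [0, 3, 4, 7, 10], [0, 4, 5, 6, 7, 8, 10], [1, 2, 4, 5, 6, 8, 10],
    [0, 1, 2, 5, 6, 9], [0, 3, 5, 7, 9], [0, 3, 4, 5, 8, 9], [0, 3, 5, 6, 7, 8, 9], [3, 4, 5, 7, 8, 10],
    [0, 1, 2, 3, 4, 5, 8, 10], [0, 5, 6, 7, 8], [1, 4, 5, 6, 8], [0, 1, 2, 4, 9, 10], [1, 6, 7, 9, 10],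
    [1, 2, 3, 6, 8, 9, 10], [7, 8, 9, 10], [0, 4, 7, 10], [1, 10], [1, 4, 6, 7, 8, 9, 10], [0, 3, 4, 8, 9, 10],
    [2, 3, 5, 7, 10], [1, 2, 3, 4, 5, 10], [0, 2, 4, 6, 8, 9, 10], [0, 1, 3, 4, 7, 8, 9, 10], [2, 3, 7, 8, 9],
    [1, 3, 4, 6, 8, 9], [0, 2, 4, 5, 6, 7, 8, 10], [1, 4, 5, 6, 8, 10], [0, 1, 2, 4, 6, 7, 8], [0, 2, 6, 8],
    [1, 3, 4, 5, 7, 8, 9, 10], [2, 4, 5, 6, 8, 9, 10], [0, 1, 2, 3, 5, 8, 10], [3, 5, 7, 8, 10], [0, 4, 5, 7, 9],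
    [0, 1, 2, 3, 4, 5, 6, 9], [5, 6, 8, 9], [0, 1, 2, 4, 5, 7, 8, 9], [1, 5, 7], [1, 5], [1, 2, 5, 7, 10],
    [2, 4, 5, 10], [0, 1, 2, 6, 8], [0, 2, 4, 6, 7, 8], [0, 1, 2, 3, 4, 6, 7, 8, 9], [1, 2, 3, 8, 9]]

/-- Normal forms at 2, part 2. -/
def elts2_2 : List (List ℕ) := [[1, 3, 4, 6, 8, 9, 10], [2, 4, 7, 8, 9, 10], [0, 1, 2, 5, 7, 8, 9], [4, 5, 6, 8, 9], [2, 3, 4, 5, 10],
    [1, 2, 3, 5, 7, 10], [0, 2, 3, 8, 10], [1, 3, 7, 8, 10], [7, 8], [0, 4, 8], [1, 3, 5, 7], [1, 3, 5],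
    [1, 3, 4, 7, 9, 10], [3, 6, 9, 10], [1, 3, 5, 7, 8, 10], [0, 2, 3, 5, 8, 10], [1, 4, 10], [0, 7, 10],
    [1, 2, 5, 7], [1, 2, 5], [1, 2, 3, 4, 5, 7, 8, 9, 10], [4, 5, 6, 8, 9, 10], [0, 4, 6, 8, 9], [0, 1, 2, 7, 8, 9],
    [0, 3, 6], [0, 3, 6, 7], [0, 2, 3, 4, 6, 8], [0, 1, 2, 3, 6, 7, 8], [0, 4, 5, 6, 7, 8], [1, 5, 6, 8],
    [0, 2, 3, 4, 5, 6, 7, 8, 9, 10], [1, 2, 4, 5, 8, 9, 10], [0, 1, 2, 3, 7], [0, 1, 2, 3],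
    [1, 2, 3, 4, 5, 6, 8, 9, 10], [4, 5, 7, 8, 9, 10], [0, 3, 4, 5, 7, 8, 10], [1, 2, 3, 4, 5, 8, 10],
    [0, 1, 4, 5, 7, 9, 10], [5, 6, 9, 10], [1, 2, 3, 5, 6, 7, 8, 10], [0, 3, 5, 6, 8, 10], [0, 2, 3], [0, 2, 3, 7],
    [0, 3, 4, 7, 8, 9], [0, 1, 2, 3, 6, 8, 9], [2, 3, 4, 5, 6, 7, 8, 9, 10], [0, 1, 2, 4, 5, 8, 9, 10],
    [3, 4, 8, 9, 10], [0, 1, 4, 6, 7, 8, 9, 10], [2, 3, 8, 9, 10], [0, 1, 2, 6, 7, 8, 9, 10], [2, 3, 4, 5, 8, 10],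
    [0, 1, 3, 4, 5, 7, 8, 10], [0, 2, 3, 5], [0, 2, 3, 5, 7], [0, 3, 4, 10], [1, 3, 7, 10], [1, 2, 3, 6, 9, 10],
    [2, 3, 4, 7, 9, 10], [1, 4, 5, 6, 7, 9, 10], [1, 2, 5, 9, 10], [0, 1, 2, 5, 6, 7, 8, 9, 10],
    [2, 3, 5, 8, 9, 10], [2, 6, 8, 9], [1, 4, 7, 8, 9], [3, 5, 7, 9], [1, 2, 5, 6, 9], [0, 1, 3, 4, 7, 9, 10],
    [0, 3, 6, 9, 10], [2, 3, 5, 7, 8, 9, 10], [1, 5, 6, 8, 9, 10], [2, 3, 6, 7, 9, 10], [0, 3, 4, 9, 10],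
    [2, 3, 4, 8, 9, 10], [0, 1, 2, 4, 6, 7, 8, 9, 10], [0, 7, 8, 9], [0, 1, 2, 4, 6, 8, 9], [1, 2, 3, 4, 5, 6, 9],
    [4, 5, 7, 9], [0, 2, 4, 5, 6, 7, 9], [1, 2, 3, 4, 5, 9], [1, 3, 5, 6, 8, 9], [0, 2, 3, 4, 5, 7, 8, 9],
    [3, 5, 6, 7, 8, 9], [3, 4, 5, 8, 9], [0, 4, 5, 6, 7, 9], [1, 3, 4, 5, 9], [0, 2, 4, 9], [1, 2, 3, 4, 6, 7, 9],
    [2, 5, 6, 10], [0, 2, 4, 5, 6, 7, 10], [1, 2, 3, 4, 6, 9, 10], [2, 3, 7, 9, 10], [1, 2, 3, 5, 8, 10],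
    [0, 3, 5, 7, 8, 10], [3, 6], [3, 6, 7], [1, 2, 3, 4, 6, 7, 8, 9], [0, 1, 2, 3, 8, 9], [0, 7, 8], [4, 8],
    [0, 1, 2, 3, 4, 7], [0, 1, 2, 3, 4], [2, 3, 8, 10], [0, 1, 3, 7, 8, 10], [2, 3, 4, 5, 6, 7, 8],
    [0, 1, 2, 3, 5, 6, 8], [0, 2, 3, 9], [1, 2, 6, 7, 9], [0, 2, 3, 4], [0, 2, 3, 4, 7], [4, 8, 9, 10],
    [0, 1, 3, 4, 6, 7, 8, 9, 10], [0, 2, 3, 5, 9], [1, 2, 5, 6, 7, 9], [0, 3, 4, 5, 6, 7, 9], [1, 4, 5, 9],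
    [0, 1, 3, 5, 7, 8, 10], [2, 3, 5, 8, 10], [0, 4, 5, 6, 8, 10], [1, 2, 4, 5, 6, 7, 8, 10],
    [0, 1, 2, 3, 4, 5, 7, 8, 10], [3, 4, 5, 8, 10], [0, 1, 2, 4, 6, 10], [0, 1, 2, 6, 7, 10], [0, 2, 3, 4, 9],
    [1, 2, 4, 6, 7, 9], [1, 3, 4, 5, 7, 8], [1, 3, 5, 8], [0, 3, 4], [0, 3, 4, 7], [0, 2, 3, 4, 5, 6, 8, 9],
    [1, 3, 5, 7, 8, 9], [0, 4, 9, 10], [2, 6, 7, 9, 10], [1, 2, 5, 6, 8, 9, 10], [3, 5, 7, 8, 9, 10],
    [2, 5, 8, 9, 10], [0, 1, 2, 3, 5, 6, 7, 8, 9, 10], [1, 3, 4, 5, 8, 10], [0, 2, 3, 4, 5, 7, 8, 10],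
    [0, 1, 3, 4, 7], [0, 1, 3, 4], [0, 2, 5, 9], [1, 2, 3, 5, 6, 7, 9], [2, 4, 5, 6, 10], [0, 2, 5, 6, 7, 10],
    [0, 1, 2, 3, 6, 7, 8, 9, 10], [2, 8, 9, 10], [0, 4, 5, 7, 10], [0, 1, 5, 10], [3, 6, 8], [1, 3, 4, 6, 7, 8],
    [0, 2, 9], [1, 2, 3, 6, 7, 9], [0, 4, 9], [1, 3, 4, 6, 7, 9], [4, 6], [4, 6, 7], [0, 1, 2, 5, 7, 8, 10],
    [5, 8, 10], [0, 1, 3, 6, 7, 8, 9, 10], [8, 9, 10], [3, 5, 8, 9], [3, 4, 5, 6, 7, 8, 9], [3, 8], [0, 3, 4, 7, 8],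
    [0, 1, 5, 6, 7], [0, 1, 5, 6], [0, 5, 6, 8], [1, 4, 5, 6, 7, 8], [4, 5, 8, 10], [0, 1, 2, 4, 5, 7, 8, 10],
    [0, 2, 3, 5, 7, 8, 9], [1, 3, 4, 5, 6, 8, 9], [0, 1, 4, 5, 6], [0, 1, 4, 5, 6, 7], [5, 8, 9, 10],
    [0, 1, 3, 5, 6, 7, 8, 9, 10], [8, 10], [0, 1, 2, 7, 8, 10], [3, 5, 8], [3, 4, 5, 7, 8], [3, 8, 9],
    [0, 3, 4, 6, 7, 8, 9], [5, 8, 9], [4, 5, 6, 7, 8, 9], [8], [0, 4, 7, 8], [0, 1, 2, 3, 7, 8, 10], [3, 8, 10],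
    [3, 5, 8, 9, 10], [0, 1, 5, 6, 7, 8, 9, 10], [0, 3, 4, 5, 7, 10], [0, 1, 3, 5, 10], [5, 8], [4, 5, 7, 8],
    [8, 9], [0, 4, 6, 7, 8, 9], [0, 1, 6, 7, 8, 9, 10], [3, 8, 9, 10], [3, 5, 8, 10], [0, 1, 2, 3, 5, 7, 8, 10],
    [1, 2, 3, 5, 9, 10], [1, 3, 4, 5, 6, 7, 9, 10], [0], [0, 7], [0, 5, 9], [1, 3, 5, 6, 7, 9],
    [2, 3, 4, 6, 7, 9, 10], [0, 3, 9, 10], [0, 3, 5, 10], [0, 1, 3, 4, 5, 7, 10], [0, 6, 7, 8, 10],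
    [1, 2, 6, 8, 10], [0, 2, 3, 6, 10], [0, 2, 3, 4, 6, 7, 10], [0, 1, 4], [0, 1, 4, 7], [0, 3, 4, 6, 9, 10],
    [0, 1, 3, 7, 9, 10], [2, 4, 6, 8, 10], [0, 1, 4, 6, 7, 8, 10], [0, 9], [1, 3, 6, 7, 9], [0, 5], [0, 5, 7],
    [1, 3, 4, 7, 10], [0, 3, 10], [0, 3, 5, 9, 10], [0, 2, 3, 4, 5, 6, 7, 9, 10], [0, 5, 9, 10],
    [0, 2, 4, 5, 6, 7, 9, 10], [0, 10], [1, 4, 7, 10], [0, 3, 9], [1, 6, 7, 9], [0, 3, 5], [0, 3, 5, 7],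
    [1, 3, 4, 5, 6, 9], [2, 4, 5, 7, 9], [0, 5, 10], [0, 1, 4, 5, 7, 10], [0, 9, 10], [2, 4, 6, 7, 9, 10], [0, 3],
    [0, 3, 7], [0, 3, 5, 9], [1, 5, 6, 7, 9], [6, 7, 8], [1, 4, 6, 8], [0, 1, 2, 5, 6, 7], [0, 1, 2, 5, 6],
    [0, 5, 7, 8, 10], [1, 2, 5, 8, 10]]

/-- Normal forms at 2, part 3. -/
def elts2_3 : List (List ℕ) := [[1, 4, 5, 6, 7, 8, 10], [0, 2, 4, 5, 6, 8, 10], [0, 1, 2, 4, 5, 6], [0, 1, 2, 4, 5, 6, 7], [1, 2, 4, 5, 8, 10],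
    [0, 4, 5, 7, 8, 10], [2, 4, 5, 7, 8, 9, 10], [1, 3, 4, 5, 6, 8, 9, 10], [4, 5, 6, 7, 8, 9, 10],
    [0, 1, 3, 4, 5, 8, 9, 10], [2, 3, 6], [2, 3, 6, 7], [1, 2, 4, 6, 7, 8, 9], [0, 1, 2, 8, 9],
    [0, 1, 3, 5, 6, 7, 10], [1, 3, 4, 5, 6, 10], [2, 3, 5, 7, 9], [1, 5, 6, 9], [0, 1, 3, 7], [0, 1, 3], [6, 8, 10],
    [0, 1, 2, 6, 7, 8, 10], [3, 4, 8], [0, 3, 7, 8], [0, 2, 4], [0, 2, 4, 7], [0, 2, 4, 6, 7, 8, 10],
    [1, 4, 6, 8, 10], [0, 1, 2], [0, 1, 2, 7], [1, 4, 5, 7, 8], [1, 5, 8], [0, 3, 4, 9], [1, 4, 6, 7, 9],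
    [2, 3, 5, 6, 7, 8], [0, 1, 2, 3, 4, 5, 6, 8], [0, 1, 3, 5, 7, 9, 10], [3, 4, 5, 6, 9, 10],
    [0, 2, 3, 5, 7, 8, 10], [1, 3, 5, 8, 10], [5, 7, 9, 10], [0, 1, 4, 5, 6, 9, 10], [1, 4, 5, 8, 10],
    [0, 2, 4, 5, 7, 8, 10], [0, 4, 5, 6, 7], [0, 4, 5, 6], [0, 2, 5, 7, 8, 10], [1, 5, 8, 10], [0, 5, 6],
    [0, 5, 6, 7], [0, 2, 6, 7, 10], [0, 2, 4, 6, 10], [0, 1, 2, 3, 4, 6, 7, 8, 9, 10], [2, 4, 8, 9, 10], [1, 7, 10],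
    [0, 4, 10], [0, 4], [0, 4, 7], [0, 4, 6, 7, 8, 10], [1, 2, 4, 6, 8, 10], [0, 1], [0, 1, 7], [2, 6, 8, 10],
    [0, 1, 6, 7, 8, 10], [1, 6, 7, 8], [4, 6, 8], [0, 1, 4, 5, 8, 9, 10], [3, 4, 5, 6, 7, 8, 9, 10],
    [2, 4, 5, 6, 7, 8, 9, 10], [0, 1, 2, 3, 4, 5, 8, 9, 10], [0, 2, 3, 4, 5, 6, 7, 9], [1, 2, 4, 5, 9], [2, 4, 6],
    [2, 4, 6, 7], [3, 4, 6, 7, 8], [1, 3, 6, 8], [0, 2, 4, 5, 6, 7], [0, 2, 4, 5, 6], [2, 4, 5, 8, 10],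
    [0, 1, 4, 5, 7, 8, 10], [0, 2, 3, 5, 6, 8, 10], [1, 3, 5, 6, 7, 8, 10], [0, 2, 5, 6], [0, 2, 5, 6, 7],
    [0, 1, 5, 7, 8, 10], [2, 5, 8, 10], [0, 2, 5], [0, 2, 5, 7], [5, 6, 7, 8, 9], [4, 5, 8, 9], [3, 4, 5, 7, 9, 10],
    [0, 1, 3, 5, 6, 9, 10], [4, 6, 8, 10], [0, 1, 2, 4, 6, 7, 8, 10], [0, 2], [0, 2, 7], [0, 2, 6, 7, 8, 10],
    [1, 6, 8, 10], [0, 4, 5, 6, 8], [1, 5, 6, 7, 8], [0, 1, 2, 4], [0, 1, 2, 4, 7], [2, 3, 4, 6, 8, 9],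
    [1, 3, 7, 8, 9], [0, 1, 3, 4, 5, 6, 7, 10], [1, 3, 5, 6, 10], [0, 1, 2, 3, 4, 6, 7, 10], [0, 1, 2, 3, 6, 10],
    [2, 8, 10], [0, 1, 7, 8, 10], [1, 3, 4, 5, 7, 8, 9], [0, 2, 3, 5, 6, 8, 9], [0, 1, 3, 4, 6, 8, 9, 10],
    [0, 2, 4, 7, 8, 9, 10], [3, 5, 6, 10], [0, 3, 4, 5, 6, 7, 10], [1, 2, 3, 4, 5, 8], [1, 2, 3, 5, 7, 8],
    [1, 2, 4, 6, 7], [1, 2, 4, 6], [0, 4, 5, 6, 8, 9, 10], [0, 1, 2, 3, 4, 5, 7, 8, 9, 10], [0, 1, 6, 10],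
    [0, 1, 4, 6, 7, 10], [0, 1, 3, 5, 7], [0, 1, 3, 5], [2, 4, 8, 9], [0, 2, 6, 7, 8, 9], [0, 2, 3, 4, 5, 6, 8],
    [1, 2, 3, 5, 6, 7, 8], [0, 1, 2, 5, 8, 9], [0, 1, 2, 4, 5, 6, 7, 8, 9], [1, 4, 6, 9, 10], [7, 9, 10],
    [0, 1, 4, 10], [7, 10], [1, 2, 3, 6, 7], [1, 2, 3, 6], [2, 3, 6, 7, 8], [1, 2, 3, 4, 6, 8], [4, 6, 9],
    [1, 2, 3, 4, 7, 9], [0, 1, 4, 7, 8], [1, 8], [2, 4, 5, 6, 9, 10], [0, 1, 2, 5, 7, 9, 10], [0, 1, 2, 5, 7, 10],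
    [0, 2, 4, 5, 10], [0, 1, 2, 5, 7], [0, 1, 2, 5], [0, 1, 2, 5, 7, 9], [0, 3, 5, 6, 9], [2, 3, 5, 6, 9, 10],
    [0, 1, 2, 3, 4, 5, 7, 9, 10], [0, 1, 4, 5, 6, 8, 10], [2, 4, 5, 6, 7, 8, 10], [1, 2, 3, 4, 9, 10],
    [0, 1, 3, 6, 7, 9, 10], [0, 1, 3, 4, 6, 10], [0, 1, 3, 6, 7, 10], [4, 7, 9, 10], [1, 6, 9, 10], [4, 7, 10],
    [0, 1, 10], [0, 1, 3, 6, 8, 9, 10], [0, 2, 7, 8, 9, 10], [3, 4, 5, 6, 10], [0, 3, 5, 6, 7, 10],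
    [0, 1, 3, 4, 8, 9], [1, 3, 6, 7, 8, 9], [1, 3, 4, 7, 8, 9, 10], [2, 4, 6, 8, 9, 10], [1, 2, 3, 7, 8, 9, 10],
    [6, 8, 9, 10], [0, 1, 5, 7], [0, 1, 5], [0, 5, 6, 8, 9], [1, 2, 4, 5, 7, 8, 9], [0, 1, 2, 5, 6, 7, 10],
    [1, 2, 4, 5, 6, 10], [0, 3, 6, 7, 10], [0, 3, 4, 6, 10], [0, 2, 3, 4, 5, 10], [0, 1, 2, 3, 5, 7, 10],
    [0, 2, 4, 5, 6, 8, 9, 10], [0, 1, 3, 4, 5, 7, 8, 9, 10], [1, 3, 7, 9], [2, 6, 9], [0, 2, 3, 5, 7, 10],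
    [0, 1, 2, 3, 4, 5, 10], [1, 3, 4, 5, 9, 10], [1, 2, 3, 5, 6, 7, 9, 10], [4, 6, 8, 9], [1, 2, 7, 8, 9],
    [0, 2, 4, 5, 6, 9], [0, 1, 3, 4, 5, 7, 9], [2, 4, 5, 7, 9, 10], [0, 1, 2, 5, 6, 9, 10], [1, 3, 8, 10],
    [0, 2, 3, 7, 8, 10], [1, 2, 8, 10], [0, 7, 8, 10], [0, 4, 6, 7, 10], [0, 6, 10], [1, 2, 6, 8], [2, 4, 6, 7, 8],
    [0, 2, 3, 7, 8, 9], [0, 1, 3, 4, 6, 8, 9], [5, 6, 7, 8], [0, 1, 4, 5, 6, 8], [2, 3, 4, 6, 8],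
    [1, 2, 3, 6, 7, 8], [1, 2, 5, 7, 8, 9], [0, 4, 5, 6, 8, 9], [0, 1, 3, 10], [3, 4, 7, 10],
    [1, 2, 3, 4, 7, 8, 9, 10], [4, 6, 8, 9, 10], [0, 1, 2, 7, 9, 10], [0, 2, 4, 6, 9, 10], [2, 4, 6, 9],
    [1, 3, 4, 7, 9], [0, 1, 3, 4, 6, 7, 9, 10], [1, 2, 3, 9, 10], [0, 2, 4, 7, 9], [0, 1, 3, 4, 6, 9],
    [0, 4, 5, 6, 9], [0, 1, 2, 3, 4, 5, 7, 9], [1, 4, 6, 7], [1, 4, 6], [4, 5, 6, 7, 8], [0, 1, 5, 6, 8],
    [1, 2, 4, 9, 10], [0, 1, 6, 7, 9, 10], [1, 2, 5, 7, 8], [1, 2, 4, 5, 8], [2, 3, 5, 7, 8], [2, 3, 4, 5, 8],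
    [3, 5, 6, 7, 8, 10], [0, 1, 2, 3, 5, 6, 8, 10], [0, 1, 3, 7, 8], [1, 3, 4, 8], [3, 6, 8, 9],
    [1, 2, 3, 4, 7, 8, 9], [2, 4, 5, 8], [2, 5, 7, 8], [0, 1, 2, 3, 6, 8, 9, 10], [0, 7, 8, 9, 10], [2, 6, 8],
    [1, 2, 4, 6, 7, 8], [4, 5, 6, 7, 8, 10], [0, 1, 2, 4, 5, 6, 8, 10], [0, 1, 2, 4, 5, 10], [0, 2, 5, 7, 10],
    [0, 2, 3, 6, 7, 8, 9], [2, 3, 4, 8, 9]]

/-- Normal forms at 2, part 4. -/
def elts2_4 : List (List ℕ) := [[0, 1, 5, 7, 9], [0, 2, 3, 5, 6, 9], [0, 4, 5, 7, 8, 9], [1, 2, 5, 6, 8, 9], [0, 1, 3, 4, 7, 8], [1, 3, 8],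
    [1, 8, 10], [0, 2, 7, 8, 10], [1, 6, 7, 8, 9], [0, 1, 4, 8, 9], [0, 4, 7, 9], [0, 1, 2, 3, 4, 6, 9],
    [1, 2, 4, 5, 6, 8, 9], [0, 5, 7, 8, 9], [0, 2, 7, 9], [0, 1, 3, 6, 9], [1, 4, 8], [0, 1, 7, 8], [1, 2, 3, 7, 9],
    [6, 9], [0, 1, 2, 4, 5, 8, 9], [0, 1, 2, 5, 6, 7, 8, 9], [0, 2, 3, 5, 6, 8], [1, 2, 3, 4, 5, 6, 7, 8],
    [3, 7, 10], [0, 1, 3, 4, 10], [0, 1, 5, 7, 8, 9, 10], [0, 2, 3, 5, 6, 8, 9, 10], [0, 1, 4, 6, 7, 9, 10],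
    [1, 2, 9, 10], [1, 3, 6, 7], [1, 3, 6], [0, 1, 2, 3, 4, 5, 6, 7, 8, 9], [0, 1, 2, 3, 5, 8, 9],
    [0, 1, 3, 5, 6, 8, 10], [2, 3, 5, 6, 7, 8, 10], [0, 2, 4, 5, 9, 10], [0, 5, 6, 7, 9, 10], [0, 4, 7, 8, 9, 10],
    [0, 1, 2, 3, 4, 6, 8, 9, 10], [0, 1, 2, 4, 7, 9, 10], [0, 2, 6, 9, 10], [0, 2, 4, 7, 8, 9], [0, 1, 6, 8, 9],
    [2, 6, 8, 9, 10], [1, 3, 7, 8, 9, 10], [0, 1, 2, 3, 5, 6, 7, 8, 9], [0, 1, 2, 3, 4, 5, 8, 9],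
    [0, 1, 2, 4, 5, 6, 7, 10], [1, 2, 5, 6, 10], [0, 3, 5, 6, 7, 9, 10], [0, 2, 3, 4, 5, 9, 10], [0, 7, 9],
    [0, 1, 2, 3, 6, 9], [2, 3, 5, 7, 9, 10], [0, 1, 2, 3, 4, 5, 6, 9, 10], [0, 3, 7, 8, 10], [1, 2, 3, 8, 10],
    [0, 1, 2, 5, 7, 8, 9, 10], [0, 3, 5, 6, 8, 9, 10], [1, 4, 5, 9, 10], [1, 2, 5, 6, 7, 9, 10], [0, 1, 2, 3, 5, 7],
    [0, 1, 2, 3, 5], [3, 4, 5, 6, 8, 9, 10], [1, 2, 4, 5, 7, 8, 9, 10], [1, 3, 5, 7, 8, 9, 10], [2, 5, 6, 8, 9, 10],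
    [3, 6, 7, 9], [0, 1, 9], [0, 1, 2, 3, 4, 9], [2, 4, 6, 7, 9], [1, 2, 3, 4, 5, 7], [1, 2, 3, 4, 5],
    [2, 4, 6, 7, 10], [2, 6, 10], [2, 7, 8, 9], [1, 4, 6, 8, 9], [0, 5, 6, 7, 8, 9, 10], [1, 3, 5, 8, 9, 10],
    [1, 2, 3, 4, 8, 9], [0, 1, 2, 3, 6, 7, 8, 9], [3, 4, 5, 6], [3, 4, 5, 6, 7], [1, 3, 4, 5, 6, 9, 10],
    [0, 3, 5, 7, 9, 10], [3, 6, 7, 8, 9], [0, 3, 4, 8, 9], [0, 2, 3, 6, 8], [0, 1, 2, 3, 4, 6, 7, 8],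
    [0, 1, 7, 8, 9, 10], [0, 2, 3, 6, 8, 9, 10], [3, 4, 5, 6, 7, 9, 10], [2, 3, 5, 9, 10], [0, 1, 2, 3, 5, 6, 8, 9],
    [3, 4, 5, 7, 8, 9], [1, 2, 5, 8, 9, 10], [0, 2, 3, 5, 6, 7, 8, 9, 10], [1, 3, 4, 5, 6, 7], [1, 3, 4, 5, 6],
    [1, 4, 6, 8, 9, 10], [2, 3, 4, 7, 8, 9, 10], [2, 3, 4, 7, 8, 9], [1, 3, 6, 8, 9], [0, 1, 2, 3, 5, 6, 9],
    [0, 5, 7, 9], [2, 3, 9, 10], [0, 3, 4, 6, 7, 9, 10], [1, 3, 4, 5, 6, 7, 8, 9, 10], [0, 4, 5, 8, 9, 10],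
    [0, 6, 7, 9, 10], [2, 4, 9, 10], [1, 7, 9, 10], [4, 6, 9, 10], [0, 3, 4, 6, 8, 9], [0, 1, 2, 3, 7, 8, 9],
    [0, 1, 2, 4, 6, 9, 10], [0, 2, 7, 9, 10], [0, 3, 5, 6, 9, 10], [1, 3, 4, 5, 7, 9, 10], [1, 6, 8, 9, 10],
    [2, 3, 7, 8, 9, 10], [3, 4, 5, 6, 8, 9], [0, 1, 2, 3, 5, 7, 8, 9], [0, 1, 5, 9, 10],
    [0, 1, 2, 4, 5, 6, 7, 9, 10], [1, 3, 4, 5, 6, 7, 8, 9], [1, 3, 5, 8, 9], [0, 1, 3, 5, 6, 9], [0, 2, 5, 7, 9],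
    [1, 2, 4, 5, 6, 7, 8, 9, 10], [0, 2, 3, 4, 5, 8, 9, 10], [1, 4, 5, 8, 9], [1, 5, 6, 7, 8, 9],
    [0, 3, 5, 6, 7, 8, 9, 10], [1, 5, 8, 9, 10], [0, 4, 5, 6, 9, 10], [1, 5, 7, 9, 10], [0, 1, 2, 4, 7, 8, 9, 10],
    [0, 3, 4, 6, 8, 9, 10], [3, 4, 7, 8, 9, 10], [1, 2, 4, 6, 8, 9, 10], [0, 1, 3, 4, 9], [4, 6, 7, 9],
    [1, 4, 5, 6, 7, 8, 9], [1, 5, 8, 9], [2, 3, 6, 7, 9], [0, 1, 2, 9], [2, 3, 4, 9, 10], [0, 3, 6, 7, 9, 10],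
    [1, 2, 6, 10], [1, 2, 4, 6, 7, 10], [1, 5, 6, 7, 10], [0, 1, 4, 5, 6, 10], [3, 5, 7, 8, 9],
    [0, 1, 2, 3, 4, 5, 6, 8, 9], [3, 5, 6, 7], [3, 5, 6], [0, 1, 5, 7, 8], [0, 1, 4, 5, 8],
    [0, 1, 2, 3, 4, 5, 6, 7, 9, 10], [0, 1, 3, 5, 9, 10], [0, 2, 3, 4, 6, 7, 8], [0, 1, 2, 3, 6, 8], [6, 9, 10],
    [1, 4, 7, 9, 10], [0, 1, 2, 6, 7, 8, 9], [1, 2, 4, 8, 9], [0, 3, 5, 6, 7, 8], [1, 3, 4, 5, 6, 8],
    [1, 2, 3, 5, 10], [2, 3, 4, 5, 7, 10], [0, 3, 4, 5, 8, 9, 10], [1, 4, 5, 6, 7, 8, 9, 10], [3, 4, 6, 7, 9],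
    [0, 1, 4, 9], [1, 2, 3, 4, 5, 7, 10], [2, 3, 5, 10], [0, 3, 6, 8, 9, 10], [0, 1, 2, 7, 8, 9, 10],
    [1, 3, 4, 7, 8, 10], [0, 2, 3, 4, 8, 10], [6, 7, 9], [0, 1, 3, 9], [2, 3, 10], [0, 1, 2, 3, 4, 7, 10],
    [1, 2, 4, 7, 8], [0, 1, 2, 8], [0, 2, 3, 4, 5, 7, 9], [0, 1, 4, 5, 6, 9], [0, 4, 5, 8], [0, 5, 7, 8],
    [0, 3, 4, 6], [0, 3, 4, 6, 7], [1, 3, 4, 5, 6, 8, 10], [0, 2, 3, 4, 5, 6, 7, 8, 10], [1, 3, 5, 6],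
    [1, 3, 5, 6, 7], [0, 3, 4, 5, 7, 9], [0, 1, 2, 4, 5, 6, 9], [0, 1, 2, 6, 7, 8], [0, 2, 4, 6, 8],
    [0, 1, 2, 3, 8], [1, 2, 3, 4, 7, 8], [0, 6, 7], [0, 6], [0, 1, 3, 4, 5, 8], [0, 1, 3, 5, 7, 8],
    [3, 7, 8, 9, 10], [1, 2, 6, 8, 9, 10], [2, 3, 5, 6, 7, 10], [0, 2, 3, 4, 5, 6, 10], [1, 3, 4, 5, 7],
    [1, 3, 4, 5], [0, 1, 2, 4, 6, 8], [0, 2, 6, 7, 8], [2, 3, 4, 5, 6], [2, 3, 4, 5, 6, 7], [0, 2, 6, 7], [0, 2, 6],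
    [2, 5, 6, 8], [0, 1, 2, 4, 5, 6, 7, 8], [0, 3, 4, 5, 6, 7, 8], [1, 3, 5, 6, 8], [1, 2, 4, 5, 7, 10], [2, 5, 10],
    [0, 2, 4, 8, 10], [1, 4, 7, 8, 10], [0, 4, 8, 9], [6, 7, 8, 9], [1, 2, 3, 4, 5, 6, 7], [1, 2, 3, 4, 5, 6],
    [0, 3, 4, 8, 10], [1, 2, 3, 4, 7, 8, 10], [0, 1, 2, 4, 7, 10], [2, 10], [1, 2, 4, 5, 7], [1, 2, 4, 5],
    [2, 3, 4, 6, 7, 9], [0, 1, 2, 4, 9], [0, 2, 3, 4, 6], [0, 2, 3, 4, 6, 7], [0, 1, 2, 4, 8], [1, 2, 7, 8],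
    [1, 2, 3, 6, 7, 10], [1, 2, 3, 4, 6, 10], [0, 3, 5, 7, 8], [0, 3, 4, 5, 8], [1, 2, 3, 5, 8, 9, 10],
    [0, 2, 5, 6, 7, 8, 9, 10], [2, 3, 5, 6, 7], [2, 3, 5, 6], [2, 4, 5, 7, 10], [1, 2, 5, 10],
    [2, 3, 4, 5, 6, 7, 10], [0, 2, 3, 5, 6, 10]]

/-- Normal forms at 2, part 5. -/
def elts2_5 : List (List ℕ) := [[0, 5, 6, 7, 8, 10], [1, 2, 5, 6, 8, 10], [0, 4, 8, 10], [1, 2, 4, 7, 8, 10], [1, 2, 3, 7, 8],
    [0, 1, 2, 3, 4, 8], [2, 6, 7, 9], [0, 1, 2, 3, 9], [1, 4, 5, 6, 7, 10], [0, 1, 5, 6, 10],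
    [0, 3, 4, 5, 6, 7, 8, 10], [1, 2, 3, 4, 5, 6, 8, 10], [2, 4, 10], [0, 1, 2, 7, 10], [0, 1, 2, 6, 9, 10],
    [0, 2, 4, 7, 9, 10], [1, 4, 5, 7], [1, 4, 5], [2, 4, 5, 6, 8], [0, 1, 2, 5, 6, 7, 8], [1, 2, 3, 5, 6],
    [1, 2, 3, 5, 6, 7], [0, 1, 2, 3, 7, 10], [2, 3, 4, 10], [5, 6, 8, 9, 10], [1, 2, 3, 5, 7, 8, 9, 10],
    [0, 6, 8, 9], [0, 1, 2, 4, 7, 8, 9], [1, 4, 5, 7, 8, 9, 10], [2, 3, 4, 5, 6, 8, 9, 10], [0, 2, 5, 6, 7, 8, 10],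
    [1, 5, 6, 8, 10], [1, 5, 6, 9, 10], [0, 4, 5, 7, 9, 10], [3, 5, 6, 8, 9], [0, 1, 2, 3, 4, 5, 7, 8, 9],
    [1, 3, 4, 5, 8, 9], [1, 3, 5, 6, 7, 8, 9], [4, 5, 6, 7, 9, 10], [2, 5, 9, 10], [0, 2, 3, 4, 6, 8, 9, 10],
    [0, 1, 4, 7, 8, 9, 10], [0, 4, 6, 7, 9, 10], [2, 9, 10], [0, 2, 4, 5, 8, 9, 10],
    [1, 2, 3, 4, 5, 6, 7, 8, 9, 10], [2, 3, 4, 6, 10], [2, 3, 6, 7, 10], [2, 5, 6, 7, 9], [0, 1, 2, 3, 5, 9],
    [0, 2, 4, 5, 6, 7, 8], [1, 2, 5, 6, 8], [1, 2, 3, 7, 9, 10], [2, 3, 4, 6, 9, 10], [4, 7, 8, 10],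
    [0, 1, 2, 4, 8, 10], [4, 5, 10], [1, 5, 7, 10], [4, 5], [4, 5, 7], [2, 5, 6, 7, 9, 10], [4, 5, 9, 10],
    [4, 5, 9], [0, 1, 3, 4, 5, 6, 7, 9], [0, 2, 4, 6, 7, 8, 9, 10], [1, 2, 3, 4, 8, 9, 10],
    [0, 1, 2, 3, 5, 6, 8, 9, 10], [0, 5, 7, 8, 9, 10], [0, 2, 3, 5, 6, 7, 8, 9], [0, 2, 3, 4, 5, 8, 9],
    [0, 1, 2, 3, 6, 8, 10], [3, 6, 7, 8, 10], [1, 3, 6, 7, 8, 10], [0, 2, 3, 6, 8, 10], [0, 2, 3, 6, 8, 9],
    [0, 1, 3, 4, 7, 8, 9], [0, 1, 5, 7, 8, 9], [2, 4, 5, 6, 8, 9], [0, 1, 5, 6, 7, 9, 10], [0, 1, 2, 4, 5, 9, 10],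
    [4, 7, 8, 9], [1, 2, 6, 8, 9], [1, 2, 4, 10], [0, 2, 7, 10], [0, 2, 3, 8], [2, 3, 4, 7, 8], [2, 3, 4, 7, 8, 10],
    [0, 1, 3, 4, 8, 10], [0, 1, 2, 3, 5, 6, 10], [1, 2, 3, 4, 5, 6, 7, 10], [2, 5, 6, 9], [1, 3, 5, 7, 9],
    [0, 2, 3, 6, 9], [0, 1, 7, 9], [0, 2, 3, 5, 8], [0, 2, 3, 4, 5, 7, 8], [0, 1, 2, 6], [0, 1, 2, 6, 7],
    [3, 4, 5, 9], [0, 1, 4, 5, 6, 7, 9], [0, 1, 4, 6, 7, 8], [0, 6, 8], [0, 1, 6], [0, 1, 6, 7], [5, 6, 8, 10],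
    [0, 1, 2, 5, 6, 7, 8, 10], [2, 3, 4, 5, 6, 8, 10], [0, 1, 3, 4, 5, 6, 7, 8, 10], [1, 3, 4, 8, 9, 10],
    [0, 4, 6, 7, 8, 9, 10], [0, 2, 3, 4, 6, 9], [0, 1, 4, 7, 9], [1, 6, 9], [2, 3, 7, 9], [2, 4, 5], [2, 4, 5, 7],
    [0, 1, 2, 3, 4, 6, 8, 10], [3, 4, 6, 7, 8, 10], [3, 4, 6, 7, 10], [3, 6, 10], [0, 1, 2, 3, 4, 5, 6, 10],
    [1, 2, 3, 5, 6, 7, 10], [0, 2, 3, 4, 5, 6, 9, 10], [1, 2, 3, 5, 7, 9, 10], [0, 2, 5, 6, 7, 8, 9],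
    [0, 2, 4, 5, 8, 9], [1, 3, 4, 6, 7, 8, 10], [0, 2, 3, 4, 6, 8, 10], [0, 2, 6, 7, 8, 9, 10], [1, 2, 3, 8, 9, 10],
    [0, 1, 2, 3, 4, 5, 9, 10], [0, 1, 3, 5, 6, 7, 9, 10], [0, 5, 6, 10], [4, 5, 6, 7, 10], [1, 2, 3, 4, 7, 9, 10],
    [2, 3, 6, 9, 10], [0, 3, 6, 9], [0, 1, 2, 7, 9], [1, 4, 5, 10], [5, 7, 10], [1, 4, 5, 7, 9], [2, 3, 4, 5, 6, 9],
    [0, 2, 4, 7, 10], [1, 2, 10], [0, 1, 2, 3, 4, 5, 7, 8], [0, 1, 2, 3, 5, 8], [3, 4, 5], [3, 4, 5, 7],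
    [0, 1, 3, 5, 6, 8, 9, 10], [0, 2, 5, 7, 8, 9, 10], [2, 3, 4, 5, 9], [0, 1, 2, 4, 5, 6, 7, 9], [0, 1, 6, 8],
    [0, 4, 6, 7, 8], [2, 5, 6, 8, 10], [0, 1, 5, 6, 7, 8, 10], [0, 2, 4, 6, 8, 9], [0, 1, 7, 8, 9],
    [2, 4, 7, 8, 10], [0, 1, 4, 8, 10], [1, 3, 6, 10], [1, 3, 4, 6, 7, 10], [2, 3, 7, 8], [0, 2, 3, 4, 8],
    [0, 1, 2, 3, 4, 6, 7], [0, 1, 2, 3, 4, 6], [3, 5, 6, 8], [0, 1, 3, 4, 5, 6, 7, 8], [0, 2, 3, 8, 9],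
    [2, 3, 4, 6, 7, 8, 9], [0, 3, 4, 6, 7, 8, 9, 10], [1, 4, 8, 9, 10], [0, 1, 3, 6, 9, 10], [0, 3, 4, 7, 9, 10],
    [1, 2, 3, 6, 7, 9, 10], [0, 1, 3, 4, 9, 10], [0, 2, 5, 6, 7, 8], [1, 2, 4, 5, 6, 8], [1, 2, 3, 4, 10],
    [0, 2, 3, 7, 10], [0, 2, 3, 5, 8, 9], [0, 2, 3, 4, 5, 6, 7, 8, 9], [2, 7, 8], [0, 2, 4, 8],
    [0, 1, 3, 4, 6, 7, 8, 9], [1, 3, 8, 9], [0, 3, 4, 6, 9], [0, 1, 2, 4, 7, 9], [0, 3, 4, 6, 8],
    [0, 1, 3, 6, 7, 8], [0, 1, 3, 4, 6, 7], [0, 1, 3, 4, 6], [2, 3, 4, 6, 7, 8, 10], [0, 1, 3, 4, 6, 8, 10],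
    [0, 2, 3, 6, 7, 8, 9, 10], [1, 2, 8, 9, 10], [5, 6, 7, 9], [0, 1, 3, 5, 9], [3, 4, 7, 9], [1, 2, 4, 6, 9],
    [0, 1, 2, 4, 5, 7, 8], [0, 1, 2, 5, 8], [2, 4, 5, 9], [0, 1, 2, 3, 4, 5, 6, 7, 9], [0, 3, 4, 6, 8, 10],
    [1, 2, 3, 4, 6, 7, 8, 10], [1, 3, 8, 9, 10], [0, 6, 7, 8, 9, 10], [1, 2, 3, 5, 7, 9], [5, 6, 9], [0, 2, 8],
    [2, 4, 7, 8], [1, 4, 6, 10], [1, 6, 7, 10], [1, 2, 6, 7, 9, 10], [0, 1, 4, 9, 10], [2, 3, 5, 6, 7, 9],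
    [0, 1, 2, 5, 9], [0, 2, 5, 8], [0, 2, 4, 5, 7, 8], [3, 4, 5, 6, 8], [0, 1, 3, 5, 6, 7, 8], [3, 7, 8, 9],
    [1, 2, 3, 4, 6, 8, 9], [2, 5, 7, 8, 9], [0, 1, 4, 5, 6, 8, 9], [0, 1, 4, 6, 7, 8, 9], [1, 8, 9],
    [0, 1, 2, 4, 5, 6, 8, 9, 10], [0, 3, 4, 5, 7, 8, 9, 10], [1, 8, 9, 10], [0, 3, 6, 7, 8, 9, 10], [2, 5, 6, 8, 9],
    [0, 1, 4, 5, 7, 8, 9], [1, 2, 6, 9], [3, 7, 9], [0, 1, 9, 10], [1, 2, 4, 6, 7, 9, 10], [1, 2, 4, 5, 7, 9],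
    [3, 4, 5, 6, 9], [2, 3, 5, 6, 7, 9, 10], [3, 4, 5, 9, 10], [2, 4, 5, 7, 8, 9], [0, 1, 5, 6, 8, 9],
    [0, 2, 5, 7, 9, 10], [1, 2, 4, 5, 6, 9, 10], [0, 2, 5, 6, 9, 10], [1, 2, 4, 5, 7, 9, 10], [3, 5, 6, 7, 9],
    [0, 1, 5, 9], [0, 4, 5, 6, 10], [5, 6, 7, 10], [2, 3, 4, 7, 9], [1, 4, 6, 9], [2, 3, 4, 5], [2, 3, 4, 5, 7]]

/-- Normal forms at 2, part 6. -/
def elts2_6 : List (List ℕ) := [[0, 1, 2, 3, 4, 5, 6, 7, 8, 10], [3, 4, 5, 6, 8, 10], [0, 2, 3, 4, 5, 7, 9, 10], [1, 2, 3, 5, 6, 9, 10],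
    [0, 1, 4, 5, 6, 8, 9, 10], [0, 2, 3, 4, 5, 7, 8, 9, 10], [0, 2, 3, 4, 7, 10], [1, 2, 3, 10],
    [2, 3, 6, 7, 8, 10], [0, 1, 3, 6, 8, 10], [0, 1, 2, 3, 4, 8, 10], [3, 4, 7, 8, 10], [0, 2, 8, 9],
    [2, 4, 6, 7, 8, 9], [1, 3, 5, 7, 10], [3, 4, 5, 10], [0, 3, 6, 8, 10], [1, 2, 3, 6, 7, 8, 10], [1, 3, 4, 5, 10],
    [3, 5, 7, 10], [0, 3, 7, 9, 10], [0, 1, 3, 4, 6, 9, 10], [0, 1, 3, 9, 10], [1, 2, 3, 4, 6, 7, 9, 10],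
    [0, 3, 6, 7, 8], [0, 1, 3, 4, 6, 8], [0, 2, 5, 8, 9], [0, 2, 4, 5, 6, 7, 8, 9], [1, 2, 4, 8, 9, 10],
    [0, 2, 3, 4, 6, 7, 8, 9, 10], [6, 7, 10], [4, 6, 10], [0, 2, 5, 10], [0, 1, 2, 4, 5, 7, 10], [0, 1, 2, 4, 5, 7],
    [0, 1, 2, 4, 5], [2, 5, 6, 9, 10], [0, 1, 2, 4, 5, 7, 9, 10], [0, 1, 2, 4, 5, 7, 9], [0, 3, 4, 5, 6, 9],
    [2, 8, 9], [0, 2, 4, 6, 7, 8, 9], [0, 5, 6, 8, 9, 10], [0, 1, 2, 3, 5, 7, 8, 9, 10], [0, 1, 3, 4, 5, 7],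
    [0, 1, 3, 4, 5], [0, 1, 4, 6, 10], [0, 1, 6, 7, 10], [1, 2, 3, 4, 8, 10], [0, 3, 4, 7, 8, 10], [0, 2, 10],
    [1, 2, 4, 7, 10], [2, 5, 8, 9], [2, 4, 5, 6, 7, 8, 9], [3, 6, 7, 8, 9, 10], [0, 1, 8, 9, 10],
    [2, 3, 4, 5, 7, 9, 10], [0, 1, 2, 3, 5, 6, 9, 10], [0, 2, 4, 5, 6, 8], [1, 2, 5, 6, 7, 8], [0, 2, 3, 4, 7, 9],
    [0, 1, 4, 6, 9], [0, 5, 6, 9], [0, 1, 2, 3, 5, 7, 9], [0, 2, 5, 6, 8], [1, 2, 4, 5, 6, 7, 8], [0, 6, 7, 10],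
    [0, 4, 6, 10], [1, 2, 7, 10], [0, 2, 4, 10], [0, 1, 4, 5, 7, 8, 9, 10], [0, 2, 3, 4, 5, 6, 8, 9, 10], [6, 8, 9],
    [1, 2, 4, 7, 8, 9], [2, 5, 7, 9, 10], [0, 1, 2, 4, 5, 6, 9, 10], [0, 1, 5, 6, 8, 10], [2, 5, 6, 7, 8, 10],
    [1, 4, 6, 7, 8, 9], [0, 1, 8, 9], [2, 3, 4, 6, 8, 9, 10], [1, 4, 7, 8, 9, 10], [2, 3, 6, 7, 8, 9, 10],
    [0, 1, 2, 8, 9, 10], [0, 1, 4, 5, 7], [0, 1, 4, 5], [1, 2, 3, 4, 5, 7, 8, 9], [0, 3, 5, 6, 8, 9],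
    [0, 1, 3, 8, 9, 10], [6, 7, 8, 9, 10], [4, 5, 6, 10], [0, 5, 6, 7, 10], [0, 3, 7, 8, 9, 10],
    [0, 1, 2, 6, 8, 9, 10], [3, 4, 5, 6, 7, 8, 10], [0, 1, 2, 3, 4, 5, 6, 8, 10], [1, 2, 4, 5, 7, 8], [1, 2, 5, 8],
    [0, 3, 4, 7, 9], [0, 1, 2, 4, 6, 9], [0, 2, 5, 9, 10], [0, 4, 5, 6, 7, 9, 10], [5, 6, 7, 8, 10],
    [0, 1, 2, 5, 6, 8, 10], [1, 2, 6, 7, 8], [2, 4, 6, 8], [2, 8], [0, 2, 4, 7, 8], [2, 6, 7, 8], [1, 2, 4, 6, 8],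
    [2, 5, 8], [2, 4, 5, 7, 8], [3, 7, 9, 10], [1, 3, 4, 6, 9, 10], [0, 2, 6, 7, 9], [1, 2, 3, 9], [0, 2, 9, 10],
    [4, 6, 7, 9, 10], [1, 3, 4, 6, 7, 8, 9], [0, 1, 3, 8, 9], [0, 2, 3, 4, 6, 7, 9], [1, 2, 4, 9], [3, 4, 6, 9],
    [1, 2, 4, 7, 9], [3, 4, 5, 6, 7, 8], [0, 1, 3, 5, 6, 8], [1, 3, 4, 6, 7], [1, 3, 4, 6], [1, 2, 3, 7, 10],
    [0, 2, 3, 4, 10], [0, 1, 2, 6, 9], [0, 3, 7, 9], [0, 2, 4, 5, 7, 10], [0, 1, 2, 5, 10], [0, 1, 2, 4, 8, 9, 10],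
    [2, 3, 4, 6, 7, 8, 9, 10], [0, 1, 2, 3, 4, 8, 9, 10], [2, 4, 6, 7, 8, 9, 10], [0, 1, 4, 6, 8, 9, 10],
    [0, 2, 3, 4, 7, 8, 9, 10], [3, 6, 7, 9, 10], [0, 2, 3, 4, 9, 10], [0, 1, 2, 3, 4, 7, 9, 10],
    [0, 2, 3, 6, 9, 10], [0, 2, 3, 9, 10], [3, 4, 6, 7, 9, 10], [0, 1, 2, 3, 7, 9, 10], [0, 2, 3, 4, 6, 9, 10],
    [0, 1, 6, 8, 9, 10], [0, 2, 3, 7, 8, 9, 10], [2, 6, 7, 8, 9, 10], [0, 1, 2, 3, 8, 9, 10], [2, 3, 6, 9],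
    [1, 7, 9], [1, 9], [0, 3, 6, 7, 9], [1, 2, 3, 5, 6, 8, 9], [0, 3, 4, 5, 7, 8, 9], [2, 3, 5, 6, 7, 8, 9],
    [2, 3, 4, 5, 8, 9], [2, 3, 5, 8, 9], [2, 3, 4, 5, 6, 7, 8, 9], [0, 3, 5, 7, 8, 9], [1, 2, 3, 4, 5, 6, 8, 9],
    [0, 3, 4, 6, 7, 9], [1, 4, 9], [2, 3, 4, 6, 9], [1, 4, 7, 9], [1, 2, 3, 4, 6, 7], [1, 2, 3, 4, 6],
    [2, 3, 4, 6, 7, 8], [1, 2, 3, 6, 8], [1, 2, 3, 4, 5, 7, 8], [1, 2, 3, 5, 8], [1, 2, 6], [1, 2, 6, 7],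
    [0, 2, 4, 7, 8, 10], [1, 4, 8, 10], [0, 3, 4, 5, 6, 7, 9, 10], [0, 2, 3, 5, 9, 10], [0, 2, 5, 6, 9],
    [0, 1, 3, 5, 7, 9], [2, 3, 8, 9], [0, 2, 3, 4, 6, 7, 8, 9], [0, 2, 7, 8], [2, 4, 8], [0, 3, 4, 5, 6, 8, 9],
    [1, 2, 3, 5, 7, 8, 9], [1, 2, 3, 5, 6, 10], [0, 1, 2, 3, 4, 5, 6, 7, 10], [1, 2, 7, 8, 9, 10], [3, 6, 8, 9, 10],
    [0, 1, 2, 3, 4, 5, 7], [0, 1, 2, 3, 4, 5], [3, 4, 6, 8, 9], [1, 2, 3, 7, 8, 9], [3, 5, 6, 7, 8],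
    [0, 1, 3, 4, 5, 6, 8], [0, 1, 4, 5, 7, 9], [0, 2, 3, 4, 5, 6, 9], [1, 3, 4, 9], [0, 4, 6, 7, 9], [1, 6],
    [1, 6, 7], [1, 3, 6, 9, 10], [3, 4, 7, 9, 10], [0, 3, 4, 5, 6, 8, 9, 10], [0, 1, 2, 4, 5, 7, 8, 9, 10],
    [0, 2, 3, 4, 7, 8, 9], [0, 1, 3, 6, 8, 9], [2, 3, 4, 8], [0, 2, 3, 7, 8], [1, 2, 3, 4, 9], [0, 2, 4, 6, 7, 9],
    [0, 1, 2, 3, 5, 10], [0, 2, 3, 4, 5, 7, 10], [1, 2, 3, 4, 5, 6, 7, 9, 10], [1, 3, 5, 9, 10], [3, 6, 9],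
    [1, 2, 7, 9], [0, 4, 7, 8, 10], [1, 2, 4, 8, 10], [1, 2, 9], [0, 2, 3, 6, 7, 9], [1, 2, 3, 4, 5, 6, 10],
    [0, 1, 2, 3, 5, 6, 7, 10], [0, 1, 2, 4, 6, 8, 9, 10], [0, 3, 4, 7, 8, 9, 10], [0, 1, 3, 4, 8, 9, 10],
    [4, 6, 7, 8, 9, 10], [2, 3, 6, 8], [1, 2, 3, 4, 6, 7, 8], [2, 5, 6, 7, 8, 9], [2, 4, 5, 8, 9],
    [0, 1, 3, 5, 7, 8, 9, 10], [0, 2, 5, 6, 8, 9, 10], [0, 6, 7, 9], [1, 3, 9], [0, 2, 3, 10], [1, 2, 3, 4, 7, 10],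
    [5, 6, 10], [0, 4, 5, 6, 7, 10], [0, 1, 3, 4, 5, 6, 8, 10], [2, 3, 4, 5, 6, 7, 8, 10], [2, 3, 5, 8],
    [2, 3, 4, 5, 7, 8], [1, 7, 8, 9, 10], [2, 3, 6, 8, 9, 10], [0, 3, 4, 6, 7, 10], [0, 3, 6, 10],
    [1, 2, 4, 7, 8, 9, 10], [3, 4, 6, 8, 9, 10], [2, 3, 8], [0, 2, 3, 4, 7, 8], [0, 1, 6, 9], [0, 2, 3, 7, 9]]

/-- Normal forms at 2, part 7. -/
def elts2_7 : List (List ℕ) := [[0, 1, 2, 3, 4, 5, 7, 10], [0, 2, 3, 5, 10], [3, 4, 6, 7, 8, 9, 10], [0, 1, 4, 8, 9, 10], [0, 2, 7, 8, 9],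
    [0, 1, 4, 6, 8, 9], [0, 2, 3, 4, 7, 8, 10], [1, 3, 4, 8, 10], [2, 3, 4, 5, 6, 9, 10], [0, 1, 2, 3, 5, 7, 9, 10],
    [1, 2, 4, 5, 6, 7, 9, 10], [1, 5, 9, 10], [0, 1, 3, 6, 10], [0, 1, 3, 4, 6, 7, 10], [6, 7, 9, 10],
    [0, 2, 4, 9, 10], [3, 4, 6, 8, 10], [0, 1, 2, 3, 4, 6, 7, 8, 10], [1, 2, 6, 9, 10], [2, 4, 7, 9, 10],
    [0, 5, 6, 7, 9], [1, 3, 5, 9], [3, 5, 7, 8], [3, 4, 5, 8], [0, 2, 3, 5, 6, 7], [0, 2, 3, 5, 6],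
    [0, 2, 3, 5, 6, 7, 9], [1, 2, 5, 9], [0, 2, 3, 5, 6, 7, 9, 10], [0, 3, 4, 5, 9, 10], [0, 2, 3, 5, 6, 7, 10],
    [2, 3, 4, 5, 6, 10], [1, 2, 3, 4, 8], [0, 1, 2, 3, 7, 8], [4, 8, 9], [0, 6, 7, 8, 9], [0, 1, 5, 6, 9, 10],
    [4, 5, 7, 9, 10], [3, 6, 7, 8], [1, 3, 4, 6, 8], [0, 1, 2, 3, 5, 6], [0, 1, 2, 3, 5, 6, 7],
    [0, 1, 2, 4, 7, 8, 10], [4, 8, 10], [0, 1, 2, 3, 5, 8, 9, 10], [2, 5, 6, 7, 8, 9, 10],
    [0, 2, 3, 4, 6, 7, 8, 10], [1, 3, 4, 6, 8, 10], [1, 2, 4, 8], [0, 1, 2, 7, 8], [0, 1, 4, 5, 6, 7, 10],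
    [1, 5, 6, 10], [0, 2, 4, 5, 9], [1, 2, 3, 4, 5, 6, 7, 9], [1, 3, 4, 5, 8], [1, 3, 5, 7, 8], [0, 2, 3, 4, 5, 6],
    [0, 2, 3, 4, 5, 6, 7], [0, 3, 4, 5, 6, 8], [1, 3, 5, 6, 7, 8], [0, 1, 4, 7, 8, 10], [2, 4, 8, 10],
    [0, 1, 2, 6, 7, 9, 10], [1, 4, 9, 10], [0, 1, 2, 3, 6, 7, 10], [0, 1, 2, 3, 4, 6, 10],
    [1, 2, 4, 5, 6, 8, 9, 10], [3, 4, 5, 7, 8, 9, 10], [0, 1, 3, 5, 6, 7, 8, 9], [0, 1, 3, 4, 5, 8, 9],
    [0, 2, 3, 4, 6, 10], [0, 2, 3, 6, 7, 10], [1, 3, 9, 10], [0, 1, 2, 3, 4, 6, 7, 9, 10], [3, 4, 6, 8],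
    [1, 3, 6, 7, 8], [0, 1, 3, 4, 5, 10], [0, 3, 5, 7, 10], [3, 4, 8, 10], [0, 1, 2, 3, 4, 7, 8, 10],
    [0, 2, 4, 5, 7, 8, 9], [1, 5, 6, 8, 9], [0, 2, 3, 6, 7, 8, 10], [1, 3, 6, 8, 10], [0, 2, 3, 4, 5],
    [0, 2, 3, 4, 5, 7], [2, 3, 4, 7, 10], [0, 1, 2, 3, 10], [2, 3, 4, 6], [2, 3, 4, 6, 7],
    [1, 2, 3, 4, 5, 6, 7, 8, 10], [0, 3, 4, 5, 6, 8, 10], [2, 4, 5, 8, 9, 10], [0, 1, 2, 3, 4, 5, 6, 7, 8, 9, 10],
    [1, 4, 5, 6, 8, 9], [0, 2, 5, 7, 8, 9], [3, 6, 8, 10], [0, 1, 2, 3, 6, 7, 8, 10], [0, 1, 2, 4, 6, 7, 9, 10],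
    [1, 9, 10], [2, 6, 7], [2, 6], [0, 2, 3, 4, 5, 6, 7, 10], [2, 3, 5, 6, 10], [2, 3, 4, 5, 7, 8, 9, 10],
    [1, 4, 5, 6, 8, 9, 10], [0, 1, 3, 5, 7, 10], [0, 3, 4, 5, 10], [0, 1, 2, 3, 4, 5, 6, 7], [0, 1, 2, 3, 4, 5, 6],
    [0, 3, 5, 6, 7, 9], [1, 5, 9], [0, 2, 5, 6, 8, 9], [1, 4, 5, 7, 8, 9], [0, 3, 7, 8, 9],
    [0, 1, 2, 3, 4, 6, 8, 9], [1, 2, 3, 8], [0, 1, 2, 3, 4, 7, 8], [6, 7], [6], [0, 1, 2, 4, 10], [2, 7, 10],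
    [0, 1, 3, 4, 5, 6, 7, 8, 9, 10], [4, 5, 8, 9, 10], [1, 3, 5, 6, 8, 9, 10], [2, 5, 7, 8, 9, 10], [0, 6, 9, 10],
    [0, 1, 4, 7, 9, 10], [1, 2, 3, 6, 8, 10], [0, 3, 6, 7, 8, 10], [0, 2, 4, 6, 7, 10], [0, 2, 6, 10],
    [0, 1, 3, 4, 7, 8, 10], [2, 3, 4, 8, 10], [1, 3, 4, 9, 10], [0, 1, 2, 3, 6, 7, 9, 10], [0, 4, 5], [0, 4, 5, 7],
    [0, 1, 2, 3, 4, 8, 9], [1, 2, 3, 6, 7, 8, 9], [2, 3, 6, 8, 9], [1, 3, 4, 7, 8, 9], [1, 2, 3, 5, 6, 9],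
    [5, 7, 9], [0, 1, 3, 5, 6], [0, 1, 3, 5, 6, 7], [0, 3, 5, 6, 8], [1, 3, 4, 5, 6, 7, 8], [0, 2, 3, 4, 5, 9],
    [1, 2, 4, 5, 6, 7, 9], [1, 5, 7, 8], [1, 4, 5, 8], [0, 1, 2, 4, 7, 8], [1, 2, 8], [2, 4, 6, 8, 9], [1, 7, 8, 9],
    [3, 4, 6], [3, 4, 6, 7], [0, 1, 5, 8, 9], [0, 1, 4, 5, 6, 7, 8, 9], [0, 1, 5, 7, 10], [0, 4, 5, 10],
    [3, 5, 6, 9, 10], [0, 1, 3, 4, 5, 7, 9, 10], [0, 4, 7, 8, 9], [0, 1, 2, 6, 8, 9], [2, 3, 4, 5, 7, 9],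
    [1, 4, 5, 6, 9], [0, 1, 3, 4, 5, 6, 9, 10], [3, 5, 7, 9, 10], [1, 2, 3, 4, 5, 9, 10], [1, 3, 5, 6, 7, 9, 10],
    [0, 2, 5, 6, 7, 9], [1, 2, 3, 5, 9], [1, 6, 8], [4, 6, 7, 8], [4, 5, 8], [5, 7, 8], [2, 5, 6, 7, 8],
    [0, 1, 2, 4, 5, 6, 8], [0, 3, 4, 5, 9], [1, 4, 5, 6, 7, 9], [0, 1, 3, 4, 5, 6, 7, 8, 9], [0, 1, 3, 5, 8, 9],
    [0, 1, 3, 6, 7, 8, 10], [2, 3, 6, 8, 10], [0, 1, 5, 8, 9, 10], [3, 5, 6, 7, 8, 9, 10], [0, 3, 6, 7, 8, 9],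
    [3, 4, 8, 9], [3, 4, 5, 7, 9], [1, 2, 4, 5, 6, 9], [0, 3, 5, 6, 7], [0, 3, 5, 6], [1, 4, 6, 7, 8], [6, 8],
    [1, 2, 4, 6, 9, 10], [2, 7, 9, 10], [1, 2, 3, 4, 6, 8, 10], [0, 3, 4, 6, 7, 8, 10], [1, 2, 6, 7, 8, 9],
    [0, 1, 2, 4, 8, 9], [0, 3, 4, 5], [0, 3, 4, 5, 7], [5, 6, 7, 8, 9, 10], [0, 1, 3, 5, 8, 9, 10],
    [2, 4, 5, 6, 7, 8], [0, 1, 2, 5, 6, 8], [0, 1, 2, 5, 8, 9, 10], [2, 3, 5, 6, 7, 8, 9, 10], [0, 1, 2, 3, 4, 10],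
    [2, 3, 7, 10], [0, 1, 4, 5, 6, 7, 8, 9, 10], [3, 4, 5, 8, 9, 10], [0, 4, 5, 9], [1, 3, 4, 5, 6, 7, 9],
    [1, 5, 6, 7, 9, 10], [1, 2, 4, 5, 9, 10], [0, 3, 4, 5, 6], [0, 3, 4, 5, 6, 7], [1, 2, 5, 6, 7, 8, 10],
    [0, 5, 6, 8, 10], [1, 5, 7, 8, 9], [0, 2, 4, 5, 6, 8, 9], [1, 2, 3, 5, 6, 8, 9, 10], [5, 7, 8, 9, 10],
    [2, 4, 7, 10], [0, 1, 2, 10], [0, 1, 2, 6, 10], [0, 1, 2, 4, 6, 7, 10], [1, 5, 6, 7, 8, 10],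
    [0, 2, 5, 6, 8, 10], [0, 2, 3, 4, 5, 6, 8, 10], [1, 3, 4, 5, 6, 7, 8, 10], [0, 1, 3, 4, 5, 6, 7],
    [0, 1, 3, 4, 5, 6], [0, 1, 4, 5, 8, 9], [0, 1, 5, 6, 7, 8, 9], [4, 5, 6, 9, 10], [0, 1, 5, 7, 9, 10],
    [0, 1, 4, 5, 10], [0, 5, 7, 10], [0, 1, 7, 9, 10], [0, 4, 6, 9, 10], [0, 1, 5, 6, 7, 10], [1, 4, 5, 6, 10],
    [0, 1, 2, 4, 5, 6, 7, 8, 9, 10], [2, 3, 4, 5, 8, 9, 10], [0, 1, 3, 4, 6, 7, 8, 10], [2, 3, 4, 6, 8, 10],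
    [1, 3, 5, 6, 9], [2, 5, 7, 9], [0, 2, 4, 5], [0, 2, 4, 5, 7], [0, 2, 5, 6, 7, 9, 10], [0, 4, 5, 9, 10]]

/-- The Sylow subgroup at 2. -/
def elts2 : List (List ℕ) := elts2_0 ++ elts2_1 ++ elts2_2 ++ elts2_3 ++ elts2_4 ++ elts2_5 ++ elts2_6 ++ elts2_7

/-- Part of a closed path for the prime 2. -/
def path2_0_0 : List SchurPath.Step :=
  [([], [1], 19, false),
    ([0, 4], [], 16, false),
    ([0], [5], 11, false),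
    ([], [4, 5], 1, true),
    ([1], [], 19, true),
    ([], [4], 16, true),
    ([5], [], 11, true)]

/-- Part of a closed path for the prime 2. -/
def path2_1_0 : List SchurPath.Step :=
  [([], [2], 19, false),
    ([0, 4], [], 17, false),
    ([0], [5], 12, false),
    ([], [4, 5], 3, true),
    ([2], [], 19, true),
    ([], [4], 17, true),
    ([5], [], 12, true)]

/-- Part of a closed path for the prime 2. -/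
def path2_2_0 : List SchurPath.Step :=
  [([], [3], 19, false),
    ([0, 4], [], 18, false),
    ([0], [5], 13, false),
    ([], [4, 5], 6, true),
    ([3], [], 19, true),
    ([], [4], 18, true),
    ([5], [], 13, true)]

/-- Part of a closed path for the prime 2. -/
def path2_3_0 : List SchurPath.Step :=
  [([], [4], 19, false),
    ([0, 4], [], 19, false),
    ([0], [4, 5], 10, false),
    ([], [4, 4, 5], 0, false),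
    ([], [5], 14, false),
    ([5], [], 14, true)]

/-- Part of a closed path for the prime 2. -/
def path2_4_0 : List SchurPath.Step :=
  [([], [4], 20, false),
    ([4], [], 20, true),
    ([], [4, 5, 5], 0, true),
    ([0], [5], 19, true),
    ([], [4, 5], 15, true),
    ([5], [], 19, true)]

/-- Part of a closed path for the prime 2. -/
def path2_5_0 : List SchurPath.Step :=
  [([], [3], 24, false),
    ([0, 3], [], 24, false),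
    ([0], [3, 6], 6, false),
    ([], [3, 3, 6], 0, false),
    ([], [6], 9, false),
    ([6], [], 9, true)]

/-- Part of a closed path for the prime 2. -/
def path2_6_0 : List SchurPath.Step :=
  [([], [2], 25, false),
    ([0, 1, 4], [], 23, false),
    ([0, 1], [6], 12, false),
    ([0], [4, 6], 4, true),
    ([], [1, 4, 6], 3, true),
    ([2], [], 25, true),
    ([], [4], 23, true),
    ([6], [], 12, true)]

/-- Part of a closed path for the prime 2. -/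
def path2_7_0 : List SchurPath.Step :=
  [([], [3], 25, false),
    ([0, 1, 4], [], 24, false),
    ([0, 1], [3, 6], 10, false),
    ([0], [4, 3, 6], 1, false),
    ([], [1, 4, 3, 6], 0, false),
    ([1], [6], 13, false),
    ([], [4, 6], 7, true),
    ([], [3, 1, 4, 6], 0, true),
    ([0], [1, 4, 6], 6, true),
    ([0, 3], [], 25, true),
    ([], [4], 24, true),
    ([6], [], 13, true)]

/-- Part of a closed path for the prime 2. -/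
def path2_8_0 : List SchurPath.Step :=
  [([], [4], 25, false),
    ([0, 1, 4], [], 25, false),
    ([0, 1], [1, 4, 6], 10, false),
    ([0], [4, 1, 4, 6], 1, false),
    ([], [1, 4, 1, 4, 6], 0, false),
    ([1], [4, 6], 11, false),
    ([], [4, 4, 6], 2, false),
    ([], [6], 14, false),
    ([6], [], 14, true)]

/-- Part of a closed path for the prime 2. -/
def path2_9_0 : List SchurPath.Step :=
  [([], [4], 26, false),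
    ([0, 5], [], 25, false),
    ([0], [1, 4, 6], 15, false),
    ([], [5, 1, 4, 6], 0, false),
    ([], [4, 6], 16, false),
    ([1], [6], 19, false),
    ([], [4, 5, 6], 1, false),
    ([], [4, 5, 6], 1, true),
    ([1], [5, 6], 10, true),
    ([1, 4], [], 26, true),
    ([], [1, 4, 6, 5], 0, true),
    ([0], [5], 25, true),
    ([], [4, 5], 21, true),
    ([6], [], 19, true)]

/-- Part of a closed path for the prime 2. -/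
def path2_10_0 : List SchurPath.Step :=
  [([], [3], 27, false),
    ([], [], 8, true),
    ([3], [], 27, true),
    ([], [3, 6, 6], 0, true),
    ([0], [6], 24, true),
    ([], [3, 6], 21, true),
    ([6], [], 24, true)]

/-- Part of a closed path for the prime 2. -/
def path2_11_0 : List SchurPath.Step :=
  [([], [4], 27, false),
    ([], [], 12, true),
    ([4], [], 27, true),
    ([], [4, 6, 6], 2, true),
    ([], [1, 1, 4, 6, 6], 0, true),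
    ([0], [1, 4, 6, 6], 1, true),
    ([0, 1], [6], 25, true),
    ([0], [4, 6], 22, true),
    ([], [1, 4, 6], 21, true),
    ([6], [], 25, true)]

/-- Part of a closed path for the prime 2. -/
def path2_12_0 : List SchurPath.Step :=
  [([], [5], 27, false),
    ([], [], 17, true),
    ([5], [], 27, true),
    ([], [5, 6, 6], 0, true),
    ([0], [6], 26, true),
    ([], [5, 6], 21, true),
    ([6], [], 26, true)]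

/-- Part of a closed path for the prime 2. -/
def path2_13_0 : List SchurPath.Step :=
  [([], [6], 27, false),
    ([], [], 23, true),
    ([6], [], 27, true)]

/-- Part of a closed path for the prime 2. -/
def path2_14_0 : List SchurPath.Step :=
  [([], [3], 31, false),
    ([1, 3], [], 31, false),
    ([1], [3, 7], 7, false),
    ([], [3, 3, 7], 2, false),
    ([], [7], 9, false),
    ([7], [], 9, true)]

/-- Part of a closed path for the prime 2. -/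
def path2_15_0 : List SchurPath.Step :=
  [([], [4], 33, false),
    ([0, 1, 2, 5], [], 32, false),
    ([0, 1, 2], [7], 19, false),
    ([0, 1], [4, 5, 7], 3, false),
    ([0], [2, 4, 5, 7], 1, false),
    ([], [1, 2, 4, 5, 7], 0, false),
    ([1], [5, 7], 12, true),
    ([], [2, 5, 7], 11, true),
    ([], [4, 1, 2, 5, 7], 0, true),
    ([0], [1, 2, 5, 7], 10, true),
    ([0, 4], [], 33, true),
    ([0], [5], 32, true),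
    ([], [4, 5], 28, true),
    ([7], [], 19, true)]

/-- Part of a closed path for the prime 2. -/
def path2_16_0 : List SchurPath.Step :=
  [([], [5], 33, false),
    ([0, 1, 2, 5], [], 33, false),
    ([0, 1, 2], [1, 2, 5, 7], 15, false),
    ([0, 1], [5, 1, 2, 5, 7], 3, false),
    ([0], [2, 5, 1, 2, 5, 7], 1, false),
    ([], [1, 2, 5, 1, 2, 5, 7], 0, false),
    ([1, 2], [2, 5, 7], 16, false),
    ([1], [5, 2, 5, 7], 4, false),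
    ([], [2, 5, 2, 5, 7], 2, false),
    ([2], [5, 7], 17, false),
    ([], [5, 5, 7], 5, false),
    ([], [7], 20, false),
    ([7], [], 20, true)]

/-- Part of a closed path for the prime 2. -/
def path2_17_0 : List SchurPath.Step :=
  [([], [4], 34, false),
    ([0, 1, 2, 6], [], 32, false),
    ([0, 1, 2], [7], 25, false),
    ([0, 1], [1, 4, 6, 7], 3, false),
    ([0], [2, 1, 4, 6, 7], 1, false),
    ([], [1, 2, 1, 4, 6, 7], 0, false),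
    ([1], [4, 6, 7], 4, false),
    ([], [2, 4, 6, 7], 2, false),
    ([], [6, 7], 12, true),
    ([], [4, 2, 6, 7], 2, true),
    ([1], [2, 6, 7], 11, true),
    ([], [1, 4, 1, 2, 6, 7], 0, true),
    ([0], [4, 1, 2, 6, 7], 1, true),
    ([0, 1], [1, 2, 6, 7], 10, true),
    ([0, 1, 4], [], 34, true),
    ([0, 1], [6], 32, true),
    ([0], [4, 6], 29, true),
    ([], [1, 4, 6], 28, true),
    ([7], [], 25, true)]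

/-- Part of a closed path for the prime 2. -/
def path2_18_0 : List SchurPath.Step :=
  [([], [6], 34, false),
    ([0, 1, 2, 6], [], 34, false),
    ([0, 1, 2], [1, 2, 6, 7], 21, false),
    ([0, 1], [6, 1, 2, 6, 7], 3, false),
    ([0], [2, 6, 1, 2, 6, 7], 1, false),
    ([], [1, 2, 6, 1, 2, 6, 7], 0, false),
    ([1, 2], [2, 6, 7], 22, false),
    ([1], [6, 2, 6, 7], 4, false),
    ([], [2, 6, 2, 6, 7], 2, false),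
    ([2], [6, 7], 23, false),
    ([], [6, 6, 7], 5, false),
    ([], [7], 27, false),
    ([], [], 30, true),
    ([7], [], 27, true)]

/-- Part of a closed path for the prime 2. -/
def path2_19_0 : List SchurPath.Step :=
  [([], [3], 40, false),
    ([0, 2, 4], [], 39, false),
    ([0, 2], [8], 13, false),
    ([0], [4, 8], 8, true),
    ([], [2, 4, 8], 6, true),
    ([3], [], 40, true),
    ([], [4], 39, true),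
    ([8], [], 13, true)]

/-- Part of a closed path for the prime 2. -/
def path2_20_0 : List SchurPath.Step :=
  [([], [4], 40, false),
    ([0, 2, 4], [], 40, false),
    ([0, 2], [2, 4, 8], 10, false),
    ([0], [4, 2, 4, 8], 3, false),
    ([], [2, 4, 2, 4, 8], 0, false),
    ([2], [4, 8], 12, false),
    ([], [4, 4, 8], 5, false),
    ([], [8], 14, false),
    ([8], [], 14, true)]

/-- Part of a closed path for the prime 2. -/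
def path2_21_0 : List SchurPath.Step :=
  [([], [4], 41, false),
    ([5], [], 40, false),
    ([], [2, 4, 8], 15, false),
    ([0], [4, 8], 17, false),
    ([0, 2], [8], 19, false),
    ([0], [4, 5, 8], 3, false),
    ([], [2, 4, 5, 8], 0, false),
    ([2, 4], [], 41, true),
    ([], [2, 4, 8, 5], 0, true),
    ([0], [5], 40, true),
    ([], [4, 5], 36, true),
    ([8], [], 19, true)]

/-- Part of a closed path for the prime 2. -/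
def path2_22_0 : List SchurPath.Step :=
  [([], [4], 42, false),
    ([3, 6], [], 40, false),
    ([3], [2, 4, 8], 21, false),
    ([], [6, 2, 4, 8], 6, false),
    ([0, 3], [4, 8], 23, false),
    ([0], [6, 4, 8], 8, false),
    ([0, 2, 3], [8], 25, false),
    ([0, 2], [1, 4, 6, 8], 6, false),
    ([0], [3, 1, 4, 6, 8], 3, false),
    ([], [2, 3, 1, 4, 6, 8], 0, false),
    ([2], [4, 6, 8], 7, false),
    ([], [3, 4, 6, 8], 4, false),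
    ([1, 2], [6, 8], 13, true),
    ([1, 2, 4], [], 42, true),
    ([], [1, 2, 4, 8, 6], 0, true),
    ([0], [2, 4, 8, 6], 1, true),
    ([0, 1], [6], 40, true),
    ([0], [4, 6], 37, true),
    ([], [1, 4, 6], 36, true),
    ([8], [], 25, true)]

/-- Part of a closed path for the prime 2. -/
def path2_23_0 : List SchurPath.Step :=
  [([], [5], 42, false),
    ([3, 6], [], 41, false),
    ([3], [8], 26, false),
    ([], [5, 6, 8], 6, false),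
    ([0], [6, 8], 18, true),
    ([0, 5], [], 42, true),
    ([0], [6], 41, true),
    ([], [5, 6], 36, true),
    ([8], [], 26, true)]

/-- Part of a closed path for the prime 2. -/
def path2_24_0 : List SchurPath.Step :=
  [([], [6], 42, false),
    ([3, 6], [], 42, false),
    ([3], [6, 8], 24, false),
    ([], [3, 6, 6, 8], 6, false),
    ([0], [6, 6, 8], 9, false),
    ([0], [8], 27, false),
    ([], [], 38, true),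
    ([8], [], 27, true)]

/-- Part of a closed path for the prime 2. -/
def path2_25_0 : List SchurPath.Step :=
  [([], [5], 43, false),
    ([0, 4, 7], [], 41, false),
    ([0, 4], [8], 33, false),
    ([0], [1, 2, 5, 7, 8], 10, false),
    ([], [4, 1, 2, 5, 7, 8], 0, false),
    ([], [2, 5, 7, 8], 11, false),
    ([1], [5, 7, 8], 12, false),
    ([], [1, 2, 4, 5, 7, 8], 0, true),
    ([0], [2, 4, 5, 7, 8], 1, true),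
    ([0, 1], [4, 5, 7, 8], 3, true),
    ([0, 1, 2], [7, 8], 19, true),
    ([], [2, 5, 4, 7, 8], 1, true),
    ([1], [5, 4, 7, 8], 3, true),
    ([1, 2], [4, 7, 8], 15, true),
    ([1, 2, 5], [], 43, true),
    ([1, 2], [7], 41, true),
    ([], [1, 2, 8, 5, 7], 0, true),
    ([0], [2, 8, 5, 7], 1, true),
    ([0, 1], [5, 7], 38, true),
    ([0], [2, 5, 7], 37, true),
    ([], [1, 2, 5, 7], 36, true),
    ([8], [], 33, true)]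

/-- Part of a closed path for the prime 2. -/
def path2_26_0 : List SchurPath.Step :=
  [([], [6], 43, false),
    ([0, 4, 7], [], 42, false),
    ([0, 4], [6, 8], 31, false),
    ([0], [3, 7, 6, 8], 11, false),
    ([0, 1], [7, 6, 8], 13, false),
    ([0, 1, 3, 4], [8], 34, false),
    ([0, 1, 3], [1, 2, 6, 7, 8], 10, false),
    ([0, 1], [4, 1, 2, 6, 7, 8], 6, false),
    ([0], [3, 4, 1, 2, 6, 7, 8], 1, false),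
    ([], [1, 3, 4, 1, 2, 6, 7, 8], 0, false),
    ([1, 3], [2, 6, 7, 8], 11, false),
    ([1], [4, 2, 6, 7, 8], 7, false),
    ([], [3, 4, 2, 6, 7, 8], 2, false),
    ([3], [6, 7, 8], 12, false),
    ([], [4, 6, 7, 8], 8, false),
    ([], [2, 3, 4, 6, 7, 8], 2, true),
    ([1], [3, 4, 6, 7, 8], 4, true),
    ([1, 2], [4, 6, 7, 8], 7, true),
    ([], [1, 2, 3, 1, 4, 6, 7, 8], 0, true),
    ([0], [2, 3, 1, 4, 6, 7, 8], 1, true),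
    ([0, 1], [3, 1, 4, 6, 7, 8], 3, true),
    ([0, 1, 2], [1, 4, 6, 7, 8], 6, true),
    ([0, 1, 2, 3], [7, 8], 25, true),
    ([], [2, 3, 6, 4, 7, 8], 1, true),
    ([1], [3, 6, 4, 7, 8], 3, true),
    ([1, 2], [6, 4, 7, 8], 6, true),
    ([1, 2, 3], [4, 7, 8], 21, true),
    ([1, 2, 3, 6], [], 43, true),
    ([1, 2], [7], 42, true),
    ([], [1, 2, 8, 6, 7], 0, true),
    ([0], [2, 8, 6, 7], 1, true),
    ([0, 1], [6, 7], 38, true),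
    ([0], [2, 6, 7], 37, true),
    ([], [1, 2, 6, 7], 36, true),
    ([8], [], 34, true)]

/-- Part of a closed path for the prime 2. -/
def path2_27_0 : List SchurPath.Step :=
  [([], [7], 43, false),
    ([0, 4, 7], [], 43, false),
    ([0, 4], [4, 7, 8], 28, false),
    ([0], [7, 4, 7, 8], 10, false),
    ([], [4, 7, 4, 7, 8], 0, false),
    ([4], [7, 8], 32, false),
    ([], [7, 7, 8], 14, false),
    ([], [8], 35, false),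
    ([8], [], 35, true)]

/-- Part of a closed path for the prime 2. -/
def path2_28_0 : List SchurPath.Step :=
  [([], [6], 44, false),
    ([], [5, 6], 6, true),
    ([3], [], 26, true),
    ([], [3, 6, 5], 0, true),
    ([0], [5], 24, true),
    ([], [3, 5], 21, true),
    ([6], [], 44, true),
    ([], [6, 8, 8], 9, true),
    ([3], [8], 42, true),
    ([], [6, 8], 39, true),
    ([8], [], 42, true)]

/-- Part of a closed path for the prime 2. -/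
def path2_29_0 : List SchurPath.Step :=
  [([], [7], 44, false),
    ([0], [3, 5, 7], 5, true),
    ([0, 2], [5, 7], 8, true),
    ([0], [2, 3, 2, 5, 7], 2, true),
    ([0, 1], [3, 2, 5, 7], 4, true),
    ([0, 1, 2], [2, 5, 7], 7, true),
    ([], [2, 3, 1, 2, 5, 7], 1, true),
    ([1], [3, 1, 2, 5, 7], 3, true),
    ([1, 2], [1, 2, 5, 7], 6, true),
    ([1, 2, 3], [], 33, true),
    ([], [3, 7, 5], 4, true),
    ([2], [5], 31, true),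
    ([], [2, 7, 3, 5], 0, true),
    ([0], [7, 3, 5], 3, true),
    ([0, 2], [3, 5], 28, true),
    ([0, 2, 7], [], 44, true),
    ([0, 2], [7, 8, 8], 14, true),
    ([], [4, 4, 7, 8, 8], 3, true),
    ([2], [4, 7, 8, 8], 10, true),
    ([2, 4], [8], 43, true),
    ([], [2, 4, 8, 7, 8], 0, true),
    ([0], [7, 8], 40, true),
    ([], [4, 7, 8], 36, true),
    ([8], [], 43, true)]

/-- Part of a closed path for the prime 2. -/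
def path2_30_0 : List SchurPath.Step :=
  [([], [8], 44, false),
    ([0, 3], [], 41, true),
    ([0], [5], 39, true),
    ([], [3, 5], 36, true),
    ([8], [], 44, true)]

/-- Part of a closed path for the prime 2. -/
def path2_31_0 : List SchurPath.Step :=
  [([], [4], 49, false),
    ([2, 3, 4], [], 49, false),
    ([2, 3], [3, 4, 9], 12, false),
    ([2], [4, 3, 4, 9], 8, false),
    ([], [3, 4, 3, 4, 9], 5, false),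
    ([3], [4, 9], 13, false),
    ([], [4, 4, 9], 9, false),
    ([], [9], 14, false),
    ([9], [], 14, true)]

/-- Part of a closed path for the prime 2. -/
def path2_32_0 : List SchurPath.Step :=
  [([], [4], 50, false),
    ([5], [], 49, false),
    ([], [3, 4, 9], 17, false),
    ([2], [4, 9], 18, false),
    ([2, 3], [9], 19, false),
    ([2], [4, 5, 9], 6, false),
    ([], [3, 4, 5, 9], 3, false),
    ([0, 2, 3, 4], [], 50, true),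
    ([0], [5], 49, true),
    ([], [4, 5], 45, true),
    ([9], [], 19, true)]

/-- Part of a closed path for the prime 2. -/
def path2_33_0 : List SchurPath.Step :=
  [([], [4], 51, false),
    ([2, 6], [], 49, false),
    ([2], [3, 4, 9], 23, false),
    ([], [6, 3, 4, 9], 5, false),
    ([], [4, 9], 24, false),
    ([0, 3], [9], 25, false),
    ([0], [1, 4, 6, 9], 6, false),
    ([], [3, 1, 4, 6, 9], 0, false),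
    ([], [4, 6, 9], 7, false),
    ([1], [3, 4, 6, 9], 5, true),
    ([1, 2], [4, 6, 9], 8, true),
    ([1, 2, 3], [6, 9], 12, true),
    ([1, 2, 3, 4], [], 51, true),
    ([1], [6], 49, true),
    ([], [1, 9, 4, 6], 0, true),
    ([0], [4, 6], 46, true),
    ([], [1, 4, 6], 45, true),
    ([9], [], 25, true)]

/-- Part of a closed path for the prime 2. -/
def path2_34_0 : List SchurPath.Step :=
  [([], [6], 51, false),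
    ([2, 6], [], 51, false),
    ([2], [6, 9], 23, false),
    ([], [6, 6, 9], 5, false),
    ([], [9], 27, false),
    ([], [], 47, true),
    ([9], [], 27, true)]

/-- Part of a closed path for the prime 2. -/
def path2_35_0 : List SchurPath.Step :=
  [([], [5], 52, false),
    ([0, 1, 3, 6, 7], [], 50, false),
    ([0, 1, 3, 6], [9], 33, false),
    ([0, 1, 3], [1, 2, 5, 7, 9], 21, false),
    ([0, 1], [6, 1, 2, 5, 7, 9], 6, false),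
    ([0], [3, 6, 1, 2, 5, 7, 9], 1, false),
    ([], [1, 3, 6, 1, 2, 5, 7, 9], 0, false),
    ([1, 3], [2, 5, 7, 9], 22, false),
    ([1], [6, 2, 5, 7, 9], 7, false),
    ([], [3, 6, 2, 5, 7, 9], 2, false),
    ([3], [5, 7, 9], 23, false),
    ([], [6, 5, 7, 9], 8, false),
    ([2, 3], [7, 9], 26, false),
    ([2], [5, 6, 7, 9], 6, false),
    ([], [3, 5, 6, 7, 9], 3, false),
    ([0, 2], [6, 7, 9], 18, true),
    ([0], [2, 5, 3, 6, 7, 9], 2, true),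
    ([0, 1], [5, 3, 6, 7, 9], 4, true),
    ([0, 1, 2], [3, 6, 7, 9], 16, true),
    ([], [2, 5, 1, 3, 6, 7, 9], 1, true),
    ([1], [5, 1, 3, 6, 7, 9], 3, true),
    ([1, 2], [1, 3, 6, 7, 9], 15, true),
    ([1, 2, 5], [], 52, true),
    ([1, 2], [7], 50, true),
    ([1], [5, 7], 47, true),
    ([], [1, 9, 2, 5, 7], 0, true),
    ([0], [2, 5, 7], 46, true),
    ([], [1, 2, 5, 7], 45, true),
    ([9], [], 33, true)]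

/-- Part of a closed path for the prime 2. -/
def path2_36_0 : List SchurPath.Step :=
  [([], [7], 52, false),
    ([0, 1, 3, 6, 7], [], 52, false),
    ([0, 1, 3, 6], [1, 3, 6, 7, 9], 28, false),
    ([0, 1, 3], [7, 1, 3, 6, 7, 9], 21, false),
    ([0, 1], [6, 7, 1, 3, 6, 7, 9], 6, false),
    ([0], [3, 6, 7, 1, 3, 6, 7, 9], 1, false),
    ([], [1, 3, 6, 7, 1, 3, 6, 7, 9], 0, false),
    ([1, 3, 6], [3, 6, 7, 9], 29, false),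
    ([1, 3], [7, 3, 6, 7, 9], 22, false),
    ([1], [6, 7, 3, 6, 7, 9], 7, false),
    ([], [3, 6, 7, 3, 6, 7, 9], 2, false),
    ([3, 6], [6, 7, 9], 31, false),
    ([3], [3, 7, 6, 7, 9], 22, false),
    ([], [6, 3, 7, 6, 7, 9], 7, false),
    ([1, 3], [7, 6, 7, 9], 24, false),
    ([1], [3, 6, 7, 6, 7, 9], 6, false),
    ([], [3, 3, 6, 7, 6, 7, 9], 1, false),
    ([0, 1], [6, 7, 6, 7, 9], 9, false),
    ([0, 1, 6], [7, 9], 34, false),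
    ([0, 1], [1, 2, 6, 7, 7, 9], 21, false),
    ([0], [6, 1, 2, 6, 7, 7, 9], 1, false),
    ([], [1, 6, 1, 2, 6, 7, 7, 9], 0, false),
    ([1], [2, 6, 7, 7, 9], 22, false),
    ([], [6, 2, 6, 7, 7, 9], 2, false),
    ([], [6, 7, 7, 9], 23, false),
    ([2], [7, 7, 9], 27, false),
    ([], [7, 7, 9], 5, false),
    ([], [9], 35, false),
    ([9], [], 35, true)]

/-- Part of a closed path for the prime 2. -/
def path2_37_0 : List SchurPath.Step :=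
  [([], [6], 53, false),
    ([5, 8], [], 51, false),
    ([5], [6, 9], 38, false),
    ([], [2, 8, 6, 9], 15, false),
    ([0], [8, 6, 9], 17, false),
    ([0, 2, 5], [9], 42, false),
    ([0, 2], [6, 8, 9], 18, false),
    ([], [3, 5, 6, 8, 9], 3, true),
    ([2], [5, 6, 8, 9], 6, true),
    ([2, 3], [8, 9], 26, true),
    ([2, 3, 6], [], 53, true),
    ([], [6, 9, 8], 8, true),
    ([3], [8], 51, true),
    ([], [6, 8], 48, true),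
    ([9], [], 42, true)]

/-- Part of a closed path for the prime 2. -/
def path2_38_0 : List SchurPath.Step :=
  [([], [7], 53, false),
    ([5, 8], [], 52, false),
    ([5], [1, 3, 6, 7, 9], 36, false),
    ([], [8, 1, 3, 6, 7, 9], 15, false),
    ([0, 5], [3, 6, 7, 9], 37, false),
    ([0], [8, 3, 6, 7, 9], 16, false),
    ([0, 1, 5], [6, 7, 9], 39, false),
    ([0, 1], [8, 6, 7, 9], 18, false),
    ([0, 1, 3, 5], [7, 9], 42, false),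
    ([0, 1, 3], [6, 8, 7, 9], 18, false),
    ([0, 1], [5, 6, 8, 7, 9], 9, false),
    ([0, 1, 5, 6], [9], 43, false),
    ([0, 1, 5], [4, 7, 8, 9], 21, false),
    ([0, 1], [6, 4, 7, 8, 9], 15, false),
    ([0], [5, 6, 4, 7, 8, 9], 1, false),
    ([], [1, 5, 6, 4, 7, 8, 9], 0, false),
    ([1, 5], [7, 8, 9], 25, false),
    ([1], [1, 4, 6, 7, 8, 9], 15, false),
    ([], [5, 1, 4, 6, 7, 8, 9], 1, false),
    ([0, 1], [4, 6, 7, 8, 9], 16, false),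
    ([0], [5, 4, 6, 7, 8, 9], 2, false),
    ([0], [6, 7, 8, 9], 19, false),
    ([], [4, 5, 6, 7, 8, 9], 0, false),
    ([], [4, 5, 6, 7, 8, 9], 0, true),
    ([0], [5, 6, 7, 8, 9], 10, true),
    ([0, 4], [7, 8, 9], 26, true),
    ([0], [4, 6, 5, 7, 8, 9], 5, true),
    ([0, 2], [6, 5, 7, 8, 9], 12, true),
    ([0, 2, 4], [5, 7, 8, 9], 23, true),
    ([0], [2, 4, 6, 2, 5, 7, 8, 9], 2, true),
    ([0, 1], [4, 6, 2, 5, 7, 8, 9], 4, true),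
    ([0, 1, 2], [6, 2, 5, 7, 8, 9], 11, true),
    ([0, 1, 2, 4], [2, 5, 7, 8, 9], 22, true),
    ([], [2, 4, 6, 1, 2, 5, 7, 8, 9], 1, true),
    ([1], [4, 6, 1, 2, 5, 7, 8, 9], 3, true),
    ([1, 2], [6, 1, 2, 5, 7, 8, 9], 10, true),
    ([1, 2, 4], [1, 2, 5, 7, 8, 9], 21, true),
    ([1, 2, 4, 6], [8, 9], 33, true),
    ([1, 2, 4, 6, 7], [], 53, true),
    ([1, 2], [4, 6, 7, 9, 8], 9, true),
    ([1, 2, 3], [6, 7, 9, 8], 13, true),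
    ([], [3, 4, 3, 6, 7, 9, 8], 4, true),
    ([2], [4, 3, 6, 7, 9, 8], 7, true),
    ([2, 3], [3, 6, 7, 9, 8], 11, true),
    ([], [2, 3, 4, 1, 3, 6, 7, 9, 8], 0, true),
    ([0], [3, 4, 1, 3, 6, 7, 9, 8], 3, true),
    ([0, 2], [4, 1, 3, 6, 7, 9, 8], 6, true),
    ([0, 2, 3], [1, 3, 6, 7, 9, 8], 10, true),
    ([0, 2, 3, 4], [8], 52, true),
    ([0], [7, 8], 49, true),
    ([], [4, 7, 8], 45, true),
    ([9], [], 43, true)]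

/-- Part of a closed path for the prime 2. -/
def path2_39_0 : List SchurPath.Step :=
  [([], [8], 53, false),
    ([5, 8], [], 53, false),
    ([5], [8, 9], 41, false),
    ([], [8, 8, 9], 20, false),
    ([], [9], 44, false),
    ([0, 3], [], 50, true),
    ([0], [5], 48, true),
    ([], [3, 5], 45, true),
    ([9], [], 44, true)]

/-- Part of a closed path for the prime 2. -/
def path2_40_0 : List SchurPath.Step :=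
  [([], [7], 54, false),
    ([7], [], 54, true),
    ([], [7, 9, 9], 5, true),
    ([2], [7, 9, 9], 27, true),
    ([2], [6, 6, 7, 9, 9], 9, true),
    ([], [2, 3, 3, 6, 6, 7, 9, 9], 0, true),
    ([0], [3, 3, 6, 6, 7, 9, 9], 3, true),
    ([0, 2], [3, 6, 6, 7, 9, 9], 6, true),
    ([0, 2, 3], [6, 7, 9, 9], 24, true),
    ([0], [2, 3, 6, 3, 6, 7, 9, 9], 2, true),
    ([0, 1], [3, 6, 3, 6, 7, 9, 9], 4, true),
    ([0, 1, 2], [6, 3, 6, 7, 9, 9], 7, true),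
    ([0, 1, 2, 3], [3, 6, 7, 9, 9], 22, true),
    ([], [2, 3, 6, 1, 3, 6, 7, 9, 9], 1, true),
    ([1], [3, 6, 1, 3, 6, 7, 9, 9], 3, true),
    ([1, 2], [6, 1, 3, 6, 7, 9, 9], 6, true),
    ([1, 2, 3], [1, 3, 6, 7, 9, 9], 21, true),
    ([1, 2, 3, 6], [9], 52, true),
    ([1], [6, 9, 7, 9], 8, true),
    ([1, 3], [7, 9], 51, true),
    ([1], [6, 7, 9], 48, true),
    ([], [1, 9, 3, 6, 7, 9], 0, true),
    ([0], [3, 6, 7, 9], 46, true),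
    ([], [1, 3, 6, 7, 9], 45, true),
    ([9], [], 52, true)]

/-- Part of a closed path for the prime 2. -/
def path2_41_0 : List SchurPath.Step :=
  [([], [4], 60, false),
    ([0, 1, 3, 5], [], 59, false),
    ([0, 1, 3], [1, 2, 4, 10], 15, false),
    ([0, 1], [5, 1, 2, 4, 10], 6, false),
    ([0], [3, 5, 1, 2, 4, 10], 1, false),
    ([], [1, 3, 5, 1, 2, 4, 10], 0, false),
    ([1, 3], [2, 4, 10], 16, false),
    ([1], [5, 2, 4, 10], 7, false),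
    ([], [3, 5, 2, 4, 10], 2, false),
    ([3], [4, 10], 17, false),
    ([], [5, 4, 10], 8, false),
    ([2, 3], [10], 19, false),
    ([2], [4, 5, 10], 6, false),
    ([], [3, 4, 5, 10], 3, false),
    ([0, 2], [5, 10], 13, true),
    ([0], [2, 4, 3, 5, 10], 2, true),
    ([0, 1], [4, 3, 5, 10], 4, true),
    ([0, 1, 2], [3, 5, 10], 11, true),
    ([], [2, 4, 1, 3, 5, 10], 1, true),
    ([1], [4, 1, 3, 5, 10], 3, true),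
    ([1, 2], [1, 3, 5, 10], 10, true),
    ([1, 2, 4], [], 60, true),
    ([], [1, 2, 4, 10, 5], 0, true),
    ([0], [5], 59, true),
    ([], [4, 5], 55, true),
    ([10], [], 19, true)]

/-- Part of a closed path for the prime 2. -/
def path2_42_0 : List SchurPath.Step :=
  [([], [5], 60, false),
    ([0, 1, 3, 5], [], 60, false),
    ([0, 1, 3], [1, 3, 5, 10], 15, false),
    ([0, 1], [5, 1, 3, 5, 10], 6, false),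
    ([0], [3, 5, 1, 3, 5, 10], 1, false),
    ([], [1, 3, 5, 1, 3, 5, 10], 0, false),
    ([1, 3], [3, 5, 10], 16, false),
    ([1], [5, 3, 5, 10], 7, false),
    ([], [3, 5, 3, 5, 10], 2, false),
    ([3], [5, 10], 18, false),
    ([], [5, 5, 10], 9, false),
    ([], [10], 20, false),
    ([10], [], 20, true)]

/-- Part of a closed path for the prime 2. -/
def path2_43_0 : List SchurPath.Step :=
  [([], [4], 61, false),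
    ([0, 1, 4, 6], [], 59, false),
    ([0, 1, 4], [1, 2, 4, 10], 21, false),
    ([0, 1], [6, 1, 2, 4, 10], 10, false),
    ([0], [4, 6, 1, 2, 4, 10], 1, false),
    ([], [1, 4, 6, 1, 2, 4, 10], 0, false),
    ([1, 4], [2, 4, 10], 22, false),
    ([1], [6, 2, 4, 10], 11, false),
    ([], [4, 6, 2, 4, 10], 2, false),
    ([4], [4, 10], 23, false),
    ([], [6, 4, 10], 12, false),
    ([2, 4], [10], 25, false),
    ([2], [1, 4, 6, 10], 10, false),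
    ([], [4, 1, 4, 6, 10], 3, false),
    ([0, 2], [4, 6, 10], 11, false),
    ([0], [4, 4, 6, 10], 4, false),
    ([0, 1, 2], [6, 10], 14, false),
    ([0, 1, 2], [6, 10], 14, true),
    ([0], [4, 4, 6, 10], 4, true),
    ([0, 2], [4, 6, 10], 11, true),
    ([], [4, 1, 4, 6, 10], 3, true),
    ([2], [1, 4, 6, 10], 10, true),
    ([2, 4], [], 61, true),
    ([], [2, 4, 10, 6], 2, true),
    ([], [1, 1, 2, 4, 10, 6], 0, true),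
    ([0], [1, 2, 4, 10, 6], 1, true),
    ([0, 1], [6], 59, true),
    ([0], [4, 6], 56, true),
    ([], [1, 4, 6], 55, true),
    ([10], [], 25, true)]

/-- Part of a closed path for the prime 2. -/
def path2_44_0 : List SchurPath.Step :=
  [([], [6], 61, false),
    ([0, 1, 4, 6], [], 61, false),
    ([0, 1, 4], [1, 4, 6, 10], 21, false),
    ([0, 1], [6, 1, 4, 6, 10], 10, false),
    ([0], [4, 6, 1, 4, 6, 10], 1, false),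
    ([], [1, 4, 6, 1, 4, 6, 10], 0, false),
    ([1, 4], [4, 6, 10], 22, false),
    ([1], [6, 4, 6, 10], 11, false),
    ([], [4, 6, 4, 6, 10], 2, false),
    ([4], [6, 10], 25, false),
    ([], [1, 4, 6, 6, 10], 10, false),
    ([0], [4, 6, 6, 10], 11, false),
    ([0, 1], [6, 6, 10], 14, false),
    ([0, 1], [10], 27, false),
    ([], [], 57, true),
    ([10], [], 27, true)]

/-- Part of a closed path for the prime 2. -/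
def path2_45_0 : List SchurPath.Step :=
  [([], [5], 62, false),
    ([0, 1, 4, 7], [], 60, false),
    ([0, 1, 4], [1, 3, 5, 10], 28, false),
    ([0, 1], [7, 1, 3, 5, 10], 10, false),
    ([0], [4, 7, 1, 3, 5, 10], 1, false),
    ([], [1, 4, 7, 1, 3, 5, 10], 0, false),
    ([1, 4], [3, 5, 10], 29, false),
    ([1], [7, 3, 5, 10], 11, false),
    ([], [4, 7, 3, 5, 10], 2, false),
    ([4], [5, 10], 31, false),
    ([], [3, 7, 5, 10], 11, false),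
    ([1], [7, 5, 10], 13, false),
    ([1, 3, 4], [10], 33, false),
    ([1, 3], [1, 2, 5, 7, 10], 10, false),
    ([1], [4, 1, 2, 5, 7, 10], 6, false),
    ([], [3, 4, 1, 2, 5, 7, 10], 1, false),
    ([0, 1, 3], [2, 5, 7, 10], 11, false),
    ([0, 1], [4, 2, 5, 7, 10], 7, false),
    ([0], [3, 4, 2, 5, 7, 10], 2, false),
    ([0, 3], [5, 7, 10], 12, false),
    ([0], [4, 5, 7, 10], 8, false),
    ([], [3, 4, 5, 7, 10], 3, true),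
    ([2], [4, 5, 7, 10], 6, true),
    ([2, 3], [7, 10], 19, true),
    ([], [2, 3, 5, 4, 7, 10], 2, true),
    ([1], [3, 5, 4, 7, 10], 4, true),
    ([1, 2], [5, 4, 7, 10], 7, true),
    ([1, 2, 3], [4, 7, 10], 16, true),
    ([], [1, 2, 3, 5, 1, 4, 7, 10], 0, true),
    ([0], [2, 3, 5, 1, 4, 7, 10], 1, true),
    ([0, 1], [3, 5, 1, 4, 7, 10], 3, true),
    ([0, 1, 2], [5, 1, 4, 7, 10], 6, true),
    ([0, 1, 2, 3], [1, 4, 7, 10], 15, true),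
    ([0, 1, 2, 3, 5], [], 62, true),
    ([0], [3, 5, 10, 7], 4, true),
    ([], [1, 3, 5, 10, 7], 3, true),
    ([2], [7], 60, true),
    ([], [2, 10, 5, 7], 2, true),
    ([], [1, 1, 2, 10, 5, 7], 0, true),
    ([0], [1, 2, 10, 5, 7], 1, true),
    ([0, 1], [5, 7], 57, true),
    ([0], [2, 5, 7], 56, true),
    ([], [1, 2, 5, 7], 55, true),
    ([10], [], 33, true)]

/-- Part of a closed path for the prime 2. -/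
def path2_46_0 : List SchurPath.Step :=
  [([], [6], 63, false),
    ([3, 5, 6, 8], [], 61, false),
    ([3, 5, 6], [1, 4, 6, 10], 36, false),
    ([3, 5], [8, 1, 4, 6, 10], 21, false),
    ([3], [6, 8, 1, 4, 6, 10], 15, false),
    ([], [5, 6, 8, 1, 4, 6, 10], 6, false),
    ([0, 3, 5, 6], [4, 6, 10], 37, false),
    ([0, 3, 5], [8, 4, 6, 10], 22, false),
    ([0, 3], [6, 8, 4, 6, 10], 16, false),
    ([0], [5, 6, 8, 4, 6, 10], 7, false),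
    ([0, 1, 3, 5, 6], [6, 10], 40, false),
    ([0, 1, 3, 5], [2, 4, 8, 6, 10], 21, false),
    ([0, 1, 3], [6, 2, 4, 8, 6, 10], 15, false),
    ([0, 1], [5, 6, 2, 4, 8, 6, 10], 6, false),
    ([0], [3, 5, 6, 2, 4, 8, 6, 10], 1, false),
    ([], [1, 3, 5, 6, 2, 4, 8, 6, 10], 0, false),
    ([1, 3, 5], [4, 8, 6, 10], 23, false),
    ([1, 3], [6, 4, 8, 6, 10], 17, false),
    ([1], [5, 6, 4, 8, 6, 10], 8, false),
    ([1, 2, 3, 5], [8, 6, 10], 25, false),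
    ([1, 2, 3], [1, 4, 6, 8, 6, 10], 15, false),
    ([1, 2], [5, 1, 4, 6, 8, 6, 10], 6, false),
    ([1], [3, 5, 1, 4, 6, 8, 6, 10], 3, false),
    ([], [2, 3, 5, 1, 4, 6, 8, 6, 10], 1, false),
    ([0, 1, 2, 3], [4, 6, 8, 6, 10], 16, false),
    ([0, 1, 2], [5, 4, 6, 8, 6, 10], 7, false),
    ([0, 1], [3, 5, 4, 6, 8, 6, 10], 4, false),
    ([0], [2, 3, 5, 4, 6, 8, 6, 10], 2, false),
    ([0, 2, 3], [6, 8, 6, 10], 19, false),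
    ([0, 2], [4, 5, 6, 8, 6, 10], 6, false),
    ([0], [3, 4, 5, 6, 8, 6, 10], 3, false),
    ([], [2, 3, 4, 5, 6, 8, 6, 10], 0, false),
    ([2, 3, 4, 5, 6], [10], 42, false),
    ([2, 3, 4, 5], [6, 8, 10], 24, false),
    ([2, 3, 4], [3, 6, 6, 8, 10], 15, false),
    ([2, 3], [5, 3, 6, 6, 8, 10], 10, false),
    ([2], [4, 5, 3, 6, 6, 8, 10], 6, false),
    ([], [3, 4, 5, 3, 6, 6, 8, 10], 3, false),
    ([0, 2, 3, 4], [6, 6, 8, 10], 18, false),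
    ([0, 2, 3], [5, 6, 6, 8, 10], 13, false),
    ([0, 2], [4, 5, 6, 6, 8, 10], 9, false),
    ([0, 2, 4, 5], [8, 10], 27, false),
    ([0, 2, 4], [8, 10], 17, false),
    ([0, 2], [5, 8, 10], 12, false),
    ([0], [4, 5, 8, 10], 5, false),
    ([0], [4, 5, 8, 10], 5, true),
    ([0, 2], [5, 8, 10], 12, true),
    ([0, 2, 4], [8, 10], 17, true),
    ([0, 2, 4, 5], [8, 10], 27, true),
    ([], [4, 5, 6, 6, 8, 10], 3, true),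
    ([2], [5, 6, 6, 8, 10], 10, true),
    ([2, 4], [6, 8, 10], 26, true),
    ([2], [4, 6, 5, 6, 8, 10], 9, true),
    ([2, 3], [6, 5, 6, 8, 10], 13, true),
    ([], [2, 3, 4, 3, 6, 5, 6, 8, 10], 0, true),
    ([0], [3, 4, 3, 6, 5, 6, 8, 10], 3, true),
    ([0, 2], [4, 3, 6, 5, 6, 8, 10], 6, true),
    ([0, 2, 3], [3, 6, 5, 6, 8, 10], 10, true),
    ([0, 2, 3, 4], [5, 6, 8, 10], 24, true),
    ([0, 2, 3, 4, 6], [], 63, true)]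

/-- Part of a closed path for the prime 2. -/
def path2_46_1 : List SchurPath.Step :=
  [([0], [2, 3, 4, 6, 10, 8], 2, true),
    ([0, 1], [3, 4, 6, 10, 8], 4, true),
    ([0, 1, 2], [4, 6, 10, 8], 7, true),
    ([], [2, 3, 1, 4, 6, 10, 8], 1, true),
    ([1], [3, 1, 4, 6, 10, 8], 3, true),
    ([1, 2], [1, 4, 6, 10, 8], 6, true),
    ([1, 2, 3], [8], 61, true),
    ([], [6, 8], 58, true),
    ([10], [], 42, true)]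

/-- Part of a closed path for the prime 2. -/
def path2_47_0 : List SchurPath.Step :=
  [([], [7], 63, false),
    ([3, 5, 6, 8], [], 62, false),
    ([3, 5, 6], [1, 4, 7, 10], 36, false),
    ([3, 5], [8, 1, 4, 7, 10], 21, false),
    ([3], [6, 8, 1, 4, 7, 10], 15, false),
    ([], [5, 6, 8, 1, 4, 7, 10], 6, false),
    ([0, 3, 5, 6], [4, 7, 10], 37, false),
    ([0, 3, 5], [8, 4, 7, 10], 22, false),
    ([0, 3], [6, 8, 4, 7, 10], 16, false),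
    ([0], [5, 6, 8, 4, 7, 10], 7, false),
    ([0, 1, 3, 5, 6], [7, 10], 40, false),
    ([0, 1, 3, 5], [2, 4, 8, 7, 10], 21, false),
    ([0, 1, 3], [6, 2, 4, 8, 7, 10], 15, false),
    ([0, 1], [5, 6, 2, 4, 8, 7, 10], 6, false),
    ([0], [3, 5, 6, 2, 4, 8, 7, 10], 1, false),
    ([], [1, 3, 5, 6, 2, 4, 8, 7, 10], 0, false),
    ([1, 3, 5], [4, 8, 7, 10], 23, false),
    ([1, 3], [6, 4, 8, 7, 10], 17, false),
    ([1], [5, 6, 4, 8, 7, 10], 8, false),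
    ([1, 2, 3, 5], [8, 7, 10], 25, false),
    ([1, 2, 3], [1, 4, 6, 8, 7, 10], 15, false),
    ([1, 2], [5, 1, 4, 6, 8, 7, 10], 6, false),
    ([1], [3, 5, 1, 4, 6, 8, 7, 10], 3, false),
    ([], [2, 3, 5, 1, 4, 6, 8, 7, 10], 1, false),
    ([0, 1, 2, 3], [4, 6, 8, 7, 10], 16, false),
    ([0, 1, 2], [5, 4, 6, 8, 7, 10], 7, false),
    ([0, 1], [3, 5, 4, 6, 8, 7, 10], 4, false),
    ([0], [2, 3, 5, 4, 6, 8, 7, 10], 2, false),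
    ([0, 2, 3], [6, 8, 7, 10], 19, false),
    ([0, 2], [4, 5, 6, 8, 7, 10], 6, false),
    ([0], [3, 4, 5, 6, 8, 7, 10], 3, false),
    ([], [2, 3, 4, 5, 6, 8, 7, 10], 0, false),
    ([2, 3, 4, 5, 6], [10], 43, false),
    ([2, 3, 4, 5], [4, 7, 8, 10], 21, false),
    ([2, 3, 4], [6, 4, 7, 8, 10], 15, false),
    ([2, 3], [5, 6, 4, 7, 8, 10], 10, false),
    ([2], [4, 5, 6, 4, 7, 8, 10], 6, false),
    ([], [3, 4, 5, 6, 4, 7, 8, 10], 3, false),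
    ([0, 2, 3, 4, 5], [7, 8, 10], 25, false),
    ([0, 2, 3, 4], [1, 4, 6, 7, 8, 10], 15, false),
    ([0, 2, 3], [5, 1, 4, 6, 7, 8, 10], 10, false),
    ([0, 2], [4, 5, 1, 4, 6, 7, 8, 10], 6, false),
    ([0], [3, 4, 5, 1, 4, 6, 7, 8, 10], 3, false),
    ([], [2, 3, 4, 5, 1, 4, 6, 7, 8, 10], 0, false),
    ([2, 3, 4], [4, 6, 7, 8, 10], 16, false),
    ([2, 3], [5, 4, 6, 7, 8, 10], 11, false),
    ([2], [4, 5, 4, 6, 7, 8, 10], 7, false),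
    ([], [3, 4, 5, 4, 6, 7, 8, 10], 4, false),
    ([1, 2, 3, 4], [6, 7, 8, 10], 19, false),
    ([1, 2, 3], [4, 5, 6, 7, 8, 10], 10, false),
    ([1, 2], [4, 4, 5, 6, 7, 8, 10], 6, false),
    ([1], [3, 4, 4, 5, 6, 7, 8, 10], 3, false),
    ([], [2, 3, 4, 4, 5, 6, 7, 8, 10], 1, false),
    ([0, 1, 2, 3], [5, 6, 7, 8, 10], 14, false),
    ([0, 1], [5, 6, 7, 8, 10], 8, true),
    ([0, 1, 3], [6, 7, 8, 10], 17, true),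
    ([0], [5, 2, 6, 7, 8, 10], 7, true),
    ([0, 3], [2, 6, 7, 8, 10], 16, true),
    ([], [5, 1, 2, 6, 7, 8, 10], 6, true),
    ([3], [1, 2, 6, 7, 8, 10], 15, true)]

/-- Part of a closed path for the prime 2. -/
def path2_47_1 : List SchurPath.Step :=
  [([3, 5], [8, 10], 34, true),
    ([], [3, 5, 7, 6, 8, 10], 5, true),
    ([2], [5, 7, 6, 8, 10], 8, true),
    ([], [2, 3, 2, 5, 7, 6, 8, 10], 2, true),
    ([1], [3, 2, 5, 7, 6, 8, 10], 4, true),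
    ([1, 2], [2, 5, 7, 6, 8, 10], 7, true),
    ([], [1, 2, 3, 1, 2, 5, 7, 6, 8, 10], 0, true),
    ([0], [2, 3, 1, 2, 5, 7, 6, 8, 10], 1, true),
    ([0, 1], [3, 1, 2, 5, 7, 6, 8, 10], 3, true),
    ([0, 1, 2], [1, 2, 5, 7, 6, 8, 10], 6, true),
    ([0, 1, 2, 3], [6, 8, 10], 33, true),
    ([0], [3, 7, 5, 6, 8, 10], 4, true),
    ([0, 2], [5, 6, 8, 10], 31, true),
    ([0, 2, 7], [], 63, true),
    ([0, 2], [7, 10, 8], 14, true),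
    ([0], [2, 4, 4, 7, 10, 8], 2, true),
    ([0, 1], [4, 4, 7, 10, 8], 4, true),
    ([0, 1, 2], [4, 7, 10, 8], 11, true),
    ([], [2, 4, 1, 4, 7, 10, 8], 1, true),
    ([1], [4, 1, 4, 7, 10, 8], 3, true),
    ([1, 2], [1, 4, 7, 10, 8], 10, true),
    ([1, 2, 4], [8], 62, true),
    ([], [1, 2, 4, 10, 7, 8], 0, true),
    ([0], [7, 8], 59, true),
    ([], [4, 7, 8], 55, true),
    ([10], [], 43, true)]

/-- Part of a closed path for the prime 2. -/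
def path2_48_0 : List SchurPath.Step :=
  [([], [8], 63, false),
    ([3, 5, 6, 8], [], 63, false),
    ([3, 5, 6], [5, 6, 8, 10], 39, false),
    ([3, 5], [8, 5, 6, 8, 10], 24, false),
    ([3], [3, 6, 8, 5, 6, 8, 10], 15, false),
    ([], [5, 3, 6, 8, 5, 6, 8, 10], 6, false),
    ([0, 3], [6, 8, 5, 6, 8, 10], 18, false),
    ([0], [5, 6, 8, 5, 6, 8, 10], 9, false),
    ([0, 5, 6], [6, 8, 10], 41, false),
    ([0, 5], [8, 6, 8, 10], 26, false),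
    ([0], [5, 6, 8, 6, 8, 10], 15, false),
    ([], [5, 5, 6, 8, 6, 8, 10], 0, false),
    ([], [6, 8, 6, 8, 10], 20, false),
    ([6], [8, 10], 42, false),
    ([], [6, 8, 8, 10], 24, false),
    ([0, 3], [8, 8, 10], 27, false),
    ([0], [8, 8, 10], 8, false),
    ([0, 2, 3], [10], 44, false),
    ([0, 2], [3, 5, 10], 6, false),
    ([0], [3, 3, 5, 10], 3, false),
    ([], [2, 3, 3, 5, 10], 0, false),
    ([2], [5, 10], 9, false),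
    ([2], [5, 10], 9, true),
    ([], [2, 3, 3, 5, 10], 2, true),
    ([1], [3, 3, 5, 10], 4, true),
    ([1, 2], [3, 5, 10], 7, true),
    ([], [1, 2, 3, 1, 3, 5, 10], 0, true),
    ([0], [2, 3, 1, 3, 5, 10], 1, true),
    ([0, 1], [3, 1, 3, 5, 10], 3, true),
    ([0, 1, 2], [1, 3, 5, 10], 6, true),
    ([0, 1, 2, 3], [], 60, true),
    ([0], [5], 58, true),
    ([], [3, 5], 55, true),
    ([10], [], 44, true)]

/-- Part of a closed path for the prime 2. -/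
def path2_49_0 : List SchurPath.Step :=
  [([], [7], 64, false),
    ([4, 5, 8, 9], [], 62, false),
    ([4, 5, 8], [1, 4, 7, 10], 45, false),
    ([4, 5], [9, 1, 4, 7, 10], 36, false),
    ([4], [8, 9, 1, 4, 7, 10], 15, false),
    ([], [5, 8, 9, 1, 4, 7, 10], 10, false),
    ([0, 4, 5, 8], [4, 7, 10], 46, false),
    ([0, 4, 5], [1, 9, 4, 7, 10], 36, false),
    ([0, 4], [8, 1, 9, 4, 7, 10], 15, false),
    ([0], [5, 8, 1, 9, 4, 7, 10], 10, false),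
    ([], [4, 5, 8, 1, 9, 4, 7, 10], 0, false),
    ([4, 5], [9, 4, 7, 10], 37, false),
    ([4], [8, 9, 4, 7, 10], 16, false),
    ([], [5, 8, 9, 4, 7, 10], 11, false),
    ([1, 4, 5, 8], [7, 10], 49, false),
    ([1, 4, 5], [3, 4, 9, 7, 10], 38, false),
    ([1, 4], [2, 8, 3, 4, 9, 7, 10], 15, false),
    ([1], [5, 2, 8, 3, 4, 9, 7, 10], 10, false),
    ([], [4, 5, 2, 8, 3, 4, 9, 7, 10], 1, false),
    ([0, 1, 4], [8, 3, 4, 9, 7, 10], 17, false),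
    ([0, 1], [5, 8, 3, 4, 9, 7, 10], 12, false),
    ([0, 1, 2, 4, 5], [4, 9, 7, 10], 39, false),
    ([0, 1, 2, 4], [8, 4, 9, 7, 10], 18, false),
    ([0, 1, 2], [5, 8, 4, 9, 7, 10], 13, false),
    ([0, 1, 2, 3, 4, 5], [9, 7, 10], 40, false),
    ([0, 1, 2, 3, 4], [2, 4, 8, 9, 7, 10], 15, false),
    ([0, 1, 2, 3], [5, 2, 4, 8, 9, 7, 10], 10, false),
    ([0, 1, 2], [4, 5, 2, 4, 8, 9, 7, 10], 6, false),
    ([0, 1], [3, 4, 5, 2, 4, 8, 9, 7, 10], 3, false),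
    ([0], [2, 3, 4, 5, 2, 4, 8, 9, 7, 10], 1, false),
    ([], [1, 2, 3, 4, 5, 2, 4, 8, 9, 7, 10], 0, false),
    ([1, 2, 3, 4], [4, 8, 9, 7, 10], 17, false),
    ([1, 2, 3], [5, 4, 8, 9, 7, 10], 12, false),
    ([1, 2], [4, 5, 4, 8, 9, 7, 10], 8, false),
    ([1], [3, 4, 5, 4, 8, 9, 7, 10], 5, false),
    ([1, 3, 4], [8, 9, 7, 10], 19, false),
    ([1, 3], [4, 5, 8, 9, 7, 10], 10, false),
    ([1], [4, 4, 5, 8, 9, 7, 10], 6, false),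
    ([], [3, 4, 4, 5, 8, 9, 7, 10], 1, false),
    ([0, 1, 3], [5, 8, 9, 7, 10], 14, false),
    ([0, 1, 3, 5, 8], [10], 52, false),
    ([0, 1, 3, 5], [1, 3, 6, 7, 9, 10], 36, false),
    ([0, 1, 3], [8, 1, 3, 6, 7, 9, 10], 15, false),
    ([0, 1], [5, 8, 1, 3, 6, 7, 9, 10], 6, false),
    ([0], [3, 5, 8, 1, 3, 6, 7, 9, 10], 1, false),
    ([], [1, 3, 5, 8, 1, 3, 6, 7, 9, 10], 0, false),
    ([1, 3, 5], [3, 6, 7, 9, 10], 37, false),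
    ([1, 3], [8, 3, 6, 7, 9, 10], 16, false),
    ([1], [5, 8, 3, 6, 7, 9, 10], 7, false),
    ([], [3, 5, 8, 3, 6, 7, 9, 10], 2, false),
    ([3, 5], [6, 7, 9, 10], 39, false),
    ([3], [8, 6, 7, 9, 10], 18, false),
    ([], [5, 8, 6, 7, 9, 10], 9, false),
    ([5], [7, 9, 10], 42, false),
    ([], [6, 8, 7, 9, 10], 18, false),
    ([3, 5, 6], [9, 10], 43, false),
    ([3, 5], [4, 7, 8, 9, 10], 21, false),
    ([3], [6, 4, 7, 8, 9, 10], 15, false),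
    ([], [5, 6, 4, 7, 8, 9, 10], 6, false),
    ([0, 3, 5], [7, 8, 9, 10], 25, false)]

/-- Part of a closed path for the prime 2. -/
def path2_49_1 : List SchurPath.Step :=
  [([0, 3], [1, 4, 6, 7, 8, 9, 10], 15, false),
    ([0], [5, 1, 4, 6, 7, 8, 9, 10], 6, false),
    ([], [3, 5, 1, 4, 6, 7, 8, 9, 10], 0, false),
    ([3], [4, 6, 7, 8, 9, 10], 16, false),
    ([], [5, 4, 6, 7, 8, 9, 10], 7, false),
    ([1, 3], [6, 7, 8, 9, 10], 19, false),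
    ([1], [4, 5, 6, 7, 8, 9, 10], 6, false),
    ([], [3, 4, 5, 6, 7, 8, 9, 10], 1, false),
    ([], [3, 4, 5, 6, 7, 8, 9, 10], 1, true),
    ([1], [4, 5, 6, 7, 8, 9, 10], 6, true),
    ([1, 3], [5, 6, 7, 8, 9, 10], 10, true),
    ([1, 3, 4], [7, 8, 9, 10], 26, true),
    ([1], [3, 4, 6, 5, 7, 8, 9, 10], 5, true),
    ([1, 2], [4, 6, 5, 7, 8, 9, 10], 8, true),
    ([1, 2, 3], [6, 5, 7, 8, 9, 10], 12, true),
    ([1, 2, 3, 4], [5, 7, 8, 9, 10], 23, true),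
    ([], [3, 4, 6, 2, 5, 7, 8, 9, 10], 4, true),
    ([2], [4, 6, 2, 5, 7, 8, 9, 10], 7, true),
    ([2, 3], [6, 2, 5, 7, 8, 9, 10], 11, true),
    ([2, 3, 4], [2, 5, 7, 8, 9, 10], 22, true),
    ([], [2, 3, 4, 6, 1, 2, 5, 7, 8, 9, 10], 0, true),
    ([0], [3, 4, 6, 1, 2, 5, 7, 8, 9, 10], 3, true),
    ([0, 2], [4, 6, 1, 2, 5, 7, 8, 9, 10], 6, true),
    ([0, 2, 3], [6, 1, 2, 5, 7, 8, 9, 10], 10, true),
    ([0, 2, 3, 4], [1, 2, 5, 7, 8, 9, 10], 21, true),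
    ([0, 2, 3, 4, 6], [8, 9, 10], 33, true),
    ([0], [2, 3, 4, 6, 7, 5, 8, 9, 10], 2, true),
    ([0, 1], [3, 4, 6, 7, 5, 8, 9, 10], 4, true),
    ([0, 1, 2], [4, 6, 7, 5, 8, 9, 10], 7, true),
    ([], [2, 3, 1, 4, 6, 7, 5, 8, 9, 10], 1, true),
    ([1], [3, 1, 4, 6, 7, 5, 8, 9, 10], 3, true),
    ([1, 2], [1, 4, 6, 7, 5, 8, 9, 10], 6, true),
    ([1, 2, 3], [7, 5, 8, 9, 10], 25, true),
    ([1, 2, 3, 6], [5, 8, 9, 10], 32, true),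
    ([1, 2, 3, 6, 7], [], 64, true),
    ([1, 2, 3], [6, 7, 10, 9], 14, true),
    ([], [3, 4, 4, 6, 7, 10, 9], 4, true),
    ([2], [4, 4, 6, 7, 10, 9], 7, true),
    ([2, 3], [4, 6, 7, 10, 9], 11, true),
    ([], [2, 3, 4, 1, 4, 6, 7, 10, 9], 0, true),
    ([0], [3, 4, 1, 4, 6, 7, 10, 9], 3, true),
    ([0, 2], [4, 1, 4, 6, 7, 10, 9], 6, true),
    ([0, 2, 3], [1, 4, 6, 7, 10, 9], 10, true),
    ([0, 2, 3, 4], [7, 10, 9], 25, true),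
    ([0], [2, 3, 4, 6, 4, 7, 10, 9], 2, true),
    ([0, 1], [3, 4, 6, 4, 7, 10, 9], 4, true),
    ([0, 1, 2], [4, 6, 4, 7, 10, 9], 7, true),
    ([0, 1, 2, 3], [6, 4, 7, 10, 9], 11, true),
    ([0, 1, 2, 3, 4], [4, 7, 10, 9], 22, true),
    ([], [2, 3, 4, 6, 1, 4, 7, 10, 9], 1, true),
    ([1], [3, 4, 6, 1, 4, 7, 10, 9], 3, true),
    ([1, 2], [4, 6, 1, 4, 7, 10, 9], 6, true),
    ([1, 2, 3], [6, 1, 4, 7, 10, 9], 10, true),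
    ([1, 2, 3, 4], [1, 4, 7, 10, 9], 21, true),
    ([1, 2, 3, 4, 6], [9], 62, true),
    ([], [3, 4, 6, 10, 7, 9], 4, true),
    ([2], [4, 6, 10, 7, 9], 7, true),
    ([], [2, 3, 1, 4, 6, 10, 7, 9], 0, true),
    ([0], [3, 1, 4, 6, 10, 7, 9], 3, true),
    ([0, 2], [1, 4, 6, 10, 7, 9], 6, true)]

/-- Part of a closed path for the prime 2. -/
def path2_49_2 : List SchurPath.Step :=
  [([0, 2, 3], [7, 9], 61, true),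
    ([0], [2, 3, 10, 6, 7, 9], 2, true),
    ([0, 1], [6, 7, 9], 58, true),
    ([0], [3, 6, 7, 9], 56, true),
    ([], [1, 3, 6, 7, 9], 55, true),
    ([10], [], 52, true)]

/-- Part of a closed path for the prime 2. -/
def path2_50_0 : List SchurPath.Step :=
  [([], [9], 64, false),
    ([4, 5, 8, 9], [], 64, false),
    ([4, 5, 8], [5, 8, 9, 10], 49, false),
    ([4, 5], [3, 4, 9, 5, 8, 9, 10], 38, false),
    ([4], [2, 8, 3, 4, 9, 5, 8, 9, 10], 15, false),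
    ([], [5, 2, 8, 3, 4, 9, 5, 8, 9, 10], 10, false),
    ([0, 4], [8, 3, 4, 9, 5, 8, 9, 10], 17, false),
    ([0], [5, 8, 3, 4, 9, 5, 8, 9, 10], 12, false),
    ([0, 2, 4, 5], [4, 9, 5, 8, 9, 10], 39, false),
    ([0, 2, 4], [8, 4, 9, 5, 8, 9, 10], 18, false),
    ([0, 2], [5, 8, 4, 9, 5, 8, 9, 10], 13, false),
    ([0, 2, 3, 4, 5], [9, 5, 8, 9, 10], 40, false),
    ([0, 2, 3, 4], [2, 4, 8, 9, 5, 8, 9, 10], 15, false),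
    ([0, 2, 3], [5, 2, 4, 8, 9, 5, 8, 9, 10], 10, false),
    ([0, 2], [4, 5, 2, 4, 8, 9, 5, 8, 9, 10], 6, false),
    ([0], [3, 4, 5, 2, 4, 8, 9, 5, 8, 9, 10], 3, false),
    ([], [2, 3, 4, 5, 2, 4, 8, 9, 5, 8, 9, 10], 0, false),
    ([2, 3, 4], [4, 8, 9, 5, 8, 9, 10], 17, false),
    ([2, 3], [5, 4, 8, 9, 5, 8, 9, 10], 12, false),
    ([2], [4, 5, 4, 8, 9, 5, 8, 9, 10], 8, false),
    ([], [3, 4, 5, 4, 8, 9, 5, 8, 9, 10], 5, false),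
    ([3, 4], [8, 9, 5, 8, 9, 10], 19, false),
    ([3], [4, 5, 8, 9, 5, 8, 9, 10], 10, false),
    ([], [4, 4, 5, 8, 9, 5, 8, 9, 10], 6, false),
    ([0, 3], [5, 8, 9, 5, 8, 9, 10], 14, false),
    ([0, 3, 5, 8], [8, 9, 10], 50, false),
    ([0, 3, 5], [9, 8, 9, 10], 41, false),
    ([0, 3], [8, 9, 8, 9, 10], 20, false),
    ([0, 3, 8], [9, 10], 53, false),
    ([0, 3], [8, 9, 9, 10], 41, false),
    ([0, 3, 5], [9, 9, 10], 44, false),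
    ([0, 3], [3, 5, 9, 9, 10], 15, false),
    ([0], [5, 3, 5, 9, 9, 10], 6, false),
    ([], [3, 5, 3, 5, 9, 9, 10], 0, false),
    ([3], [5, 9, 9, 10], 18, false),
    ([], [5, 5, 9, 9, 10], 9, false),
    ([], [9, 9, 10], 20, false),
    ([], [10], 54, false),
    ([10], [], 54, true)]

/-- Part of a closed path for the prime 2. -/
def path2_51_0 : List SchurPath.Step :=
  [([], [9], 65, false),
    ([0, 1, 2], [6, 7, 9], 9, true),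
    ([0], [3, 3, 6, 7, 9], 4, true),
    ([0, 2], [3, 6, 7, 9], 7, true),
    ([], [3, 1, 3, 6, 7, 9], 3, true),
    ([2], [1, 3, 6, 7, 9], 6, true),
    ([2, 3], [], 52, true),
    ([], [9, 7], 8, true),
    ([3], [9, 7], 27, true),
    ([], [3, 6, 6, 9, 7], 5, true),
    ([2], [6, 6, 9, 7], 8, true),
    ([2, 3], [6, 9, 7], 23, true),
    ([2, 3, 6], [7], 51, true),
    ([], [6, 9, 6, 7], 8, true),
    ([3], [9, 6, 7], 23, true),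
    ([3, 6], [6, 7], 47, true),
    ([], [3, 6, 9, 2, 6, 7], 2, true),
    ([1], [6, 9, 2, 6, 7], 7, true),
    ([1, 3], [9, 2, 6, 7], 22, true),
    ([], [1, 3, 6, 1, 9, 2, 6, 7], 0, true),
    ([0], [3, 6, 1, 9, 2, 6, 7], 1, true),
    ([0, 1], [6, 1, 9, 2, 6, 7], 6, true),
    ([0, 1, 3], [1, 9, 2, 6, 7], 21, true),
    ([0, 1, 3, 6], [2, 6, 7], 46, true),
    ([], [3, 6, 9, 1, 2, 6, 7], 1, true),
    ([1], [6, 9, 1, 2, 6, 7], 6, true),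
    ([1, 3], [9, 1, 2, 6, 7], 21, true),
    ([1, 3, 6], [1, 2, 6, 7], 45, true),
    ([1, 3, 6, 9], [], 65, true),
    ([1, 3], [6, 9, 10, 10], 20, true),
    ([], [1, 3, 5, 5, 6, 9, 10, 10], 0, true),
    ([0], [3, 5, 5, 6, 9, 10, 10], 1, true),
    ([0, 1], [5, 5, 6, 9, 10, 10], 6, true),
    ([0, 1, 3], [5, 6, 9, 10, 10], 15, true),
    ([0, 1, 3, 5], [9, 10, 10], 26, true),
    ([0, 1], [6, 5, 9, 10, 10], 18, true),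
    ([], [5, 3, 6, 5, 9, 10, 10], 1, true),
    ([1], [3, 6, 5, 9, 10, 10], 15, true),
    ([1, 5], [5, 9, 10, 10], 24, true),
    ([], [1, 5, 6, 3, 5, 9, 10, 10], 0, true),
    ([0], [5, 6, 3, 5, 9, 10, 10], 1, true),
    ([0, 1], [6, 3, 5, 9, 10, 10], 15, true),
    ([0, 1, 5], [3, 5, 9, 10, 10], 21, true),
    ([0, 1, 5, 6], [9, 10, 10], 44, true),
    ([], [5, 6, 8, 8, 9, 10, 10], 1, true),
    ([1], [8, 8, 9, 10, 10], 26, true),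
    ([1, 6], [8, 9, 10, 10], 41, true),
    ([1], [6, 8, 5, 8, 9, 10, 10], 14, true),
    ([], [4, 6, 8, 5, 8, 9, 10, 10], 11, true),
    ([], [4, 1, 4, 6, 8, 5, 8, 9, 10, 10], 0, true),
    ([0], [1, 4, 6, 8, 5, 8, 9, 10, 10], 10, true),
    ([0, 4], [8, 5, 8, 9, 10, 10], 25, true),
    ([0], [4, 6, 4, 8, 5, 8, 9, 10, 10], 5, true),
    ([0, 2], [6, 4, 8, 5, 8, 9, 10, 10], 12, true),
    ([0, 2, 4], [4, 8, 5, 8, 9, 10, 10], 23, true),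
    ([], [4, 6, 2, 4, 8, 5, 8, 9, 10, 10], 3, true),
    ([2], [6, 2, 4, 8, 5, 8, 9, 10, 10], 10, true),
    ([2, 4], [2, 4, 8, 5, 8, 9, 10, 10], 21, true),
    ([2, 4, 6], [5, 8, 9, 10, 10], 40, true),
    ([2, 4, 6, 8], [10], 64, true)]

/-- Part of a closed path for the prime 2. -/
def path2_51_1 : List SchurPath.Step :=
  [([2, 4], [6, 8, 10, 9, 10], 20, true),
    ([2], [4, 5, 5, 6, 8, 10, 9, 10], 9, true),
    ([2, 3], [5, 5, 6, 8, 10, 9, 10], 13, true),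
    ([2, 3, 4], [5, 6, 8, 10, 9, 10], 18, true),
    ([2, 3, 4, 5], [9, 10], 63, true),
    ([2], [5, 10, 8, 9, 10], 13, true),
    ([], [2, 4, 3, 5, 10, 8, 9, 10], 2, true),
    ([1], [4, 3, 5, 10, 8, 9, 10], 4, true),
    ([1, 2], [3, 5, 10, 8, 9, 10], 11, true),
    ([], [1, 2, 4, 1, 3, 5, 10, 8, 9, 10], 0, true),
    ([0], [2, 4, 1, 3, 5, 10, 8, 9, 10], 1, true),
    ([0, 1], [4, 1, 3, 5, 10, 8, 9, 10], 3, true),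
    ([0, 1, 2], [1, 3, 5, 10, 8, 9, 10], 10, true),
    ([0, 1, 2, 4], [8, 9, 10], 60, true),
    ([], [5, 8, 9, 10], 59, true),
    ([10], [], 64, true)]

/-- Part of a closed path for the prime 2. -/
def path2_52_0 : List SchurPath.Step :=
  [([], [10], 65, false),
    ([0, 1, 2], [6, 7, 10], 14, true),
    ([0], [4, 4, 6, 7, 10], 4, true),
    ([0, 2], [4, 6, 7, 10], 11, true),
    ([], [4, 1, 4, 6, 7, 10], 3, true),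
    ([2], [1, 4, 6, 7, 10], 10, true),
    ([2, 4], [7, 10], 25, true),
    ([], [2, 4, 6, 4, 7, 10], 2, true),
    ([1], [4, 6, 4, 7, 10], 4, true),
    ([1, 2], [6, 4, 7, 10], 11, true),
    ([1, 2, 4], [4, 7, 10], 22, true),
    ([], [1, 2, 4, 6, 1, 4, 7, 10], 0, true),
    ([0], [2, 4, 6, 1, 4, 7, 10], 1, true),
    ([0, 1], [4, 6, 1, 4, 7, 10], 3, true),
    ([0, 1, 2], [6, 1, 4, 7, 10], 10, true),
    ([0, 1, 2, 4], [1, 4, 7, 10], 21, true),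
    ([0, 1, 2, 4, 6], [], 62, true),
    ([0], [4, 6, 10, 7], 4, true),
    ([], [1, 4, 6, 10, 7], 3, true),
    ([2], [7], 61, true),
    ([], [2, 10, 6, 7], 2, true),
    ([], [1, 1, 2, 10, 6, 7], 0, true),
    ([0], [1, 2, 10, 6, 7], 1, true),
    ([0, 1], [6, 7], 57, true),
    ([0], [2, 6, 7], 56, true),
    ([], [1, 2, 6, 7], 55, true),
    ([10], [], 65, true)]

/-- Part of a closed path for the prime 2. -/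
def path2_53_0 : List SchurPath.Step :=
  [([11], [], 19, true),
    ([], [4], 71, false),
    ([1, 2, 5], [], 70, false),
    ([1, 2], [1, 4, 11], 15, false),
    ([1], [5, 1, 4, 11], 3, false),
    ([], [2, 5, 1, 4, 11], 1, false),
    ([0, 1, 2], [4, 11], 16, false),
    ([0, 1], [5, 4, 11], 4, false),
    ([0], [2, 5, 4, 11], 2, false),
    ([0, 2], [11], 19, false),
    ([0], [4, 5, 11], 3, false),
    ([], [2, 4, 5, 11], 0, false),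
    ([], [5, 11], 12, true),
    ([], [4, 2, 5, 11], 2, true),
    ([1], [2, 5, 11], 11, true),
    ([], [1, 4, 1, 2, 5, 11], 0, true),
    ([0, 0, 1, 4], [], 71, true),
    ([0], [5], 70, true),
    ([], [4, 5], 66, true)]

/-- Part of a closed path for the prime 2. -/
def path2_54_0 : List SchurPath.Step :=
  [([11], [], 25, true),
    ([], [4], 72, false),
    ([1, 2, 6], [], 70, false),
    ([1, 2], [1, 4, 11], 21, false),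
    ([1], [6, 1, 4, 11], 3, false),
    ([], [2, 6, 1, 4, 11], 1, false),
    ([0, 1, 2], [4, 11], 22, false),
    ([0, 1], [6, 4, 11], 4, false),
    ([0], [2, 6, 4, 11], 2, false),
    ([0, 2], [11], 25, false),
    ([0], [1, 4, 6, 11], 3, false),
    ([], [2, 1, 4, 6, 11], 0, false),
    ([], [4, 6, 11], 4, false),
    ([1], [6, 11], 12, true),
    ([], [2, 6, 11], 11, true),
    ([], [4, 1, 2, 6, 11], 2, true),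
    ([], [1, 1, 4, 1, 2, 6, 11], 0, true),
    ([0], [1, 4, 1, 2, 6, 11], 1, true),
    ([0, 1, 0, 1, 4], [], 72, true),
    ([0, 1], [6], 70, true),
    ([0], [4, 6], 67, true),
    ([], [1, 4, 6], 66, true)]

/-- Part of a closed path for the prime 2. -/
def path2_55_0 : List SchurPath.Step :=
  [([11], [], 27, true),
    ([], [6], 72, false),
    ([1, 2, 6], [], 72, false),
    ([1, 2], [2, 6, 11], 22, false),
    ([1], [6, 2, 6, 11], 4, false),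
    ([], [2, 6, 2, 6, 11], 2, false),
    ([2], [6, 11], 23, false),
    ([], [6, 6, 11], 5, false),
    ([], [11], 27, false),
    ([], [], 68, true)]

/-- Part of a closed path for the prime 2. -/
def path2_56_0 : List SchurPath.Step :=
  [([11], [], 42, true),
    ([], [6], 74, false),
    ([1, 3, 4, 8], [], 72, false),
    ([1, 3, 4], [2, 6, 11], 37, false),
    ([1, 3], [8, 2, 6, 11], 11, false),
    ([1], [4, 8, 2, 6, 11], 7, false),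
    ([], [3, 4, 8, 2, 6, 11], 2, false),
    ([3, 4], [6, 11], 38, false),
    ([3], [2, 8, 6, 11], 10, false),
    ([], [4, 2, 8, 6, 11], 6, false),
    ([0, 3], [8, 6, 11], 12, false),
    ([0], [4, 8, 6, 11], 8, false),
    ([0, 2, 3, 4], [11], 42, false),
    ([0, 2, 3], [6, 8, 11], 13, false),
    ([0, 2], [4, 6, 8, 11], 9, false),
    ([0], [2, 4, 6, 8, 11], 2, true),
    ([0, 1], [4, 6, 8, 11], 4, true),
    ([], [2, 1, 4, 6, 8, 11], 1, true),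
    ([1], [1, 4, 6, 8, 11], 3, true),
    ([1, 2], [8, 11], 25, true),
    ([1, 2], [6, 4, 8, 11], 9, true),
    ([], [1, 2, 3, 3, 6, 4, 8, 11], 0, true),
    ([0], [2, 3, 3, 6, 4, 8, 11], 1, true),
    ([0, 1], [3, 3, 6, 4, 8, 11], 3, true),
    ([0, 1, 2], [3, 6, 4, 8, 11], 6, true),
    ([0, 1, 2, 3], [4, 8, 11], 24, true),
    ([0], [3, 6, 3, 4, 8, 11], 4, true),
    ([0, 2], [6, 3, 4, 8, 11], 7, true),
    ([0, 2, 3], [3, 4, 8, 11], 22, true),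
    ([0], [6, 1, 3, 4, 8, 11], 8, true),
    ([0], [3, 2, 6, 1, 3, 4, 8, 11], 2, true),
    ([0, 1], [2, 6, 1, 3, 4, 8, 11], 7, true),
    ([0, 1, 3, 1, 2, 6], [], 74, true),
    ([0, 1, 3], [8], 72, true),
    ([], [6, 8], 69, true)]

/-- Part of a closed path for the prime 2. -/
def path2_57_0 : List SchurPath.Step :=
  [([11], [], 43, true),
    ([], [7], 74, false),
    ([1, 3, 4, 8], [], 73, false),
    ([1, 3, 4], [2, 7, 11], 36, false),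
    ([1, 3], [8, 2, 7, 11], 10, false),
    ([1], [4, 8, 2, 7, 11], 6, false),
    ([], [3, 4, 8, 2, 7, 11], 1, false),
    ([0, 1, 3, 4], [7, 11], 38, false),
    ([0, 1, 3], [2, 8, 7, 11], 10, false),
    ([0, 1], [4, 2, 8, 7, 11], 6, false),
    ([0], [3, 4, 2, 8, 7, 11], 1, false),
    ([], [1, 3, 4, 2, 8, 7, 11], 0, false),
    ([1, 3], [8, 7, 11], 12, false),
    ([1], [4, 8, 7, 11], 8, false),
    ([1, 2, 3, 4], [11], 43, false),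
    ([1, 2, 3], [4, 7, 8, 11], 10, false),
    ([1, 2], [4, 4, 7, 8, 11], 6, false),
    ([1], [3, 4, 4, 7, 8, 11], 3, false),
    ([], [2, 3, 4, 4, 7, 8, 11], 1, false),
    ([0, 1, 2, 3], [7, 8, 11], 14, false),
    ([0, 1, 2, 3], [7, 8, 11], 14, true),
    ([0, 1, 2, 3, 4], [8, 11], 32, true),
    ([0, 1, 2], [7, 4, 8, 11], 13, true),
    ([0], [4, 3, 7, 4, 8, 11], 4, true),
    ([0, 2], [3, 7, 4, 8, 11], 11, true),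
    ([0, 2, 4], [4, 8, 11], 31, true),
    ([0], [2, 4, 7, 3, 4, 8, 11], 2, true),
    ([0, 1], [4, 7, 3, 4, 8, 11], 4, true),
    ([0, 1, 2], [7, 3, 4, 8, 11], 11, true),
    ([0, 1, 2, 4], [3, 4, 8, 11], 29, true),
    ([0, 1], [7, 1, 3, 4, 8, 11], 12, true),
    ([], [4, 2, 7, 1, 3, 4, 8, 11], 1, true),
    ([1], [2, 7, 1, 3, 4, 8, 11], 10, true),
    ([], [1, 4, 0, 2, 7, 1, 3, 4, 8, 11], 0, true),
    ([0, 0, 1, 4, 0, 2, 7], [], 74, true),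
    ([0, 0, 1, 4], [8], 73, true),
    ([0], [7, 8], 70, true),
    ([], [4, 7, 8], 66, true)]

/-- Part of a closed path for the prime 2. -/
def path2_58_0 : List SchurPath.Step :=
  [([11], [], 44, true),
    ([], [8], 74, false),
    ([1, 3, 4, 8], [], 74, false),
    ([1, 3, 4], [3, 4, 8, 11], 37, false),
    ([1, 3], [8, 3, 4, 8, 11], 11, false),
    ([1], [4, 8, 3, 4, 8, 11], 7, false),
    ([], [3, 4, 8, 3, 4, 8, 11], 2, false),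
    ([3, 4], [4, 8, 11], 39, false),
    ([3], [8, 4, 8, 11], 13, false),
    ([], [4, 8, 4, 8, 11], 9, false),
    ([4], [8, 11], 40, false),
    ([], [2, 4, 8, 8, 11], 10, false),
    ([0], [4, 8, 8, 11], 12, false),
    ([0, 2], [8, 8, 11], 14, false),
    ([0, 2], [11], 44, false),
    ([0], [3, 5, 11], 3, false),
    ([], [2, 3, 5, 11], 0, false),
    ([], [5, 11], 8, true),
    ([], [3, 2, 5, 11], 2, true),
    ([1], [2, 5, 11], 7, true),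
    ([], [1, 3, 1, 2, 5, 11], 0, true),
    ([0, 0, 1, 3], [], 71, true),
    ([0], [5], 69, true),
    ([], [3, 5], 66, true)]

/-- Part of a closed path for the prime 2. -/
def path2_59_0 : List SchurPath.Step :=
  [([11], [], 52, true),
    ([], [7], 75, false),
    ([0, 1, 3, 6, 9], [], 73, false),
    ([0, 1, 3, 6], [2, 7, 11], 45, false),
    ([0, 1, 3], [9, 2, 7, 11], 21, false),
    ([0, 1], [6, 9, 2, 7, 11], 6, false),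
    ([0], [3, 6, 9, 2, 7, 11], 1, false),
    ([], [1, 3, 6, 9, 2, 7, 11], 0, false),
    ([1, 3, 6], [7, 11], 47, false),
    ([1, 3], [9, 7, 11], 23, false),
    ([1], [6, 9, 7, 11], 8, false),
    ([1, 2, 3, 6], [11], 52, false),
    ([1, 2, 3], [1, 3, 6, 7, 9, 11], 21, false),
    ([1, 2], [6, 1, 3, 6, 7, 9, 11], 6, false),
    ([1], [3, 6, 1, 3, 6, 7, 9, 11], 3, false),
    ([], [2, 3, 6, 1, 3, 6, 7, 9, 11], 1, false),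
    ([0, 1, 2, 3], [3, 6, 7, 9, 11], 22, false),
    ([0, 1, 2], [6, 3, 6, 7, 9, 11], 7, false),
    ([0, 1], [3, 6, 3, 6, 7, 9, 11], 4, false),
    ([0], [2, 3, 6, 3, 6, 7, 9, 11], 2, false),
    ([0, 2, 3], [6, 7, 9, 11], 24, false),
    ([0, 2], [3, 6, 6, 7, 9, 11], 6, false),
    ([0], [3, 3, 6, 6, 7, 9, 11], 3, false),
    ([], [2, 3, 3, 6, 6, 7, 9, 11], 0, false),
    ([2], [6, 6, 7, 9, 11], 9, false),
    ([2], [7, 9, 11], 27, false),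
    ([], [7, 9, 11], 5, false),
    ([], [7, 9, 11], 5, true),
    ([2], [7, 9, 11], 27, true),
    ([], [6, 7, 9, 11], 23, true),
    ([], [6, 2, 6, 7, 9, 11], 2, true),
    ([1], [2, 6, 7, 9, 11], 22, true),
    ([], [1, 6, 1, 2, 6, 7, 9, 11], 0, true),
    ([0], [6, 1, 2, 6, 7, 9, 11], 1, true),
    ([0, 1], [1, 2, 6, 7, 9, 11], 21, true),
    ([0, 1, 6], [9, 11], 34, true),
    ([0, 1], [6, 7, 6, 9, 11], 9, true),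
    ([], [3, 3, 6, 7, 6, 9, 11], 1, true),
    ([1], [3, 6, 7, 6, 9, 11], 6, true),
    ([1, 3], [7, 6, 9, 11], 24, true),
    ([], [6, 3, 7, 6, 9, 11], 7, true),
    ([3], [3, 7, 6, 9, 11], 22, true),
    ([3, 6], [6, 9, 11], 31, true),
    ([], [3, 6, 7, 3, 6, 9, 11], 2, true),
    ([1], [6, 7, 3, 6, 9, 11], 7, true),
    ([1, 3], [7, 3, 6, 9, 11], 22, true),
    ([1, 3, 6], [3, 6, 9, 11], 29, true),
    ([], [1, 3, 6, 7, 1, 3, 6, 9, 11], 0, true),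
    ([0], [3, 6, 7, 1, 3, 6, 9, 11], 1, true),
    ([0, 1], [6, 7, 1, 3, 6, 9, 11], 6, true),
    ([0, 1, 3], [7, 1, 3, 6, 9, 11], 21, true),
    ([0, 1, 3, 6], [1, 3, 6, 9, 11], 28, true),
    ([0, 1], [3, 6, 7, 0, 1, 3, 6, 9, 11], 5, true),
    ([0, 1, 2], [6, 7, 0, 1, 3, 6, 9, 11], 8, true),
    ([0, 1, 2, 3], [7, 0, 1, 3, 6, 9, 11], 23, true),
    ([], [2, 3, 6, 2, 7, 0, 1, 3, 6, 9, 11], 1, true),
    ([1], [3, 6, 2, 7, 0, 1, 3, 6, 9, 11], 3, true),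
    ([1, 2], [6, 2, 7, 0, 1, 3, 6, 9, 11], 6, true),
    ([1, 2, 3], [2, 7, 0, 1, 3, 6, 9, 11], 21, true),
    ([1], [6, 0, 2, 7, 0, 1, 3, 6, 9, 11], 8, true)]

/-- Part of a closed path for the prime 2. -/
def path2_59_1 : List SchurPath.Step :=
  [([], [2, 6, 0, 2, 7, 0, 1, 3, 6, 9, 11], 7, true),
    ([], [3, 1, 2, 6, 0, 2, 7, 0, 1, 3, 6, 9, 11], 2, true),
    ([], [1, 1, 3, 1, 2, 6, 0, 2, 7, 0, 1, 3, 6, 9, 11], 0, true),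
    ([0], [1, 3, 1, 2, 6, 0, 2, 7, 0, 1, 3, 6, 9, 11], 1, true),
    ([0, 1, 0, 1, 3, 1, 2, 6, 0, 2, 7], [], 75, true),
    ([0, 1, 0, 1, 3, 1, 2, 6], [9], 73, true),
    ([0, 1, 0, 1, 3], [7, 9], 72, true),
    ([0, 1], [6, 7, 9], 69, true),
    ([0], [3, 6, 7, 9], 67, true),
    ([], [1, 3, 6, 7, 9], 66, true)]

/-- Part of a closed path for the prime 2. -/
def path2_60_0 : List SchurPath.Step :=
  [([11], [], 64, true),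
    ([], [9], 76, false),
    ([0, 2, 10], [], 75, false),
    ([0, 2], [1, 3, 6, 9, 11], 55, false),
    ([0], [10, 1, 3, 6, 9, 11], 3, false),
    ([], [2, 10, 1, 3, 6, 9, 11], 0, false),
    ([2], [3, 6, 9, 11], 56, false),
    ([], [10, 3, 6, 9, 11], 4, false),
    ([1, 2], [6, 9, 11], 58, false),
    ([1], [2, 3, 10, 6, 9, 11], 4, false),
    ([], [2, 2, 3, 10, 6, 9, 11], 2, false),
    ([], [3, 10, 6, 9, 11], 5, false),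
    ([3], [9, 11], 61, false),
    ([], [1, 4, 6, 10, 9, 11], 6, false),
    ([0], [4, 6, 10, 9, 11], 7, false),
    ([0, 1, 3, 4, 6], [11], 64, false),
    ([0, 1, 3, 4], [5, 8, 9, 10, 11], 25, false),
    ([0, 1, 3], [1, 4, 6, 5, 8, 9, 10, 11], 10, false),
    ([0, 1], [4, 1, 4, 6, 5, 8, 9, 10, 11], 6, false),
    ([0], [3, 4, 1, 4, 6, 5, 8, 9, 10, 11], 1, false),
    ([], [1, 3, 4, 1, 4, 6, 5, 8, 9, 10, 11], 0, false),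
    ([1, 3], [4, 6, 5, 8, 9, 10, 11], 11, false),
    ([1], [4, 4, 6, 5, 8, 9, 10, 11], 7, false),
    ([], [3, 4, 4, 6, 5, 8, 9, 10, 11], 2, false),
    ([3], [6, 5, 8, 9, 10, 11], 14, false),
    ([3], [8, 9, 10, 11], 26, false),
    ([], [5, 6, 8, 9, 10, 11], 6, false),
    ([0], [3, 5, 6, 8, 9, 10, 11], 5, true),
    ([0, 2], [5, 6, 8, 9, 10, 11], 8, true),
    ([0, 2, 3], [6, 8, 9, 10, 11], 17, true),
    ([0, 2, 3, 5], [8, 9, 10, 11], 23, true),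
    ([], [3, 5, 6, 2, 8, 9, 10, 11], 3, true),
    ([2], [5, 6, 2, 8, 9, 10, 11], 6, true),
    ([2, 3], [6, 2, 8, 9, 10, 11], 15, true),
    ([2, 3, 5], [2, 8, 9, 10, 11], 21, true),
    ([2, 3, 5, 6], [9, 10, 11], 38, true),
    ([2, 3, 5, 6, 8], [10, 11], 47, true),
    ([], [2, 3, 5, 6, 8, 9, 2, 10, 11], 0, true),
    ([0], [3, 5, 6, 8, 9, 2, 10, 11], 3, true),
    ([0, 2], [5, 6, 8, 9, 2, 10, 11], 6, true),
    ([0, 2, 3], [6, 8, 9, 2, 10, 11], 15, true),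
    ([0, 2, 3, 5], [8, 9, 2, 10, 11], 21, true),
    ([0, 2, 3, 5, 6], [9, 2, 10, 11], 36, true),
    ([0, 2, 3, 5, 6, 8], [2, 10, 11], 45, true),
    ([0, 2], [6, 8, 9, 0, 2, 10, 11], 18, true),
    ([0, 2, 5], [9, 0, 2, 10, 11], 42, true),
    ([0, 2], [5, 8, 6, 9, 0, 2, 10, 11], 9, true),
    ([0, 2, 3], [8, 6, 9, 0, 2, 10, 11], 18, true),
    ([0, 2, 3, 5], [6, 9, 0, 2, 10, 11], 39, true),
    ([0], [2, 3, 5, 8, 3, 6, 9, 0, 2, 10, 11], 2, true),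
    ([0, 1], [3, 5, 8, 3, 6, 9, 0, 2, 10, 11], 4, true),
    ([0, 1, 2], [5, 8, 3, 6, 9, 0, 2, 10, 11], 7, true),
    ([0, 1, 2, 3], [8, 3, 6, 9, 0, 2, 10, 11], 16, true),
    ([0, 1, 2, 3, 5], [3, 6, 9, 0, 2, 10, 11], 37, true),
    ([], [2, 3, 5, 8, 1, 3, 6, 9, 0, 2, 10, 11], 1, true),
    ([1], [3, 5, 8, 1, 3, 6, 9, 0, 2, 10, 11], 3, true),
    ([1, 2], [5, 8, 1, 3, 6, 9, 0, 2, 10, 11], 6, true),
    ([1, 2, 3], [8, 1, 3, 6, 9, 0, 2, 10, 11], 15, true),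
    ([1, 2, 3, 5], [1, 3, 6, 9, 0, 2, 10, 11], 36, true),
    ([1, 2, 3], [5, 8, 0, 1, 3, 6, 9, 0, 2, 10, 11], 14, true)]

/-- Part of a closed path for the prime 2. -/
def path2_60_1 : List SchurPath.Step :=
  [([], [1, 2, 3, 4, 4, 5, 8, 0, 1, 3, 6, 9, 0, 2, 10, 11], 0, true),
    ([0], [2, 3, 4, 4, 5, 8, 0, 1, 3, 6, 9, 0, 2, 10, 11], 1, true),
    ([0, 1], [3, 4, 4, 5, 8, 0, 1, 3, 6, 9, 0, 2, 10, 11], 3, true),
    ([0, 1, 2], [4, 4, 5, 8, 0, 1, 3, 6, 9, 0, 2, 10, 11], 6, true),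
    ([0, 1, 2, 3], [4, 5, 8, 0, 1, 3, 6, 9, 0, 2, 10, 11], 10, true),
    ([0, 1, 2, 3, 4], [8, 0, 1, 3, 6, 9, 0, 2, 10, 11], 19, true),
    ([0, 1, 2], [5, 4, 8, 0, 1, 3, 6, 9, 0, 2, 10, 11], 13, true),
    ([0, 1, 2, 4], [4, 8, 0, 1, 3, 6, 9, 0, 2, 10, 11], 18, true),
    ([0], [4, 5, 3, 4, 8, 0, 1, 3, 6, 9, 0, 2, 10, 11], 4, true),
    ([0, 2], [5, 3, 4, 8, 0, 1, 3, 6, 9, 0, 2, 10, 11], 11, true),
    ([0, 2, 4], [3, 4, 8, 0, 1, 3, 6, 9, 0, 2, 10, 11], 16, true),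
    ([0], [5, 1, 3, 4, 8, 0, 1, 3, 6, 9, 0, 2, 10, 11], 12, true),
    ([0], [4, 2, 5, 1, 3, 4, 8, 0, 1, 3, 6, 9, 0, 2, 10, 11], 2, true),
    ([0, 1], [2, 5, 1, 3, 4, 8, 0, 1, 3, 6, 9, 0, 2, 10, 11], 11, true),
    ([0, 1, 4, 1, 2, 5, 1, 3, 4, 8, 0, 1, 3, 6, 9], [], 76, true),
    ([0, 1, 4, 1, 2, 5, 1, 3, 4, 8], [10], 75, true),
    ([0, 1, 4, 1, 2, 5], [9, 10], 74, true),
    ([0, 1, 4], [8, 9, 10], 71, true),
    ([], [5, 8, 9, 10], 70, true)]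

/-- Part of a closed path for the prime 2. -/
def path2_61_0 : List SchurPath.Step :=
  [([11], [], 65, true),
    ([], [10], 76, false),
    ([0, 2, 10], [], 76, false),
    ([0, 2], [2, 10, 11], 55, false),
    ([0], [10, 2, 10, 11], 3, false),
    ([], [2, 10, 2, 10, 11], 0, false),
    ([2], [10, 11], 57, false),
    ([], [1, 2, 10, 10, 11], 3, false),
    ([0], [2, 10, 10, 11], 4, false),
    ([0, 1], [10, 10, 11], 5, false),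
    ([0, 1], [11], 65, false),
    ([0], [1, 2, 6, 7, 11], 1, false),
    ([], [1, 1, 2, 6, 7, 11], 0, false),
    ([], [2, 6, 7, 11], 2, false),
    ([], [7, 11], 23, true),
    ([], [6, 2, 7, 11], 0, true),
    ([0], [2, 7, 11], 21, true),
    ([0], [6, 0, 2, 7, 11], 5, true),
    ([0], [2, 2, 6, 0, 2, 7, 11], 2, true),
    ([0, 1], [2, 6, 0, 2, 7, 11], 4, true),
    ([0, 1, 2, 1, 2, 6], [], 73, true),
    ([0, 1, 2], [7], 72, true),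
    ([0, 1], [6, 7], 68, true),
    ([0], [2, 6, 7], 67, true),
    ([], [1, 2, 6, 7], 66, true)]

/-- Part of a closed path for the prime 2. -/
def path2_62_0 : List SchurPath.Step :=
  [([12], [], 19, true),
    ([], [4], 82, false),
    ([5], [], 81, false),
    ([], [3, 4, 12], 17, false),
    ([2], [4, 12], 18, false),
    ([2, 3], [12], 19, false),
    ([2], [4, 5, 12], 6, false),
    ([], [3, 4, 5, 12], 3, false),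
    ([0, 2, 3, 4], [], 82, true),
    ([0], [5], 81, true),
    ([], [4, 5], 77, true)]

/-- Part of a closed path for the prime 2. -/
def path2_63_0 : List SchurPath.Step :=
  [([12], [], 25, true),
    ([], [4], 83, false),
    ([2, 6], [], 81, false),
    ([2], [3, 4, 12], 23, false),
    ([], [6, 3, 4, 12], 5, false),
    ([], [4, 12], 24, false),
    ([0, 3], [12], 25, false),
    ([0], [1, 4, 6, 12], 6, false),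
    ([], [3, 1, 4, 6, 12], 0, false),
    ([], [4, 6, 12], 7, false),
    ([1], [3, 4, 6, 12], 5, true),
    ([1, 2], [4, 6, 12], 8, true),
    ([1, 2, 3], [6, 12], 12, true),
    ([], [1, 2, 3, 4, 2, 6, 12], 0, true),
    ([0, 0, 1, 2, 3, 4], [], 83, true),
    ([0, 0, 1], [6], 81, true),
    ([0], [4, 6], 78, true),
    ([], [1, 4, 6], 77, true)]

/-- Part of a closed path for the prime 2. -/
def path2_64_0 : List SchurPath.Step :=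
  [([12], [], 27, true),
    ([], [6], 83, false),
    ([2, 6], [], 83, false),
    ([2], [6, 12], 23, false),
    ([], [6, 6, 12], 5, false),
    ([], [12], 27, false),
    ([], [], 79, true)]

/-- Part of a closed path for the prime 2. -/
def path2_65_0 : List SchurPath.Step :=
  [([12], [], 42, true),
    ([], [6], 85, false),
    ([5, 8], [], 83, false),
    ([5], [6, 12], 38, false),
    ([], [2, 8, 6, 12], 15, false),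
    ([0], [8, 6, 12], 17, false),
    ([0, 2, 5], [12], 42, false),
    ([0, 2], [6, 8, 12], 18, false),
    ([], [3, 5, 6, 8, 12], 3, true),
    ([2], [5, 6, 8, 12], 6, true),
    ([2, 3], [8, 12], 26, true),
    ([], [6, 5, 8, 12], 8, true),
    ([3, 2, 6], [], 85, true),
    ([3], [8], 83, true),
    ([], [6, 8], 80, true)]

/-- Part of a closed path for the prime 2. -/
def path2_66_0 : List SchurPath.Step :=
  [([12], [], 43, true),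
    ([], [7], 85, false),
    ([5, 8], [], 84, false),
    ([5], [1, 3, 6, 7, 12], 36, false),
    ([], [8, 1, 3, 6, 7, 12], 15, false),
    ([0, 5], [3, 6, 7, 12], 37, false),
    ([0], [8, 3, 6, 7, 12], 16, false),
    ([0, 1, 5], [6, 7, 12], 39, false),
    ([0, 1], [8, 6, 7, 12], 18, false),
    ([0, 1, 3, 5], [7, 12], 42, false),
    ([0, 1, 3], [6, 8, 7, 12], 18, false),
    ([0, 1], [5, 6, 8, 7, 12], 9, false),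
    ([0, 1, 5, 6], [12], 43, false),
    ([0, 1, 5], [4, 7, 8, 12], 21, false),
    ([0, 1], [6, 4, 7, 8, 12], 15, false),
    ([0], [5, 6, 4, 7, 8, 12], 1, false),
    ([], [1, 5, 6, 4, 7, 8, 12], 0, false),
    ([1, 5], [7, 8, 12], 25, false),
    ([1], [1, 4, 6, 7, 8, 12], 15, false),
    ([], [5, 1, 4, 6, 7, 8, 12], 1, false),
    ([0, 1], [4, 6, 7, 8, 12], 16, false),
    ([0], [5, 4, 6, 7, 8, 12], 2, false),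
    ([0], [6, 7, 8, 12], 19, false),
    ([], [4, 5, 6, 7, 8, 12], 0, false),
    ([], [4, 5, 6, 7, 8, 12], 0, true),
    ([0], [5, 6, 7, 8, 12], 10, true),
    ([0, 4], [7, 8, 12], 26, true),
    ([0], [4, 6, 5, 7, 8, 12], 5, true),
    ([0, 2], [6, 5, 7, 8, 12], 12, true),
    ([0, 2, 4], [5, 7, 8, 12], 23, true),
    ([0], [2, 4, 6, 2, 5, 7, 8, 12], 2, true),
    ([0, 1], [4, 6, 2, 5, 7, 8, 12], 4, true),
    ([0, 1, 2], [6, 2, 5, 7, 8, 12], 11, true),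
    ([0, 1, 2, 4], [2, 5, 7, 8, 12], 22, true),
    ([], [2, 4, 6, 1, 2, 5, 7, 8, 12], 1, true),
    ([1], [4, 6, 1, 2, 5, 7, 8, 12], 3, true),
    ([1, 2], [6, 1, 2, 5, 7, 8, 12], 10, true),
    ([1, 2, 4], [1, 2, 5, 7, 8, 12], 21, true),
    ([1, 2, 4, 6], [8, 12], 33, true),
    ([1, 2], [4, 6, 7, 5, 8, 12], 9, true),
    ([1, 2, 3], [6, 7, 5, 8, 12], 13, true),
    ([], [3, 4, 3, 6, 7, 5, 8, 12], 4, true),
    ([2], [4, 3, 6, 7, 5, 8, 12], 7, true),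
    ([2, 3], [3, 6, 7, 5, 8, 12], 11, true),
    ([], [2, 3, 4, 1, 3, 6, 7, 5, 8, 12], 0, true),
    ([0], [3, 4, 1, 3, 6, 7, 5, 8, 12], 3, true),
    ([0, 2], [4, 1, 3, 6, 7, 5, 8, 12], 6, true),
    ([0, 2, 3], [1, 3, 6, 7, 5, 8, 12], 10, true),
    ([0, 2, 3, 4, 0, 1, 3, 6, 7], [], 85, true),
    ([0, 2, 3, 4], [8], 84, true),
    ([0], [7, 8], 81, true),
    ([], [4, 7, 8], 77, true)]

/-- Part of a closed path for the prime 2. -/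
def path2_67_0 : List SchurPath.Step :=
  [([12], [], 44, true),
    ([], [8], 85, false),
    ([5, 8], [], 85, false),
    ([5], [8, 12], 41, false),
    ([], [8, 8, 12], 20, false),
    ([], [12], 44, false),
    ([0, 3], [], 82, true),
    ([0], [5], 80, true),
    ([], [3, 5], 77, true)]

/-- Part of a closed path for the prime 2. -/
def path2_68_0 : List SchurPath.Step :=
  [([12], [], 52, true),
    ([], [7], 86, false),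
    ([9], [], 84, false),
    ([], [1, 3, 6, 7, 12], 45, false),
    ([0], [3, 6, 7, 12], 46, false),
    ([], [1, 9, 3, 6, 7, 12], 0, false),
    ([1], [6, 7, 12], 48, false),
    ([1, 3], [7, 12], 51, false),
    ([1], [6, 9, 7, 12], 8, false),
    ([1, 2, 3, 6], [12], 52, false),
    ([1, 2, 3], [1, 3, 6, 7, 9, 12], 21, false),
    ([1, 2], [6, 1, 3, 6, 7, 9, 12], 6, false),
    ([1], [3, 6, 1, 3, 6, 7, 9, 12], 3, false),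
    ([], [2, 3, 6, 1, 3, 6, 7, 9, 12], 1, false),
    ([0, 1, 2, 3], [3, 6, 7, 9, 12], 22, false),
    ([0, 1, 2], [6, 3, 6, 7, 9, 12], 7, false),
    ([0, 1], [3, 6, 3, 6, 7, 9, 12], 4, false),
    ([0], [2, 3, 6, 3, 6, 7, 9, 12], 2, false),
    ([0, 2, 3], [6, 7, 9, 12], 24, false),
    ([0, 2], [3, 6, 6, 7, 9, 12], 6, false),
    ([0], [3, 3, 6, 6, 7, 9, 12], 3, false),
    ([], [2, 3, 3, 6, 6, 7, 9, 12], 0, false),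
    ([2], [6, 6, 7, 9, 12], 9, false),
    ([2], [7, 9, 12], 27, false),
    ([], [7, 9, 12], 5, false),
    ([], [7, 9, 12], 5, true),
    ([2], [7, 9, 12], 27, true),
    ([2], [6, 6, 7, 9, 12], 9, true),
    ([], [2, 3, 3, 6, 6, 7, 9, 12], 0, true),
    ([0], [3, 3, 6, 6, 7, 9, 12], 3, true),
    ([0, 2], [3, 6, 6, 7, 9, 12], 6, true),
    ([0, 2, 3], [6, 7, 9, 12], 24, true),
    ([0], [2, 3, 6, 3, 6, 7, 9, 12], 2, true),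
    ([0, 1], [3, 6, 3, 6, 7, 9, 12], 4, true),
    ([0, 1, 2], [6, 3, 6, 7, 9, 12], 7, true),
    ([0, 1, 2, 3], [3, 6, 7, 9, 12], 22, true),
    ([], [2, 3, 6, 1, 3, 6, 7, 9, 12], 1, true),
    ([1], [3, 6, 1, 3, 6, 7, 9, 12], 3, true),
    ([1, 2], [6, 1, 3, 6, 7, 9, 12], 6, true),
    ([1, 2, 3], [1, 3, 6, 7, 9, 12], 21, true),
    ([1], [6, 0, 1, 3, 6, 7, 9, 12], 8, true),
    ([], [1, 3, 2, 6, 0, 1, 3, 6, 7, 9, 12], 0, true),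
    ([0, 0, 1, 3, 2, 6, 0, 1, 3, 6, 7], [], 86, true),
    ([0, 0, 1, 3, 2, 6], [9], 84, true),
    ([0, 0, 1, 3], [7, 9], 83, true),
    ([0, 0, 1], [6, 7, 9], 80, true),
    ([0], [3, 6, 7, 9], 78, true),
    ([], [1, 3, 6, 7, 9], 77, true)]

/-- Part of a closed path for the prime 2. -/
def path2_69_0 : List SchurPath.Step :=
  [([12], [], 64, true),
    ([], [9], 87, false),
    ([2, 3, 4, 8, 10], [], 86, false),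
    ([2, 3, 4, 8], [12], 64, false),
    ([2, 3, 4], [5, 8, 9, 10, 12], 40, false),
    ([2, 3], [2, 4, 8, 5, 8, 9, 10, 12], 10, false),
    ([2], [4, 2, 4, 8, 5, 8, 9, 10, 12], 6, false),
    ([], [3, 4, 2, 4, 8, 5, 8, 9, 10, 12], 3, false),
    ([0, 2, 3], [4, 8, 5, 8, 9, 10, 12], 12, false),
    ([0, 2], [4, 4, 8, 5, 8, 9, 10, 12], 8, false),
    ([0], [3, 4, 4, 8, 5, 8, 9, 10, 12], 5, false),
    ([0, 3], [8, 5, 8, 9, 10, 12], 14, false),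
    ([0, 3], [8, 9, 10, 12], 41, false),
    ([0, 3, 5], [9, 10, 12], 44, false),
    ([0, 3], [3, 5, 9, 10, 12], 15, false),
    ([0], [5, 3, 5, 9, 10, 12], 6, false),
    ([], [3, 5, 3, 5, 9, 10, 12], 0, false),
    ([3], [5, 9, 10, 12], 18, false),
    ([], [5, 5, 9, 10, 12], 9, false),
    ([], [9, 10, 12], 20, false),
    ([], [9, 10, 12], 20, true),
    ([], [5, 5, 9, 10, 12], 9, true),
    ([3], [5, 9, 10, 12], 18, true),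
    ([], [3, 5, 3, 5, 9, 10, 12], 0, true),
    ([0], [5, 3, 5, 9, 10, 12], 6, true),
    ([0, 3], [3, 5, 9, 10, 12], 15, true),
    ([0, 3, 5], [9, 10, 12], 44, true),
    ([0, 3], [8, 9, 10, 12], 41, true),
    ([0, 3, 8], [10, 12], 53, true),
    ([0, 3], [8, 9, 8, 10, 12], 14, true),
    ([0], [3, 4, 4, 8, 9, 8, 10, 12], 5, true),
    ([0, 2], [4, 4, 8, 9, 8, 10, 12], 8, true),
    ([0, 2, 3], [4, 8, 9, 8, 10, 12], 12, true),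
    ([], [3, 4, 2, 4, 8, 9, 8, 10, 12], 3, true),
    ([2], [4, 2, 4, 8, 9, 8, 10, 12], 6, true),
    ([2, 3], [2, 4, 8, 9, 8, 10, 12], 10, true),
    ([2, 3, 4], [9, 8, 10, 12], 40, true),
    ([2], [8, 4, 9, 8, 10, 12], 13, true),
    ([2, 4], [4, 9, 8, 10, 12], 39, true),
    ([], [8, 3, 4, 9, 8, 10, 12], 12, true),
    ([], [4, 2, 8, 3, 4, 9, 8, 10, 12], 0, true),
    ([0], [2, 8, 3, 4, 9, 8, 10, 12], 10, true),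
    ([0, 4], [3, 4, 9, 8, 10, 12], 38, true),
    ([0, 4, 8], [8, 10, 12], 49, true),
    ([0], [4, 8, 9, 4, 8, 10, 12], 9, true),
    ([0, 3], [8, 9, 4, 8, 10, 12], 13, true),
    ([0, 3, 4], [9, 4, 8, 10, 12], 39, true),
    ([0, 3, 4, 8], [4, 8, 10, 12], 48, true),
    ([0], [3, 4, 8, 9, 3, 4, 8, 10, 12], 5, true),
    ([0, 2], [4, 8, 9, 3, 4, 8, 10, 12], 8, true),
    ([0, 2, 3], [8, 9, 3, 4, 8, 10, 12], 12, true),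
    ([], [3, 4, 2, 8, 9, 3, 4, 8, 10, 12], 3, true),
    ([2], [4, 2, 8, 9, 3, 4, 8, 10, 12], 6, true),
    ([2, 3], [2, 8, 9, 3, 4, 8, 10, 12], 10, true),
    ([2, 3, 4], [9, 3, 4, 8, 10, 12], 38, true),
    ([2, 3, 4, 8], [3, 4, 8, 10, 12], 47, true),
    ([2, 3, 4], [8, 9, 2, 3, 4, 8, 10, 12], 20, true),
    ([2, 3, 4, 5, 5, 8, 9], [], 87, true),
    ([2, 3, 4, 5, 5, 8], [10], 86, true),
    ([2, 3, 4, 5], [9, 10], 85, true)]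

/-- Part of a closed path for the prime 2. -/
def path2_69_1 : List SchurPath.Step :=
  [([2, 3, 4], [8, 9, 10], 82, true),
    ([], [5, 8, 9, 10], 81, true)]

/-- Part of a closed path for the prime 2. -/
def path2_70_0 : List SchurPath.Step :=
  [([12], [], 65, true),
    ([], [10], 87, false),
    ([2, 3, 4, 8, 10], [], 87, false),
    ([2, 3, 4, 8], [3, 4, 8, 10, 12], 57, false),
    ([2, 3, 4], [1, 2, 10, 3, 4, 8, 10, 12], 36, false),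
    ([2, 3], [8, 1, 2, 10, 3, 4, 8, 10, 12], 10, false),
    ([2], [4, 8, 1, 2, 10, 3, 4, 8, 10, 12], 6, false),
    ([], [3, 4, 8, 1, 2, 10, 3, 4, 8, 10, 12], 3, false),
    ([0, 2, 3, 4], [2, 10, 3, 4, 8, 10, 12], 37, false),
    ([0, 2, 3], [8, 2, 10, 3, 4, 8, 10, 12], 11, false),
    ([0, 2], [4, 8, 2, 10, 3, 4, 8, 10, 12], 7, false),
    ([0], [3, 4, 8, 2, 10, 3, 4, 8, 10, 12], 4, false),
    ([0, 1, 2, 3, 4], [10, 3, 4, 8, 10, 12], 38, false),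
    ([0, 1, 2, 3], [2, 8, 10, 3, 4, 8, 10, 12], 10, false),
    ([0, 1, 2], [4, 2, 8, 10, 3, 4, 8, 10, 12], 6, false),
    ([0, 1], [3, 4, 2, 8, 10, 3, 4, 8, 10, 12], 3, false),
    ([0], [2, 3, 4, 2, 8, 10, 3, 4, 8, 10, 12], 1, false),
    ([], [1, 2, 3, 4, 2, 8, 10, 3, 4, 8, 10, 12], 0, false),
    ([1, 2, 3], [8, 10, 3, 4, 8, 10, 12], 12, false),
    ([1, 2], [4, 8, 10, 3, 4, 8, 10, 12], 8, false),
    ([1], [3, 4, 8, 10, 3, 4, 8, 10, 12], 5, false),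
    ([1, 3, 4, 8], [4, 8, 10, 12], 58, false),
    ([1, 3, 4], [2, 3, 10, 4, 8, 10, 12], 37, false),
    ([1, 3], [8, 2, 3, 10, 4, 8, 10, 12], 11, false),
    ([1], [4, 8, 2, 3, 10, 4, 8, 10, 12], 7, false),
    ([], [3, 4, 8, 2, 3, 10, 4, 8, 10, 12], 2, false),
    ([3, 4], [3, 10, 4, 8, 10, 12], 38, false),
    ([3], [2, 8, 3, 10, 4, 8, 10, 12], 10, false),
    ([], [4, 2, 8, 3, 10, 4, 8, 10, 12], 6, false),
    ([0, 3], [8, 3, 10, 4, 8, 10, 12], 12, false),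
    ([0], [4, 8, 3, 10, 4, 8, 10, 12], 8, false),
    ([0, 2, 3, 4], [10, 4, 8, 10, 12], 39, false),
    ([0, 2, 3], [8, 10, 4, 8, 10, 12], 13, false),
    ([0, 2], [4, 8, 10, 4, 8, 10, 12], 9, false),
    ([0, 2, 4, 8], [8, 10, 12], 59, false),
    ([0, 2, 4], [1, 2, 4, 10, 8, 10, 12], 36, false),
    ([0, 2], [8, 1, 2, 4, 10, 8, 10, 12], 10, false),
    ([0], [4, 8, 1, 2, 4, 10, 8, 10, 12], 3, false),
    ([], [2, 4, 8, 1, 2, 4, 10, 8, 10, 12], 0, false),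
    ([2, 4], [2, 4, 10, 8, 10, 12], 37, false),
    ([2], [8, 2, 4, 10, 8, 10, 12], 11, false),
    ([], [4, 8, 2, 4, 10, 8, 10, 12], 4, false),
    ([1, 2, 4], [4, 10, 8, 10, 12], 38, false),
    ([1, 2], [2, 8, 4, 10, 8, 10, 12], 10, false),
    ([1], [4, 2, 8, 4, 10, 8, 10, 12], 3, false),
    ([], [2, 4, 2, 8, 4, 10, 8, 10, 12], 1, false),
    ([0, 1, 2], [8, 4, 10, 8, 10, 12], 12, false),
    ([0, 1], [4, 8, 4, 10, 8, 10, 12], 5, false),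
    ([0, 1, 4], [10, 8, 10, 12], 40, false),
    ([0, 1], [2, 4, 8, 10, 8, 10, 12], 10, false),
    ([0], [4, 2, 4, 8, 10, 8, 10, 12], 1, false),
    ([], [1, 4, 2, 4, 8, 10, 8, 10, 12], 0, false),
    ([1], [4, 8, 10, 8, 10, 12], 12, false),
    ([1, 2], [8, 10, 8, 10, 12], 14, false),
    ([1, 2, 8], [10, 12], 63, false),
    ([1, 2], [5, 6, 8, 10, 10, 12], 39, false),
    ([1, 2, 3], [6, 8, 10, 10, 12], 41, false),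
    ([1, 2, 3, 5], [8, 10, 10, 12], 42, false),
    ([1, 2, 3], [6, 8, 8, 10, 10, 12], 18, false),
    ([1, 2], [5, 6, 8, 8, 10, 10, 12], 9, false)]

/-- Part of a closed path for the prime 2. -/
def path2_70_1 : List SchurPath.Step :=
  [([1, 2, 5, 6], [10, 10, 12], 44, false),
    ([1, 2, 5], [3, 5, 10, 10, 12], 21, false),
    ([1, 2], [6, 3, 5, 10, 10, 12], 15, false),
    ([1], [5, 6, 3, 5, 10, 10, 12], 3, false),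
    ([], [2, 5, 6, 3, 5, 10, 10, 12], 1, false),
    ([0, 1, 2, 5], [5, 10, 10, 12], 24, false),
    ([0, 1, 2], [3, 6, 5, 10, 10, 12], 15, false),
    ([0, 1], [5, 3, 6, 5, 10, 10, 12], 3, false),
    ([0], [2, 5, 3, 6, 5, 10, 10, 12], 1, false),
    ([], [1, 2, 5, 3, 6, 5, 10, 10, 12], 0, false),
    ([1, 2], [6, 5, 10, 10, 12], 18, false),
    ([1, 2, 3, 5], [10, 10, 12], 26, false),
    ([1, 2, 3], [5, 6, 10, 10, 12], 15, false),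
    ([1, 2], [5, 5, 6, 10, 10, 12], 6, false),
    ([1], [3, 5, 5, 6, 10, 10, 12], 3, false),
    ([], [2, 3, 5, 5, 6, 10, 10, 12], 1, false),
    ([0, 1, 2, 3], [6, 10, 10, 12], 20, false),
    ([0, 1, 2, 3, 6], [12], 65, false),
    ([0, 1, 2, 3], [1, 2, 6, 7, 12], 21, false),
    ([0, 1, 2], [6, 1, 2, 6, 7, 12], 6, false),
    ([0, 1], [3, 6, 1, 2, 6, 7, 12], 3, false),
    ([0], [2, 3, 6, 1, 2, 6, 7, 12], 1, false),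
    ([], [1, 2, 3, 6, 1, 2, 6, 7, 12], 0, false),
    ([1, 2, 3], [2, 6, 7, 12], 22, false),
    ([1, 2], [6, 2, 6, 7, 12], 7, false),
    ([1], [3, 6, 2, 6, 7, 12], 4, false),
    ([], [2, 3, 6, 2, 6, 7, 12], 2, false),
    ([2, 3], [6, 7, 12], 23, false),
    ([2], [6, 6, 7, 12], 8, false),
    ([], [3, 6, 6, 7, 12], 5, false),
    ([3], [7, 12], 27, false),
    ([], [7, 12], 8, false),
    ([], [7, 12], 8, true),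
    ([3], [7, 12], 27, true),
    ([], [3, 6, 6, 7, 12], 0, true),
    ([0], [6, 7, 12], 24, true),
    ([0], [6, 3, 6, 7, 12], 2, true),
    ([0, 1], [3, 6, 7, 12], 22, true),
    ([], [6, 1, 3, 6, 7, 12], 1, true),
    ([1], [1, 3, 6, 7, 12], 21, true),
    ([1], [6, 0, 1, 3, 6, 7, 12], 5, true),
    ([], [1, 2, 2, 6, 0, 1, 3, 6, 7, 12], 0, true),
    ([0, 0, 1, 2, 2, 6], [], 84, true),
    ([0, 0, 1, 2], [7], 83, true),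
    ([0, 0, 1], [6, 7], 79, true),
    ([0], [2, 6, 7], 78, true),
    ([], [1, 2, 6, 7], 77, true)]

/-- Part of a closed path for the prime 2. -/
def path2_71_0 : List SchurPath.Step :=
  [([13], [], 19, true),
    ([], [4], 93, false),
    ([0, 1, 2, 5], [], 92, false),
    ([0, 1, 2], [13], 19, false),
    ([0, 1], [4, 5, 13], 3, false),
    ([0], [2, 4, 5, 13], 1, false),
    ([], [1, 2, 4, 5, 13], 0, false),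
    ([1], [5, 13], 12, true),
    ([], [2, 5, 13], 11, true),
    ([], [4, 1, 2, 5, 13], 0, true),
    ([0], [1, 2, 5, 13], 10, true),
    ([0, 4], [], 93, true),
    ([0], [5], 92, true),
    ([], [4, 5], 88, true)]

/-- Part of a closed path for the prime 2. -/
def path2_72_0 : List SchurPath.Step :=
  [([13], [], 25, true),
    ([], [4], 94, false),
    ([0, 1, 2, 6], [], 92, false),
    ([0, 1, 2], [13], 25, false),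
    ([0, 1], [1, 4, 6, 13], 3, false),
    ([0], [2, 1, 4, 6, 13], 1, false),
    ([], [1, 2, 1, 4, 6, 13], 0, false),
    ([1], [4, 6, 13], 4, false),
    ([], [2, 4, 6, 13], 2, false),
    ([], [6, 13], 12, true),
    ([], [4, 2, 6, 13], 2, true),
    ([1], [2, 6, 13], 11, true),
    ([], [1, 4, 1, 2, 6, 13], 0, true),
    ([0], [4, 1, 2, 6, 13], 1, true),
    ([0, 1], [1, 2, 6, 13], 10, true),
    ([0, 1, 4], [], 94, true),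
    ([0, 1], [6], 92, true),
    ([0], [4, 6], 89, true),
    ([], [1, 4, 6], 88, true)]

/-- Part of a closed path for the prime 2. -/
def path2_73_0 : List SchurPath.Step :=
  [([13], [], 27, true),
    ([], [6], 94, false),
    ([0, 1, 2, 6], [], 94, false),
    ([0, 1, 2], [1, 2, 6, 13], 21, false),
    ([0, 1], [6, 1, 2, 6, 13], 3, false),
    ([0], [2, 6, 1, 2, 6, 13], 1, false),
    ([], [1, 2, 6, 1, 2, 6, 13], 0, false),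
    ([1, 2], [2, 6, 13], 22, false),
    ([1], [6, 2, 6, 13], 4, false),
    ([], [2, 6, 2, 6, 13], 2, false),
    ([2], [6, 13], 23, false),
    ([], [6, 6, 13], 5, false),
    ([], [13], 27, false),
    ([], [], 90, true)]

/-- Part of a closed path for the prime 2. -/
def path2_74_0 : List SchurPath.Step :=
  [([13], [], 42, true),
    ([], [6], 96, false),
    ([0, 4, 8], [], 94, false),
    ([0, 4], [1, 2, 6, 13], 36, false),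
    ([0], [8, 1, 2, 6, 13], 10, false),
    ([], [4, 8, 1, 2, 6, 13], 0, false),
    ([4], [2, 6, 13], 37, false),
    ([], [8, 2, 6, 13], 11, false),
    ([1, 4], [6, 13], 38, false),
    ([1], [2, 8, 6, 13], 10, false),
    ([], [4, 2, 8, 6, 13], 1, false),
    ([0, 1], [8, 6, 13], 12, false),
    ([0, 1, 2, 4], [13], 42, false),
    ([0, 1, 2], [6, 8, 13], 13, false),
    ([0], [3, 4, 6, 8, 13], 4, true),
    ([0, 2], [4, 6, 8, 13], 7, true),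
    ([], [3, 1, 4, 6, 8, 13], 3, true),
    ([2], [1, 4, 6, 8, 13], 6, true),
    ([2, 3], [8, 13], 25, true),
    ([], [2, 3, 6, 4, 8, 13], 0, true),
    ([0], [3, 6, 4, 8, 13], 3, true),
    ([0, 2], [6, 4, 8, 13], 6, true),
    ([0, 2, 3], [4, 8, 13], 21, true),
    ([0], [6, 0, 4, 8, 13], 8, true),
    ([0], [3, 2, 6, 0, 4, 8, 13], 2, true),
    ([0, 1], [2, 6, 0, 4, 8, 13], 7, true),
    ([], [3, 1, 2, 6, 0, 4, 8, 13], 1, true),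
    ([1], [1, 2, 6, 0, 4, 8, 13], 6, true),
    ([1, 3, 0, 1, 2, 6], [], 96, true),
    ([1, 3], [8], 94, true),
    ([], [6, 8], 91, true)]

/-- Part of a closed path for the prime 2. -/
def path2_75_0 : List SchurPath.Step :=
  [([13], [], 43, true),
    ([], [7], 96, false),
    ([0, 4, 8], [], 95, false),
    ([0, 4], [13], 43, false),
    ([0], [4, 7, 8, 13], 10, false),
    ([], [4, 4, 7, 8, 13], 0, false),
    ([], [7, 8, 13], 14, false),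
    ([], [7, 8, 13], 14, true),
    ([4], [8, 13], 32, true),
    ([], [4, 7, 4, 8, 13], 0, true),
    ([0], [7, 4, 8, 13], 10, true),
    ([0, 4], [4, 8, 13], 28, true),
    ([0, 4, 7], [], 96, true),
    ([0, 4], [8], 95, true),
    ([0], [7, 8], 92, true),
    ([], [4, 7, 8], 88, true)]

/-- Part of a closed path for the prime 2. -/
def path2_76_0 : List SchurPath.Step :=
  [([13], [], 44, true),
    ([], [8], 96, false),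
    ([0, 4, 8], [], 96, false),
    ([0, 4], [4, 8, 13], 36, false),
    ([0], [8, 4, 8, 13], 10, false),
    ([], [4, 8, 4, 8, 13], 0, false),
    ([4], [8, 13], 40, false),
    ([], [2, 4, 8, 8, 13], 10, false),
    ([0], [4, 8, 8, 13], 12, false),
    ([0, 2], [8, 8, 13], 14, false),
    ([0, 2], [13], 44, false),
    ([0], [3, 5, 13], 3, false),
    ([], [2, 3, 5, 13], 0, false),
    ([], [5, 13], 8, true),
    ([], [3, 2, 5, 13], 2, true),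
    ([1], [2, 5, 13], 7, true),
    ([], [1, 3, 1, 2, 5, 13], 0, true),
    ([0], [3, 1, 2, 5, 13], 1, true),
    ([0, 1], [1, 2, 5, 13], 6, true),
    ([0, 1, 3], [], 93, true),
    ([0], [5], 91, true),
    ([], [3, 5], 88, true)]

/-- Part of a closed path for the prime 2. -/
def path2_77_0 : List SchurPath.Step :=
  [([13], [], 52, true),
    ([], [7], 97, false),
    ([1, 2, 3, 6, 9], [], 95, false),
    ([1, 2, 3, 6], [13], 52, false),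
    ([1, 2, 3], [1, 3, 6, 7, 9, 13], 21, false),
    ([1, 2], [6, 1, 3, 6, 7, 9, 13], 6, false),
    ([1], [3, 6, 1, 3, 6, 7, 9, 13], 3, false),
    ([], [2, 3, 6, 1, 3, 6, 7, 9, 13], 1, false),
    ([0, 1, 2, 3], [3, 6, 7, 9, 13], 22, false),
    ([0, 1, 2], [6, 3, 6, 7, 9, 13], 7, false),
    ([0, 1], [3, 6, 3, 6, 7, 9, 13], 4, false),
    ([0], [2, 3, 6, 3, 6, 7, 9, 13], 2, false),
    ([0, 2, 3], [6, 7, 9, 13], 24, false),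
    ([0, 2], [3, 6, 6, 7, 9, 13], 6, false),
    ([0], [3, 3, 6, 6, 7, 9, 13], 3, false),
    ([], [2, 3, 3, 6, 6, 7, 9, 13], 0, false),
    ([2], [6, 6, 7, 9, 13], 9, false),
    ([2], [7, 9, 13], 27, false),
    ([], [7, 9, 13], 5, false),
    ([], [7, 9, 13], 5, true),
    ([2], [7, 9, 13], 27, true),
    ([], [6, 7, 9, 13], 23, true),
    ([], [6, 2, 6, 7, 9, 13], 2, true),
    ([1], [2, 6, 7, 9, 13], 22, true),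
    ([], [1, 6, 1, 2, 6, 7, 9, 13], 0, true),
    ([0], [6, 1, 2, 6, 7, 9, 13], 1, true),
    ([0, 1], [1, 2, 6, 7, 9, 13], 21, true),
    ([0, 1, 6], [9, 13], 34, true),
    ([0, 1], [6, 7, 6, 9, 13], 9, true),
    ([], [3, 3, 6, 7, 6, 9, 13], 1, true),
    ([1], [3, 6, 7, 6, 9, 13], 6, true),
    ([1, 3], [7, 6, 9, 13], 24, true),
    ([], [6, 3, 7, 6, 9, 13], 7, true),
    ([3], [3, 7, 6, 9, 13], 22, true),
    ([3, 6], [6, 9, 13], 31, true),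
    ([], [3, 6, 7, 3, 6, 9, 13], 5, true),
    ([2], [6, 7, 3, 6, 9, 13], 8, true),
    ([2, 3], [7, 3, 6, 9, 13], 23, true),
    ([2, 3, 6], [3, 6, 9, 13], 30, true),
    ([], [2, 3, 6, 7, 2, 3, 6, 9, 13], 2, true),
    ([1], [3, 6, 7, 2, 3, 6, 9, 13], 4, true),
    ([1, 2], [6, 7, 2, 3, 6, 9, 13], 7, true),
    ([1, 2, 3], [7, 2, 3, 6, 9, 13], 22, true),
    ([1, 2, 3, 6], [2, 3, 6, 9, 13], 29, true),
    ([1], [6, 7, 1, 2, 3, 6, 9, 13], 8, true),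
    ([], [2, 6, 7, 1, 2, 3, 6, 9, 13], 7, true),
    ([], [3, 1, 2, 6, 7, 1, 2, 3, 6, 9, 13], 0, true),
    ([0], [1, 2, 6, 7, 1, 2, 3, 6, 9, 13], 6, true),
    ([0], [3, 0, 1, 2, 6, 7, 1, 2, 3, 6, 9, 13], 2, true),
    ([0, 1, 1, 3, 0, 1, 2, 6, 7], [], 97, true),
    ([0, 1, 1, 3, 0, 1, 2, 6], [9], 95, true),
    ([0, 1, 1, 3], [7, 9], 94, true),
    ([0, 1], [6, 7, 9], 91, true),
    ([0], [3, 6, 7, 9], 89, true),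
    ([], [1, 3, 6, 7, 9], 88, true)]

/-- Part of a closed path for the prime 2. -/
def path2_78_0 : List SchurPath.Step :=
  [([13], [], 64, true),
    ([], [9], 98, false),
    ([0, 1, 4, 10], [], 97, false),
    ([0, 1, 4], [2, 3, 6, 9, 13], 56, false),
    ([0, 1], [10, 2, 3, 6, 9, 13], 11, false),
    ([0], [4, 10, 2, 3, 6, 9, 13], 2, false),
    ([0, 4], [3, 6, 9, 13], 57, false),
    ([0], [1, 2, 10, 3, 6, 9, 13], 10, false),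
    ([], [4, 1, 2, 10, 3, 6, 9, 13], 0, false),
    ([], [2, 10, 3, 6, 9, 13], 11, false),
    ([1], [10, 3, 6, 9, 13], 12, false),
    ([1, 2, 4], [6, 9, 13], 58, false),
    ([1, 2], [2, 3, 10, 6, 9, 13], 11, false),
    ([1], [4, 2, 3, 10, 6, 9, 13], 4, false),
    ([], [2, 4, 2, 3, 10, 6, 9, 13], 2, false),
    ([2], [3, 10, 6, 9, 13], 12, false),
    ([], [4, 3, 10, 6, 9, 13], 5, false),
    ([], [10, 6, 9, 13], 13, false),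
    ([3, 4], [9, 13], 61, false),
    ([3], [1, 4, 6, 10, 9, 13], 10, false),
    ([], [4, 1, 4, 6, 10, 9, 13], 6, false),
    ([0, 3], [4, 6, 10, 9, 13], 11, false),
    ([0], [4, 4, 6, 10, 9, 13], 7, false),
    ([0, 1, 3], [6, 10, 9, 13], 14, false),
    ([0, 1, 3, 6], [13], 64, false),
    ([0, 1, 3], [5, 8, 9, 10, 13], 25, false),
    ([0, 1], [1, 4, 6, 5, 8, 9, 10, 13], 6, false),
    ([0], [3, 1, 4, 6, 5, 8, 9, 10, 13], 1, false),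
    ([], [1, 3, 1, 4, 6, 5, 8, 9, 10, 13], 0, false),
    ([1], [4, 6, 5, 8, 9, 10, 13], 7, false),
    ([], [3, 4, 6, 5, 8, 9, 10, 13], 2, false),
    ([3, 4], [8, 9, 10, 13], 26, false),
    ([3], [5, 6, 8, 9, 10, 13], 10, false),
    ([], [4, 5, 6, 8, 9, 10, 13], 6, false),
    ([], [4, 5, 6, 8, 9, 10, 13], 6, true),
    ([3], [6, 8, 9, 10, 13], 19, true),
    ([], [3, 5, 4, 6, 8, 9, 10, 13], 2, true),
    ([1], [5, 4, 6, 8, 9, 10, 13], 7, true),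
    ([1, 3], [4, 6, 8, 9, 10, 13], 16, true),
    ([], [1, 3, 5, 1, 4, 6, 8, 9, 10, 13], 0, true),
    ([0], [3, 5, 1, 4, 6, 8, 9, 10, 13], 1, true),
    ([0, 1], [5, 1, 4, 6, 8, 9, 10, 13], 6, true),
    ([0, 1, 3], [1, 4, 6, 8, 9, 10, 13], 15, true),
    ([0, 1, 3, 5], [8, 9, 10, 13], 25, true),
    ([0, 1], [3, 5, 6, 4, 8, 9, 10, 13], 5, true),
    ([0, 1, 2], [5, 6, 4, 8, 9, 10, 13], 8, true),
    ([0, 1, 2, 3], [6, 4, 8, 9, 10, 13], 17, true),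
    ([0, 1, 2, 3, 5], [4, 8, 9, 10, 13], 23, true),
    ([], [2, 3, 5, 6, 2, 4, 8, 9, 10, 13], 1, true),
    ([1], [3, 5, 6, 2, 4, 8, 9, 10, 13], 3, true),
    ([1, 2], [5, 6, 2, 4, 8, 9, 10, 13], 6, true),
    ([1, 2, 3], [6, 2, 4, 8, 9, 10, 13], 15, true),
    ([1, 2, 3, 5], [2, 4, 8, 9, 10, 13], 21, true),
    ([1, 2, 3, 5, 6], [9, 10, 13], 40, true),
    ([1, 2], [6, 8, 4, 9, 10, 13], 18, true),
    ([], [1, 2, 5, 3, 6, 8, 4, 9, 10, 13], 0, true),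
    ([0], [2, 5, 3, 6, 8, 4, 9, 10, 13], 1, true),
    ([0, 1], [5, 3, 6, 8, 4, 9, 10, 13], 3, true),
    ([0, 1, 2], [3, 6, 8, 4, 9, 10, 13], 15, true),
    ([0, 1, 2, 5], [8, 4, 9, 10, 13], 24, true)]

/-- Part of a closed path for the prime 2. -/
def path2_78_1 : List SchurPath.Step :=
  [([0, 1, 2, 5, 6], [4, 9, 10, 13], 39, true),
    ([0, 1], [6, 8, 3, 4, 9, 10, 13], 17, true),
    ([0, 1, 5], [8, 3, 4, 9, 10, 13], 23, true),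
    ([], [5, 6, 2, 8, 3, 4, 9, 10, 13], 1, true),
    ([1], [6, 2, 8, 3, 4, 9, 10, 13], 15, true),
    ([1, 5], [2, 8, 3, 4, 9, 10, 13], 21, true),
    ([1, 5, 6], [3, 4, 9, 10, 13], 38, true),
    ([1, 5, 6, 8], [10, 13], 49, true),
    ([], [6, 8, 9, 4, 10, 13], 16, true),
    ([5], [8, 9, 4, 10, 13], 22, true),
    ([5, 6], [9, 4, 10, 13], 37, true),
    ([], [5, 6, 8, 1, 9, 4, 10, 13], 0, true),
    ([0], [6, 8, 1, 9, 4, 10, 13], 15, true),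
    ([0, 5], [8, 1, 9, 4, 10, 13], 21, true),
    ([0, 5, 6], [1, 9, 4, 10, 13], 36, true),
    ([0, 5, 6, 8], [4, 10, 13], 46, true),
    ([], [6, 8, 9, 1, 4, 10, 13], 15, true),
    ([5], [8, 9, 1, 4, 10, 13], 21, true),
    ([5, 6], [9, 1, 4, 10, 13], 36, true),
    ([5, 6, 8], [1, 4, 10, 13], 45, true),
    ([], [5, 6, 8, 9, 0, 1, 4, 10, 13], 9, true),
    ([3], [6, 8, 9, 0, 1, 4, 10, 13], 18, true),
    ([3, 5], [9, 0, 1, 4, 10, 13], 42, true),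
    ([], [8, 6, 9, 0, 1, 4, 10, 13], 18, true),
    ([5], [6, 9, 0, 1, 4, 10, 13], 39, true),
    ([], [5, 8, 3, 6, 9, 0, 1, 4, 10, 13], 5, true),
    ([2], [8, 3, 6, 9, 0, 1, 4, 10, 13], 17, true),
    ([], [2, 5, 2, 8, 3, 6, 9, 0, 1, 4, 10, 13], 0, true),
    ([0], [5, 2, 8, 3, 6, 9, 0, 1, 4, 10, 13], 3, true),
    ([0, 2], [2, 8, 3, 6, 9, 0, 1, 4, 10, 13], 15, true),
    ([0, 2, 5], [3, 6, 9, 0, 1, 4, 10, 13], 38, true),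
    ([0], [2, 5, 8, 2, 3, 6, 9, 0, 1, 4, 10, 13], 2, true),
    ([0, 1], [5, 8, 2, 3, 6, 9, 0, 1, 4, 10, 13], 4, true),
    ([0, 1, 2], [8, 2, 3, 6, 9, 0, 1, 4, 10, 13], 16, true),
    ([0, 1, 2, 5], [2, 3, 6, 9, 0, 1, 4, 10, 13], 37, true),
    ([0, 1, 2], [5, 8, 1, 2, 3, 6, 9, 0, 1, 4, 10, 13], 14, true),
    ([], [2, 4, 4, 5, 8, 1, 2, 3, 6, 9, 0, 1, 4, 10, 13], 1, true),
    ([1], [4, 4, 5, 8, 1, 2, 3, 6, 9, 0, 1, 4, 10, 13], 3, true),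
    ([1, 2], [4, 5, 8, 1, 2, 3, 6, 9, 0, 1, 4, 10, 13], 10, true),
    ([1, 2, 4], [8, 1, 2, 3, 6, 9, 0, 1, 4, 10, 13], 19, true),
    ([], [1, 2, 4, 5, 4, 8, 1, 2, 3, 6, 9, 0, 1, 4, 10, 13], 0, true),
    ([0], [2, 4, 5, 4, 8, 1, 2, 3, 6, 9, 0, 1, 4, 10, 13], 1, true),
    ([0, 1], [4, 5, 4, 8, 1, 2, 3, 6, 9, 0, 1, 4, 10, 13], 3, true),
    ([0, 1, 2], [5, 4, 8, 1, 2, 3, 6, 9, 0, 1, 4, 10, 13], 10, true),
    ([0, 1, 2, 4], [4, 8, 1, 2, 3, 6, 9, 0, 1, 4, 10, 13], 15, true),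
    ([0, 1], [5, 0, 4, 8, 1, 2, 3, 6, 9, 0, 1, 4, 10, 13], 12, true),
    ([0], [2, 5, 0, 4, 8, 1, 2, 3, 6, 9, 0, 1, 4, 10, 13], 11, true),
    ([], [1, 2, 5, 0, 4, 8, 1, 2, 3, 6, 9, 0, 1, 4, 10, 13], 10, true),
    ([4, 0, 1, 2, 5, 0, 4, 8, 1, 2, 3, 6, 9], [], 98, true),
    ([4, 0, 1, 2, 5, 0, 4, 8], [10], 97, true),
    ([4, 0, 1, 2, 5], [9, 10], 96, true),
    ([4], [8, 9, 10], 93, true),
    ([], [5, 8, 9, 10], 92, true)]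

/-- Part of a closed path for the prime 2. -/
def path2_79_0 : List SchurPath.Step :=
  [([13], [], 65, true),
    ([], [10], 98, false),
    ([0, 1, 4, 10], [], 98, false),
    ([0, 1, 4], [1, 4, 10, 13], 55, false),
    ([0, 1], [10, 1, 4, 10, 13], 10, false),
    ([0], [4, 10, 1, 4, 10, 13], 1, false),
    ([], [1, 4, 10, 1, 4, 10, 13], 0, false),
    ([1, 4], [4, 10, 13], 56, false),
    ([1], [10, 4, 10, 13], 11, false),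
    ([], [4, 10, 4, 10, 13], 2, false),
    ([4], [10, 13], 59, false),
    ([], [1, 2, 4, 10, 10, 13], 10, false),
    ([0], [2, 4, 10, 10, 13], 11, false),
    ([0, 1], [4, 10, 10, 13], 12, false),
    ([0, 1, 2], [10, 10, 13], 14, false),
    ([0, 1, 2], [13], 65, false),
    ([0, 1], [1, 2, 6, 7, 13], 3, false),
    ([0], [2, 1, 2, 6, 7, 13], 1, false),
    ([], [1, 2, 1, 2, 6, 7, 13], 0, false),
    ([1], [2, 6, 7, 13], 4, false),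
    ([], [2, 2, 6, 7, 13], 2, false),
    ([], [6, 7, 13], 5, false),
    ([], [6, 7, 13], 5, true),
    ([], [2, 2, 6, 7, 13], 2, true),
    ([1], [2, 6, 7, 13], 4, true),
    ([], [1, 2, 1, 2, 6, 7, 13], 0, true),
    ([0], [2, 1, 2, 6, 7, 13], 1, true),
    ([0, 1], [1, 2, 6, 7, 13], 3, true),
    ([0, 1, 2, 0, 1, 2, 6], [], 95, true),
    ([0, 1, 2], [7], 94, true),
    ([0, 1], [6, 7], 90, true),
    ([0], [2, 6, 7], 89, true),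
    ([], [1, 2, 6, 7], 88, true)]

/-- Part of a closed path for the prime 2. -/
def path2_80_0 : List SchurPath.Step :=
  [([], [7], 104, false),
    ([3], [], 103, false),
    ([], [3, 7, 14], 2, true),
    ([1], [14], 31, true),
    ([1, 7], [], 104, true),
    ([1], [2, 3, 4], 103, true),
    ([], [7, 2, 3, 4], 99, true),
    ([14, 1], [3, 4], 30, false),
    ([14, 1, 2], [4], 31, false),
    ([14, 1], [3, 7, 4], 4, false),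
    ([14], [2, 3, 7, 4], 2, false),
    ([14, 2, 3], [], 32, false)]

/-- Part of a closed path for the prime 2. -/
def path2_81_0 : List SchurPath.Step :=
  [([14], [3, 4, 6, 7], 2, true),
    ([14, 1], [4, 6, 7], 7, true),
    ([14], [1, 3, 1, 4, 6, 7], 0, true),
    ([14, 0], [3, 1, 4, 6, 7], 1, true),
    ([14, 0, 1], [1, 4, 6, 7], 6, true),
    ([14, 0, 1, 3], [7], 25, true),
    ([14, 0, 1, 3, 6], [], 32, true),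
    ([], [4], 105, false),
    ([5], [], 102, false),
    ([], [14], 19, false),
    ([0], [4, 5, 14], 2, true),
    ([], [1, 4, 5, 14], 1, true),
    ([1, 0, 1, 4], [], 105, true),
    ([1, 0, 1], [0, 1, 3, 6, 7], 102, true),
    ([1], [4, 0, 1, 3, 6, 7], 100, true),
    ([], [0, 4, 0, 1, 3, 6, 7], 99, true),
    ([14], [4, 0, 1, 3, 6, 7], 1, false),
    ([14, 0, 1], [1, 3, 6, 7], 10, false),
    ([14, 0], [4, 1, 3, 6, 7], 1, false),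
    ([14], [1, 4, 1, 3, 6, 7], 0, false),
    ([14, 1], [3, 6, 7], 11, false),
    ([14], [4, 3, 6, 7], 2, false),
    ([14], [6, 7], 13, false)]

/-- Part of a closed path for the prime 2. -/
def path2_82_0 : List SchurPath.Step :=
  [([14, 0, 1, 3, 6], [], 35, true),
    ([], [7], 105, false),
    ([5], [], 103, false),
    ([], [5, 7, 14], 5, true),
    ([], [2, 2, 5, 7, 14], 2, true),
    ([1], [2, 5, 7, 14], 4, true),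
    ([], [1, 2, 1, 2, 5, 7, 14], 0, true),
    ([0], [2, 1, 2, 5, 7, 14], 1, true),
    ([0, 1], [1, 2, 5, 7, 14], 3, true),
    ([0, 1, 2], [14], 33, true),
    ([0, 1, 2, 7], [], 105, true),
    ([0, 1, 2], [0, 1, 3, 6, 7], 103, true),
    ([0, 1], [7, 0, 1, 3, 6, 7], 101, true),
    ([], [2, 7, 0, 1, 3, 6, 7], 100, true),
    ([14, 0, 2], [1, 3, 6, 7], 28, false),
    ([14, 0], [7, 1, 3, 6, 7], 3, false),
    ([14], [2, 7, 1, 3, 6, 7], 0, false),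
    ([14, 2], [3, 6, 7], 29, false),
    ([14], [7, 3, 6, 7], 4, false),
    ([14, 1, 2], [6, 7], 31, false),
    ([14, 1], [3, 7, 6, 7], 4, false),
    ([14], [2, 3, 7, 6, 7], 2, false),
    ([14, 2, 3], [7], 34, false),
    ([14, 2], [1, 2, 6, 7, 7], 6, false),
    ([14], [3, 1, 2, 6, 7, 7], 3, false),
    ([14, 0, 2], [2, 6, 7, 7], 7, false),
    ([14, 0], [3, 2, 6, 7, 7], 4, false),
    ([14, 0, 1, 2], [6, 7, 7], 8, false),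
    ([14, 0, 1], [3, 6, 7, 7], 5, false),
    ([14, 0, 1, 3, 6], [], 35, false)]

/-- Part of a closed path for the prime 2. -/
def path2_83_0 : List SchurPath.Step :=
  [([14], [], 35, true),
    ([14], [7, 7], 5, true),
    ([14, 2], [7, 7], 27, true),
    ([14], [6, 7, 7], 23, true),
    ([14], [6, 2, 6, 7, 7], 2, true),
    ([14, 1], [2, 6, 7, 7], 22, true),
    ([14], [1, 6, 1, 2, 6, 7, 7], 0, true),
    ([14, 0], [6, 1, 2, 6, 7, 7], 1, true),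
    ([14, 0, 1], [1, 2, 6, 7, 7], 21, true),
    ([14, 0, 1, 6], [7], 34, true),
    ([14, 0, 1], [6, 7, 6, 7], 9, true),
    ([14], [3, 3, 6, 7, 6, 7], 1, true),
    ([14, 1], [3, 6, 7, 6, 7], 6, true),
    ([14, 1, 3], [7, 6, 7], 24, true),
    ([14], [6, 3, 7, 6, 7], 7, true),
    ([14, 3], [3, 7, 6, 7], 22, true),
    ([14, 3, 6], [6, 7], 31, true),
    ([14], [3, 6, 7, 3, 6, 7], 2, true),
    ([14, 1], [6, 7, 3, 6, 7], 7, true),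
    ([14, 1, 3], [7, 3, 6, 7], 22, true),
    ([14, 1, 3, 6], [3, 6, 7], 29, true),
    ([14], [1, 3, 6, 7, 1, 3, 6, 7], 0, true),
    ([14, 0], [3, 6, 7, 1, 3, 6, 7], 1, true),
    ([14, 0, 1], [6, 7, 1, 3, 6, 7], 6, true),
    ([14, 0, 1, 3], [7, 1, 3, 6, 7], 21, true),
    ([14, 0, 1, 3, 6], [1, 3, 6, 7], 28, true),
    ([], [0, 1, 3, 6, 7], 105, false),
    ([5], [], 105, false),
    ([], [14], 20, false)]

/-- Part of a closed path for the prime 2. -/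
def path2_84_0 : List SchurPath.Step :=
  [([14, 0, 1], [6, 7], 18, true),
    ([14, 0], [3, 6, 7], 16, true),
    ([14], [1, 3, 6, 7], 15, true),
    ([], [0, 1, 3, 6, 7], 106, false),
    ([0, 1, 3, 6, 7], [], 105, false),
    ([0, 1, 3, 6], [14], 33, false),
    ([0, 1, 3], [1, 2, 5, 7, 14], 21, false),
    ([0, 1], [6, 1, 2, 5, 7, 14], 6, false),
    ([0], [3, 6, 1, 2, 5, 7, 14], 1, false),
    ([], [1, 3, 6, 1, 2, 5, 7, 14], 0, false),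
    ([1, 3], [2, 5, 7, 14], 22, false),
    ([1], [6, 2, 5, 7, 14], 7, false),
    ([], [3, 6, 2, 5, 7, 14], 2, false),
    ([3], [5, 7, 14], 23, false),
    ([], [6, 5, 7, 14], 8, false),
    ([2, 3], [7, 14], 26, false),
    ([2], [5, 6, 7, 14], 6, false),
    ([], [3, 5, 6, 7, 14], 3, false),
    ([0, 2], [6, 7, 14], 18, true),
    ([0], [2, 5, 3, 6, 7, 14], 2, true),
    ([0, 1], [5, 3, 6, 7, 14], 4, true),
    ([0, 1, 2], [3, 6, 7, 14], 16, true),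
    ([], [2, 5, 1, 3, 6, 7, 14], 1, true),
    ([1], [5, 1, 3, 6, 7, 14], 3, true),
    ([1, 2], [1, 3, 6, 7, 14], 15, true),
    ([1, 2, 5], [], 106, true),
    ([1, 2], [5], 105, true),
    ([1], [0, 1, 3, 6, 7, 5], 101, true),
    ([], [2, 0, 1, 3, 6, 7, 5], 99, true),
    ([14, 1], [1, 3, 6, 7, 5], 3, false),
    ([14], [2, 1, 3, 6, 7, 5], 1, false),
    ([14, 0, 1], [3, 6, 7, 5], 4, false),
    ([14, 0], [2, 3, 6, 7, 5], 2, false),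
    ([14, 0, 2, 3, 6], [], 33, false),
    ([14, 0, 2, 3], [1, 2, 5, 7], 21, false),
    ([14, 0, 2], [6, 1, 2, 5, 7], 6, false),
    ([14, 0], [3, 6, 1, 2, 5, 7], 3, false),
    ([14], [2, 3, 6, 1, 2, 5, 7], 0, false),
    ([14, 2, 3], [2, 5, 7], 22, false),
    ([14, 2], [6, 2, 5, 7], 7, false),
    ([14], [3, 6, 2, 5, 7], 4, false),
    ([14, 1, 2, 3], [5, 7], 23, false),
    ([14, 1, 2], [6, 5, 7], 8, false),
    ([14, 1], [3, 6, 5, 7], 5, false),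
    ([14, 1, 3], [7], 26, false),
    ([14, 1], [5, 6, 7], 6, false),
    ([14], [3, 5, 6, 7], 1, false)]

/-- Part of a closed path for the prime 2. -/
def path2_85_0 : List SchurPath.Step :=
  [([14], [], 62, true),
    ([], [7], 107, false),
    ([1, 7, 8], [], 103, false),
    ([1, 7], [14], 43, false),
    ([1], [4, 7, 8, 14], 28, false),
    ([], [7, 4, 7, 8, 14], 1, false),
    ([0, 1], [7, 8, 14], 32, false),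
    ([0, 1, 4], [8, 14], 35, false),
    ([0, 1, 4], [8, 14], 35, true),
    ([0], [7, 7, 8, 14], 11, true),
    ([0, 4], [7, 8, 14], 29, true),
    ([0], [4, 7, 1, 7, 8, 14], 2, true),
    ([], [1, 4, 7, 1, 7, 8, 14], 1, true),
    ([1, 0, 1, 4, 7], [], 107, true),
    ([1, 0, 1, 4], [10], 103, true),
    ([1, 0, 1], [7, 10], 102, true),
    ([1], [4, 7, 10], 100, true),
    ([], [0, 4, 7, 10], 99, true),
    ([14], [4, 7, 10], 1, false)]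

/-- Part of a closed path for the prime 2. -/
def path2_86_0 : List SchurPath.Step :=
  [([14], [], 60, true),
    ([], [5], 107, false),
    ([1, 7, 8], [], 106, false),
    ([1, 7], [1, 3, 6, 7, 14], 36, false),
    ([1], [8, 1, 3, 6, 7, 14], 28, false),
    ([], [7, 8, 1, 3, 6, 7, 14], 1, false),
    ([0, 1, 7], [3, 6, 7, 14], 37, false),
    ([0, 1], [8, 3, 6, 7, 14], 29, false),
    ([0], [7, 8, 3, 6, 7, 14], 2, false),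
    ([0, 7], [6, 7, 14], 39, false),
    ([0], [8, 6, 7, 14], 31, false),
    ([0, 1, 3, 7], [7, 14], 42, false),
    ([0, 1, 3], [6, 8, 7, 14], 31, false),
    ([0, 1], [3, 7, 6, 8, 7, 14], 7, false),
    ([0], [3, 3, 7, 6, 8, 7, 14], 2, false),
    ([0], [7, 6, 8, 7, 14], 9, false),
    ([0], [8, 7, 14], 34, false),
    ([], [1, 2, 6, 7, 8, 7, 14], 0, false),
    ([1, 2, 6, 7], [14], 43, false),
    ([1, 2, 6], [4, 7, 8, 14], 28, false),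
    ([1, 2], [7, 4, 7, 8, 14], 21, false),
    ([1], [6, 7, 4, 7, 8, 14], 3, false),
    ([], [2, 6, 7, 4, 7, 8, 14], 1, false),
    ([0, 1, 2, 6], [7, 8, 14], 32, false),
    ([0, 1, 2], [7, 7, 8, 14], 25, false),
    ([0, 1], [1, 4, 6, 7, 7, 8, 14], 3, false),
    ([0], [2, 1, 4, 6, 7, 7, 8, 14], 1, false),
    ([], [1, 2, 1, 4, 6, 7, 7, 8, 14], 0, false),
    ([1], [4, 6, 7, 7, 8, 14], 4, false),
    ([], [2, 4, 6, 7, 7, 8, 14], 2, false),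
    ([2, 4, 6], [8, 14], 35, false),
    ([2, 4, 6], [8, 14], 35, true),
    ([], [2, 4, 6, 7, 7, 8, 14], 2, true),
    ([1], [4, 6, 7, 7, 8, 14], 4, true),
    ([1, 2], [6, 7, 7, 8, 14], 11, true),
    ([1, 2, 4], [7, 7, 8, 14], 22, true),
    ([1, 2, 4, 6], [7, 8, 14], 29, true),
    ([1, 2], [4, 6, 7, 1, 7, 8, 14], 9, true),
    ([1, 2, 3], [6, 7, 1, 7, 8, 14], 13, true),
    ([], [3, 4, 3, 6, 7, 1, 7, 8, 14], 4, true),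
    ([2], [4, 3, 6, 7, 1, 7, 8, 14], 7, true),
    ([2, 3], [3, 6, 7, 1, 7, 8, 14], 11, true),
    ([], [2, 3, 4, 1, 3, 6, 7, 1, 7, 8, 14], 0, true),
    ([0], [3, 4, 1, 3, 6, 7, 1, 7, 8, 14], 3, true),
    ([0, 2], [4, 1, 3, 6, 7, 1, 7, 8, 14], 6, true),
    ([0, 2, 3], [1, 3, 6, 7, 1, 7, 8, 14], 10, true),
    ([0, 2], [0, 1, 3, 6, 7, 1, 7, 8, 14], 13, true),
    ([0], [2, 4, 3, 0, 1, 3, 6, 7, 1, 7, 8, 14], 2, true),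
    ([], [1, 2, 4, 3, 0, 1, 3, 6, 7, 1, 7, 8, 14], 1, true),
    ([1, 0, 1, 2, 4, 3, 0, 1, 3, 6, 7], [], 107, true),
    ([1, 0, 1, 2, 4, 3], [10], 106, true),
    ([1, 0, 1, 2, 4], [5, 10], 104, true),
    ([1, 0, 1, 2], [2, 3, 4, 5, 10], 102, true),
    ([1, 0, 1], [4, 2, 3, 4, 5, 10], 101, true),
    ([1], [2, 4, 2, 3, 4, 5, 10], 100, true),
    ([], [0, 2, 4, 2, 3, 4, 5, 10], 99, true),
    ([14], [2, 4, 2, 3, 4, 5, 10], 1, false),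
    ([14, 0, 1, 2], [3, 4, 5, 10], 12, false),
    ([14, 0, 1], [4, 3, 4, 5, 10], 5, false),
    ([14, 0, 1], [4, 5, 10], 13, false)]

/-- Part of a closed path for the prime 2. -/
def path2_86_1 : List SchurPath.Step :=
  [([14, 0, 1, 3], [5, 10], 14, false)]

/-- Part of a closed path for the prime 2. -/
def path2_87_0 : List SchurPath.Step :=
  [([14], [], 65, true),
    ([], [10], 107, false),
    ([1, 7, 8], [], 107, false),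
    ([1, 7], [7, 8, 14], 37, false),
    ([1], [8, 7, 8, 14], 29, false),
    ([], [7, 8, 7, 8, 14], 2, false),
    ([7], [8, 14], 43, false),
    ([], [4, 7, 8, 8, 14], 28, false),
    ([0], [7, 8, 8, 14], 32, false),
    ([0, 4], [8, 8, 14], 35, false),
    ([0, 4], [14], 44, false),
    ([0], [3, 5, 14], 10, false),
    ([], [4, 3, 5, 14], 0, false),
    ([], [5, 14], 13, false),
    ([], [5, 14], 13, true),
    ([4, 3], [], 105, true),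
    ([4], [0, 1, 3, 6, 7], 104, true),
    ([], [2, 3, 4, 0, 1, 3, 6, 7], 102, true),
    ([14], [3, 4, 0, 1, 3, 6, 7], 12, false),
    ([14, 2], [4, 0, 1, 3, 6, 7], 13, false),
    ([14, 2, 3], [0, 1, 3, 6, 7], 14, false),
    ([14, 2], [1, 3, 6, 7], 6, false),
    ([14], [3, 1, 3, 6, 7], 3, false),
    ([14, 0, 2], [3, 6, 7], 7, false),
    ([14, 0], [3, 3, 6, 7], 4, false),
    ([14, 0, 1, 2], [6, 7], 9, false)]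

/-- Part of a closed path for the prime 2. -/
def path2_88_0 : List SchurPath.Step :=
  [([14], [6, 7, 8], 14, true),
    ([14], [4, 4, 6, 7, 8], 2, true),
    ([14, 1], [4, 6, 7, 8], 11, true),
    ([14], [1, 4, 1, 4, 6, 7, 8], 0, true),
    ([14, 0], [4, 1, 4, 6, 7, 8], 1, true),
    ([14, 0, 1], [1, 4, 6, 7, 8], 10, true),
    ([14, 0, 1, 4], [7, 8], 25, true),
    ([14], [4, 6, 4, 7, 8], 1, true),
    ([14, 1], [6, 4, 7, 8], 10, true),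
    ([14, 1, 4], [4, 7, 8], 21, true),
    ([14, 1, 4, 6], [], 43, true),
    ([14, 1], [4, 6, 8, 7], 9, true),
    ([14, 1, 3], [6, 8, 7], 13, true),
    ([14, 1, 3, 4], [7], 42, true),
    ([14, 1], [3, 4, 8, 6, 7], 5, true),
    ([14, 1, 2], [4, 8, 6, 7], 8, true),
    ([14, 1, 2, 3], [8, 6, 7], 12, true),
    ([14], [1, 2, 3, 4, 2, 8, 6, 7], 0, true),
    ([14, 0], [2, 3, 4, 2, 8, 6, 7], 1, true),
    ([14, 0, 1], [3, 4, 2, 8, 6, 7], 3, true),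
    ([14, 0, 1, 2], [4, 2, 8, 6, 7], 6, true),
    ([14, 0, 1, 2, 3], [2, 8, 6, 7], 10, true),
    ([14, 0, 1, 2, 3, 4], [6, 7], 38, true),
    ([14, 0], [3, 4, 8, 2, 6, 7], 4, true),
    ([14, 0, 2], [4, 8, 2, 6, 7], 7, true),
    ([14, 0, 2, 3], [8, 2, 6, 7], 11, true),
    ([14, 0, 2, 3, 4], [2, 6, 7], 37, true),
    ([14], [3, 4, 8, 1, 2, 6, 7], 3, true),
    ([14, 2], [4, 8, 1, 2, 6, 7], 6, true),
    ([14, 2, 3], [8, 1, 2, 6, 7], 10, true),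
    ([14, 2, 3, 4], [1, 2, 6, 7], 36, true),
    ([14, 2, 3, 4, 8], [], 65, true),
    ([], [10], 108, false),
    ([0, 1, 4, 5, 6, 8, 10], [], 107, false),
    ([0, 1, 4, 5, 6, 8], [7, 8, 14], 56, false),
    ([0, 1, 4, 5, 6], [10, 7, 8, 14], 37, false),
    ([0, 1, 4, 5], [8, 10, 7, 8, 14], 22, false),
    ([0, 1, 4], [6, 8, 10, 7, 8, 14], 16, false),
    ([0, 1], [5, 6, 8, 10, 7, 8, 14], 11, false),
    ([0], [4, 5, 6, 8, 10, 7, 8, 14], 2, false),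
    ([0, 4, 5, 6, 8], [8, 14], 62, false),
    ([0, 4, 5, 6], [1, 4, 7, 10, 8, 14], 36, false),
    ([0, 4, 5], [8, 1, 4, 7, 10, 8, 14], 21, false),
    ([0, 4], [6, 8, 1, 4, 7, 10, 8, 14], 15, false),
    ([0], [5, 6, 8, 1, 4, 7, 10, 8, 14], 10, false),
    ([], [4, 5, 6, 8, 1, 4, 7, 10, 8, 14], 0, false),
    ([4, 5, 6], [4, 7, 10, 8, 14], 37, false),
    ([4, 5], [8, 4, 7, 10, 8, 14], 22, false),
    ([4], [6, 8, 4, 7, 10, 8, 14], 16, false),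
    ([], [5, 6, 8, 4, 7, 10, 8, 14], 11, false),
    ([1, 4, 5, 6], [7, 10, 8, 14], 40, false),
    ([1, 4, 5], [2, 4, 8, 7, 10, 8, 14], 21, false),
    ([1, 4], [6, 2, 4, 8, 7, 10, 8, 14], 15, false),
    ([1], [5, 6, 2, 4, 8, 7, 10, 8, 14], 10, false),
    ([], [4, 5, 6, 2, 4, 8, 7, 10, 8, 14], 1, false),
    ([0, 1, 4, 5], [4, 8, 7, 10, 8, 14], 23, false),
    ([0, 1, 4], [6, 4, 8, 7, 10, 8, 14], 17, false),
    ([0, 1], [5, 6, 4, 8, 7, 10, 8, 14], 12, false),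
    ([0, 1, 2, 4, 5], [8, 7, 10, 8, 14], 25, false),
    ([0, 1, 2, 4], [1, 4, 6, 8, 7, 10, 8, 14], 15, false)]

/-- Part of a closed path for the prime 2. -/
def path2_88_1 : List SchurPath.Step :=
  [([0, 1, 2], [5, 1, 4, 6, 8, 7, 10, 8, 14], 10, false),
    ([0, 1], [4, 5, 1, 4, 6, 8, 7, 10, 8, 14], 3, false),
    ([0], [2, 4, 5, 1, 4, 6, 8, 7, 10, 8, 14], 1, false),
    ([], [1, 2, 4, 5, 1, 4, 6, 8, 7, 10, 8, 14], 0, false),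
    ([1, 2, 4], [4, 6, 8, 7, 10, 8, 14], 16, false),
    ([1, 2], [5, 4, 6, 8, 7, 10, 8, 14], 11, false),
    ([1], [4, 5, 4, 6, 8, 7, 10, 8, 14], 4, false),
    ([], [2, 4, 5, 4, 6, 8, 7, 10, 8, 14], 2, false),
    ([2, 4], [6, 8, 7, 10, 8, 14], 19, false),
    ([2], [4, 5, 6, 8, 7, 10, 8, 14], 10, false),
    ([], [4, 4, 5, 6, 8, 7, 10, 8, 14], 3, false),
    ([0, 2], [5, 6, 8, 7, 10, 8, 14], 14, false),
    ([0, 2, 5, 6], [10, 8, 14], 43, false),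
    ([0, 2, 5], [4, 7, 8, 10, 8, 14], 21, false),
    ([0, 2], [6, 4, 7, 8, 10, 8, 14], 15, false),
    ([0], [5, 6, 4, 7, 8, 10, 8, 14], 3, false),
    ([], [2, 5, 6, 4, 7, 8, 10, 8, 14], 0, false),
    ([2, 5], [7, 8, 10, 8, 14], 25, false),
    ([2], [1, 4, 6, 7, 8, 10, 8, 14], 15, false),
    ([], [5, 1, 4, 6, 7, 8, 10, 8, 14], 3, false),
    ([0, 2], [4, 6, 7, 8, 10, 8, 14], 16, false),
    ([0], [5, 4, 6, 7, 8, 10, 8, 14], 4, false),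
    ([0, 1, 2], [6, 7, 8, 10, 8, 14], 19, false),
    ([0, 1], [4, 5, 6, 7, 8, 10, 8, 14], 3, false),
    ([0], [2, 4, 5, 6, 7, 8, 10, 8, 14], 1, false),
    ([], [1, 2, 4, 5, 6, 7, 8, 10, 8, 14], 0, false),
    ([1, 2, 4, 5, 6, 7, 8], [14], 63, false),
    ([1, 2, 4, 5, 6, 7], [5, 6, 8, 10, 14], 39, false),
    ([1, 2, 4, 5, 6], [8, 5, 6, 8, 10, 14], 31, false),
    ([1, 2, 4, 5], [3, 7, 8, 5, 6, 8, 10, 14], 22, false),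
    ([1, 2, 4], [6, 3, 7, 8, 5, 6, 8, 10, 14], 16, false),
    ([1, 2], [5, 6, 3, 7, 8, 5, 6, 8, 10, 14], 11, false),
    ([1], [4, 5, 6, 3, 7, 8, 5, 6, 8, 10, 14], 4, false),
    ([], [2, 4, 5, 6, 3, 7, 8, 5, 6, 8, 10, 14], 2, false),
    ([2, 4, 5], [7, 8, 5, 6, 8, 10, 14], 24, false),
    ([2, 4], [3, 6, 7, 8, 5, 6, 8, 10, 14], 15, false),
    ([2], [5, 3, 6, 7, 8, 5, 6, 8, 10, 14], 10, false),
    ([], [4, 5, 3, 6, 7, 8, 5, 6, 8, 10, 14], 3, false),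
    ([0, 2, 4], [6, 7, 8, 5, 6, 8, 10, 14], 18, false),
    ([0, 2], [5, 6, 7, 8, 5, 6, 8, 10, 14], 13, false),
    ([0, 2, 3, 4, 5, 6, 7], [6, 8, 10, 14], 41, false),
    ([0, 2, 3, 4, 5, 6], [8, 6, 8, 10, 14], 33, false),
    ([0, 2, 3, 4, 5], [1, 2, 5, 7, 8, 6, 8, 10, 14], 21, false),
    ([0, 2, 3, 4], [6, 1, 2, 5, 7, 8, 6, 8, 10, 14], 15, false),
    ([0, 2, 3], [5, 6, 1, 2, 5, 7, 8, 6, 8, 10, 14], 10, false),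
    ([0, 2], [4, 5, 6, 1, 2, 5, 7, 8, 6, 8, 10, 14], 6, false),
    ([0], [3, 4, 5, 6, 1, 2, 5, 7, 8, 6, 8, 10, 14], 3, false),
    ([], [2, 3, 4, 5, 6, 1, 2, 5, 7, 8, 6, 8, 10, 14], 0, false),
    ([2, 3, 4, 5], [2, 5, 7, 8, 6, 8, 10, 14], 22, false),
    ([2, 3, 4], [6, 2, 5, 7, 8, 6, 8, 10, 14], 16, false),
    ([2, 3], [5, 6, 2, 5, 7, 8, 6, 8, 10, 14], 11, false),
    ([2], [4, 5, 6, 2, 5, 7, 8, 6, 8, 10, 14], 7, false),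
    ([], [3, 4, 5, 6, 2, 5, 7, 8, 6, 8, 10, 14], 4, false),
    ([1, 2, 3, 4, 5], [5, 7, 8, 6, 8, 10, 14], 23, false),
    ([1, 2, 3, 4], [6, 5, 7, 8, 6, 8, 10, 14], 17, false),
    ([1, 2, 3], [5, 6, 5, 7, 8, 6, 8, 10, 14], 12, false),
    ([1, 2], [4, 5, 6, 5, 7, 8, 6, 8, 10, 14], 8, false),
    ([1], [3, 4, 5, 6, 5, 7, 8, 6, 8, 10, 14], 5, false),
    ([1, 3, 4, 5], [7, 8, 6, 8, 10, 14], 26, false),
    ([1, 3, 4], [5, 6, 7, 8, 6, 8, 10, 14], 15, false)]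

/-- Part of a closed path for the prime 2. -/
def path2_88_2 : List SchurPath.Step :=
  [([1, 3], [5, 5, 6, 7, 8, 6, 8, 10, 14], 10, false),
    ([1], [4, 5, 5, 6, 7, 8, 6, 8, 10, 14], 6, false),
    ([], [3, 4, 5, 5, 6, 7, 8, 6, 8, 10, 14], 1, false),
    ([0, 1, 3, 4], [6, 7, 8, 6, 8, 10, 14], 20, false),
    ([0, 1, 3, 4, 6, 7], [8, 10, 14], 42, false),
    ([0, 1, 3, 4, 6], [6, 8, 8, 10, 14], 31, false),
    ([0, 1, 3, 4], [3, 7, 6, 8, 8, 10, 14], 22, false),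
    ([0, 1, 3], [6, 3, 7, 6, 8, 8, 10, 14], 11, false),
    ([0, 1], [4, 6, 3, 7, 6, 8, 8, 10, 14], 7, false),
    ([0], [3, 4, 6, 3, 7, 6, 8, 8, 10, 14], 2, false),
    ([0, 3, 4], [7, 6, 8, 8, 10, 14], 24, false),
    ([0, 3], [3, 6, 7, 6, 8, 8, 10, 14], 10, false),
    ([0], [4, 3, 6, 7, 6, 8, 8, 10, 14], 6, false),
    ([], [3, 4, 3, 6, 7, 6, 8, 8, 10, 14], 0, false),
    ([3], [6, 7, 6, 8, 8, 10, 14], 13, false),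
    ([], [4, 6, 7, 6, 8, 8, 10, 14], 9, false),
    ([4, 6], [8, 8, 10, 14], 34, false),
    ([4], [1, 2, 6, 7, 8, 8, 10, 14], 21, false),
    ([], [6, 1, 2, 6, 7, 8, 8, 10, 14], 10, false),
    ([0, 4], [2, 6, 7, 8, 8, 10, 14], 22, false),
    ([0], [6, 2, 6, 7, 8, 8, 10, 14], 11, false),
    ([0, 1, 4], [6, 7, 8, 8, 10, 14], 23, false),
    ([0, 1], [6, 6, 7, 8, 8, 10, 14], 12, false),
    ([0, 1, 2, 4], [7, 8, 8, 10, 14], 27, false),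
    ([0, 1, 2], [7, 8, 8, 10, 14], 12, false),
    ([0, 1], [4, 7, 8, 8, 10, 14], 5, false),
    ([0, 1, 4, 7], [10, 14], 44, false),
    ([0, 1, 4], [3, 5, 10, 14], 28, false),
    ([0, 1], [7, 3, 5, 10, 14], 10, false),
    ([0], [4, 7, 3, 5, 10, 14], 1, false),
    ([], [1, 4, 7, 3, 5, 10, 14], 0, false),
    ([1, 4], [5, 10, 14], 31, false),
    ([1], [3, 7, 5, 10, 14], 11, false),
    ([], [4, 3, 7, 5, 10, 14], 2, false),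
    ([], [7, 5, 10, 14], 13, false),
    ([3, 4], [10, 14], 33, false),
    ([3], [1, 2, 5, 7, 10, 14], 10, false),
    ([], [4, 1, 2, 5, 7, 10, 14], 6, false),
    ([0, 3], [2, 5, 7, 10, 14], 11, false),
    ([0], [4, 2, 5, 7, 10, 14], 7, false),
    ([0, 1, 3], [5, 7, 10, 14], 12, false),
    ([0, 1], [4, 5, 7, 10, 14], 8, false),
    ([0, 1], [4, 5, 7, 10, 14], 8, true),
    ([0, 1, 3], [5, 7, 10, 14], 12, true),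
    ([0], [4, 2, 5, 7, 10, 14], 7, true),
    ([0, 3], [2, 5, 7, 10, 14], 11, true),
    ([], [4, 1, 2, 5, 7, 10, 14], 6, true),
    ([3], [1, 2, 5, 7, 10, 14], 10, true),
    ([3, 4], [10, 14], 33, true),
    ([], [7, 5, 10, 14], 13, true),
    ([], [4, 3, 7, 5, 10, 14], 2, true),
    ([1], [3, 7, 5, 10, 14], 11, true),
    ([1, 4], [5, 10, 14], 31, true),
    ([], [1, 4, 7, 3, 5, 10, 14], 0, true),
    ([0], [4, 7, 3, 5, 10, 14], 1, true),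
    ([0, 1], [7, 3, 5, 10, 14], 10, true),
    ([0, 1, 4], [3, 5, 10, 14], 28, true),
    ([0, 1, 4, 7], [10, 14], 44, true),
    ([0, 1], [4, 7, 8, 8, 10, 14], 5, true),
    ([0, 1, 2], [7, 8, 8, 10, 14], 12, true)]

/-- Part of a closed path for the prime 2. -/
def path2_88_3 : List SchurPath.Step :=
  [([0, 1, 2, 4], [7, 8, 8, 10, 14], 27, true),
    ([0, 1], [6, 6, 7, 8, 8, 10, 14], 12, true),
    ([0, 1, 4], [6, 7, 8, 8, 10, 14], 23, true),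
    ([0], [6, 2, 6, 7, 8, 8, 10, 14], 11, true),
    ([0, 4], [2, 6, 7, 8, 8, 10, 14], 22, true),
    ([], [6, 1, 2, 6, 7, 8, 8, 10, 14], 10, true),
    ([4], [1, 2, 6, 7, 8, 8, 10, 14], 21, true),
    ([4, 6], [8, 8, 10, 14], 34, true),
    ([], [4, 6, 7, 6, 8, 8, 10, 14], 9, true),
    ([3], [6, 7, 6, 8, 8, 10, 14], 13, true),
    ([], [3, 4, 3, 6, 7, 6, 8, 8, 10, 14], 0, true),
    ([0], [4, 3, 6, 7, 6, 8, 8, 10, 14], 6, true),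
    ([0, 3], [3, 6, 7, 6, 8, 8, 10, 14], 10, true),
    ([0, 3, 4], [7, 6, 8, 8, 10, 14], 24, true),
    ([0], [3, 4, 6, 3, 7, 6, 8, 8, 10, 14], 2, true),
    ([0, 1], [4, 6, 3, 7, 6, 8, 8, 10, 14], 7, true),
    ([0, 1, 3], [6, 3, 7, 6, 8, 8, 10, 14], 11, true),
    ([0, 1, 3, 4], [3, 7, 6, 8, 8, 10, 14], 22, true),
    ([0, 1, 3, 4, 6], [6, 8, 8, 10, 14], 31, true),
    ([0, 1, 3, 4, 6, 7], [8, 10, 14], 42, true),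
    ([0, 1, 3, 4], [6, 7, 8, 6, 8, 10, 14], 20, true),
    ([], [3, 4, 5, 5, 6, 7, 8, 6, 8, 10, 14], 1, true),
    ([1], [4, 5, 5, 6, 7, 8, 6, 8, 10, 14], 6, true),
    ([1, 3], [5, 5, 6, 7, 8, 6, 8, 10, 14], 10, true),
    ([1, 3, 4], [5, 6, 7, 8, 6, 8, 10, 14], 15, true),
    ([1, 3, 4, 5], [7, 8, 6, 8, 10, 14], 26, true),
    ([1], [3, 4, 5, 6, 5, 7, 8, 6, 8, 10, 14], 5, true),
    ([1, 2], [4, 5, 6, 5, 7, 8, 6, 8, 10, 14], 8, true),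
    ([1, 2, 3], [5, 6, 5, 7, 8, 6, 8, 10, 14], 12, true),
    ([1, 2, 3, 4], [6, 5, 7, 8, 6, 8, 10, 14], 17, true),
    ([1, 2, 3, 4, 5], [5, 7, 8, 6, 8, 10, 14], 23, true),
    ([], [3, 4, 5, 6, 2, 5, 7, 8, 6, 8, 10, 14], 4, true),
    ([2], [4, 5, 6, 2, 5, 7, 8, 6, 8, 10, 14], 7, true),
    ([2, 3], [5, 6, 2, 5, 7, 8, 6, 8, 10, 14], 11, true),
    ([2, 3, 4], [6, 2, 5, 7, 8, 6, 8, 10, 14], 16, true),
    ([2, 3, 4, 5], [2, 5, 7, 8, 6, 8, 10, 14], 22, true),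
    ([], [2, 3, 4, 5, 6, 1, 2, 5, 7, 8, 6, 8, 10, 14], 0, true),
    ([0], [3, 4, 5, 6, 1, 2, 5, 7, 8, 6, 8, 10, 14], 3, true),
    ([0, 2], [4, 5, 6, 1, 2, 5, 7, 8, 6, 8, 10, 14], 6, true),
    ([0, 2, 3], [5, 6, 1, 2, 5, 7, 8, 6, 8, 10, 14], 10, true),
    ([0, 2, 3, 4], [6, 1, 2, 5, 7, 8, 6, 8, 10, 14], 15, true),
    ([0, 2, 3, 4, 5], [1, 2, 5, 7, 8, 6, 8, 10, 14], 21, true),
    ([0, 2, 3, 4, 5, 6], [8, 6, 8, 10, 14], 33, true),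
    ([0, 2, 3, 4, 5, 6, 7], [6, 8, 10, 14], 41, true),
    ([], [3, 4, 5, 6, 7, 8, 5, 6, 8, 10, 14], 3, true),
    ([2], [4, 5, 6, 7, 8, 5, 6, 8, 10, 14], 6, true),
    ([2, 3], [6, 7, 8, 5, 6, 8, 10, 14], 19, true),
    ([], [2, 3, 5, 4, 6, 7, 8, 5, 6, 8, 10, 14], 2, true),
    ([1], [3, 5, 4, 6, 7, 8, 5, 6, 8, 10, 14], 4, true),
    ([1, 2], [5, 4, 6, 7, 8, 5, 6, 8, 10, 14], 7, true),
    ([1, 2, 3], [4, 6, 7, 8, 5, 6, 8, 10, 14], 16, true),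
    ([], [1, 2, 3, 5, 1, 4, 6, 7, 8, 5, 6, 8, 10, 14], 0, true),
    ([0], [2, 3, 5, 1, 4, 6, 7, 8, 5, 6, 8, 10, 14], 1, true),
    ([0, 1], [3, 5, 1, 4, 6, 7, 8, 5, 6, 8, 10, 14], 3, true),
    ([0, 1, 2], [5, 1, 4, 6, 7, 8, 5, 6, 8, 10, 14], 6, true),
    ([0, 1, 2, 3], [1, 4, 6, 7, 8, 5, 6, 8, 10, 14], 15, true),
    ([0, 1, 2, 3, 5], [7, 8, 5, 6, 8, 10, 14], 25, true),
    ([0, 1, 2, 3, 5, 6], [8, 5, 6, 8, 10, 14], 32, true),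
    ([0, 1], [5, 6, 7, 4, 8, 5, 6, 8, 10, 14], 8, true),
    ([0, 1, 3], [6, 7, 4, 8, 5, 6, 8, 10, 14], 17, true)]

/-- Part of a closed path for the prime 2. -/
def path2_88_4 : List SchurPath.Step :=
  [([0, 1, 3, 5], [7, 4, 8, 5, 6, 8, 10, 14], 23, true),
    ([0, 1, 3, 5, 6], [4, 8, 5, 6, 8, 10, 14], 30, true),
    ([], [3, 5, 6, 7, 2, 4, 8, 5, 6, 8, 10, 14], 1, true),
    ([1], [5, 6, 7, 2, 4, 8, 5, 6, 8, 10, 14], 6, true),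
    ([1, 3], [6, 7, 2, 4, 8, 5, 6, 8, 10, 14], 15, true),
    ([1, 3, 5], [7, 2, 4, 8, 5, 6, 8, 10, 14], 21, true),
    ([1, 3, 5, 6], [2, 4, 8, 5, 6, 8, 10, 14], 28, true),
    ([1, 3, 5, 6, 7], [5, 6, 8, 10, 14], 40, true),
    ([], [5, 6, 7, 8, 4, 5, 6, 8, 10, 14], 7, true),
    ([3], [6, 7, 8, 4, 5, 6, 8, 10, 14], 16, true),
    ([3, 5], [7, 8, 4, 5, 6, 8, 10, 14], 22, true),
    ([3, 5, 6], [8, 4, 5, 6, 8, 10, 14], 29, true),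
    ([3, 5, 6, 7], [4, 5, 6, 8, 10, 14], 37, true),
    ([], [3, 5, 6, 7, 8, 1, 4, 5, 6, 8, 10, 14], 0, true),
    ([0], [5, 6, 7, 8, 1, 4, 5, 6, 8, 10, 14], 6, true),
    ([0, 3], [6, 7, 8, 1, 4, 5, 6, 8, 10, 14], 15, true),
    ([0, 3, 5], [7, 8, 1, 4, 5, 6, 8, 10, 14], 21, true),
    ([0, 3, 5, 6], [8, 1, 4, 5, 6, 8, 10, 14], 28, true),
    ([0, 3, 5, 6, 7], [1, 4, 5, 6, 8, 10, 14], 36, true),
    ([0], [3, 5, 6, 7, 8, 0, 1, 4, 5, 6, 8, 10, 14], 2, true),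
    ([0, 1], [5, 6, 7, 8, 0, 1, 4, 5, 6, 8, 10, 14], 7, true),
    ([0, 1, 3], [6, 7, 8, 0, 1, 4, 5, 6, 8, 10, 14], 16, true),
    ([0, 1, 3, 5], [7, 8, 0, 1, 4, 5, 6, 8, 10, 14], 22, true),
    ([0, 1, 3, 5, 6], [1, 7, 8, 0, 1, 4, 5, 6, 8, 10, 14], 35, true),
    ([0, 1], [3, 5, 6, 7, 7, 1, 7, 8, 0, 1, 4, 5, 6, 8, 10, 14], 5, true),
    ([0, 1, 2], [5, 6, 7, 7, 1, 7, 8, 0, 1, 4, 5, 6, 8, 10, 14], 8, true),
    ([0, 1, 2, 3], [6, 7, 7, 1, 7, 8, 0, 1, 4, 5, 6, 8, 10, 14], 17, true),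
    ([0], [3, 5, 2, 6, 7, 7, 1, 7, 8, 0, 1, 4, 5, 6, 8, 10, 14], 4, true),
    ([0, 2], [5, 2, 6, 7, 7, 1, 7, 8, 0, 1, 4, 5, 6, 8, 10, 14], 7, true),
    ([0, 2, 3], [2, 6, 7, 7, 1, 7, 8, 0, 1, 4, 5, 6, 8, 10, 14], 16, true),
    ([], [3, 5, 1, 2, 6, 7, 7, 1, 7, 8, 0, 1, 4, 5, 6, 8, 10, 14], 3, true),
    ([2], [5, 1, 2, 6, 7, 7, 1, 7, 8, 0, 1, 4, 5, 6, 8, 10, 14], 6, true),
    ([2, 3], [1, 2, 6, 7, 7, 1, 7, 8, 0, 1, 4, 5, 6, 8, 10, 14], 15, true),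
    ([2, 3, 5], [7, 1, 7, 8, 0, 1, 4, 5, 6, 8, 10, 14], 34, true),
    ([2], [7, 6, 7, 1, 7, 8, 0, 1, 4, 5, 6, 8, 10, 14], 18, true),
    ([], [2, 5, 3, 7, 6, 7, 1, 7, 8, 0, 1, 4, 5, 6, 8, 10, 14], 2, true),
    ([1], [5, 3, 7, 6, 7, 1, 7, 8, 0, 1, 4, 5, 6, 8, 10, 14], 4, true),
    ([1, 2], [3, 7, 6, 7, 1, 7, 8, 0, 1, 4, 5, 6, 8, 10, 14], 16, true),
    ([1, 2, 5], [6, 7, 1, 7, 8, 0, 1, 4, 5, 6, 8, 10, 14], 31, true),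
    ([], [5, 7, 3, 6, 7, 1, 7, 8, 0, 1, 4, 5, 6, 8, 10, 14], 4, true),
    ([2], [7, 3, 6, 7, 1, 7, 8, 0, 1, 4, 5, 6, 8, 10, 14], 16, true),
    ([2, 5], [3, 6, 7, 1, 7, 8, 0, 1, 4, 5, 6, 8, 10, 14], 29, true),
    ([], [2, 5, 7, 1, 3, 6, 7, 1, 7, 8, 0, 1, 4, 5, 6, 8, 10, 14], 0, true),
    ([0], [5, 7, 1, 3, 6, 7, 1, 7, 8, 0, 1, 4, 5, 6, 8, 10, 14], 3, true),
    ([0, 2], [7, 1, 3, 6, 7, 1, 7, 8, 0, 1, 4, 5, 6, 8, 10, 14], 15, true),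
    ([0, 2, 5], [1, 3, 6, 7, 1, 7, 8, 0, 1, 4, 5, 6, 8, 10, 14], 28, true),
    ([0], [2, 5, 7, 0, 1, 3, 6, 7, 1, 7, 8, 0, 1, 4, 5, 6, 8, 10, 14], 2, true),
    ([], [1, 2, 5, 7, 0, 1, 3, 6, 7, 1, 7, 8, 0, 1, 4, 5, 6, 8, 10, 14], 1, true),
    ([1], [0, 1, 3, 6, 7, 1, 7, 8, 0, 1, 4, 5, 6, 8, 10, 14], 33, true),
    ([1, 7, 5, 0, 1, 3, 6, 7, 1, 7, 8], [], 108, true),
    ([1, 7, 5, 0, 1, 3, 6, 7], [2, 3, 4, 8, 10], 107, true),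
    ([1, 7, 5], [10, 2, 3, 4, 8, 10], 106, true),
    ([1, 7], [5, 10, 2, 3, 4, 8, 10], 105, true),
    ([1], [0, 1, 3, 6, 7, 5, 10, 2, 3, 4, 8, 10], 103, true),
    ([], [7, 0, 1, 3, 6, 7, 5, 10, 2, 3, 4, 8, 10], 99, true),
    ([14, 1], [1, 3, 6, 7, 5, 10, 2, 3, 4, 8, 10], 28, false),
    ([14], [7, 1, 3, 6, 7, 5, 10, 2, 3, 4, 8, 10], 1, false),
    ([14, 0, 1], [3, 6, 7, 5, 10, 2, 3, 4, 8, 10], 29, false),
    ([14, 0], [7, 3, 6, 7, 5, 10, 2, 3, 4, 8, 10], 2, false),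
    ([14, 0], [6, 7, 5, 10, 2, 3, 4, 8, 10], 31, false)]

/-- Part of a closed path for the prime 2. -/
def path2_88_5 : List SchurPath.Step :=
  [([14, 0, 1, 3], [7, 5, 10, 2, 3, 4, 8, 10], 34, false),
    ([14, 0, 1], [1, 2, 6, 7, 7, 5, 10, 2, 3, 4, 8, 10], 6, false),
    ([14, 0], [3, 1, 2, 6, 7, 7, 5, 10, 2, 3, 4, 8, 10], 1, false),
    ([14], [1, 3, 1, 2, 6, 7, 7, 5, 10, 2, 3, 4, 8, 10], 0, false),
    ([14, 1], [2, 6, 7, 7, 5, 10, 2, 3, 4, 8, 10], 7, false),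
    ([14], [3, 2, 6, 7, 7, 5, 10, 2, 3, 4, 8, 10], 2, false),
    ([14], [6, 7, 7, 5, 10, 2, 3, 4, 8, 10], 8, false),
    ([14, 2, 3, 6], [5, 10, 2, 3, 4, 8, 10], 35, false),
    ([14, 2, 3], [10, 2, 3, 4, 8, 10], 26, false),
    ([14, 2], [5, 6, 10, 2, 3, 4, 8, 10], 6, false),
    ([14], [3, 5, 6, 10, 2, 3, 4, 8, 10], 3, false),
    ([14, 0, 2, 3, 5, 6], [3, 4, 8, 10], 57, false),
    ([14, 0, 2, 3, 5], [1, 2, 10, 3, 4, 8, 10], 21, false),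
    ([14, 0, 2, 3], [6, 1, 2, 10, 3, 4, 8, 10], 15, false),
    ([14, 0, 2], [5, 6, 1, 2, 10, 3, 4, 8, 10], 6, false),
    ([14, 0], [3, 5, 6, 1, 2, 10, 3, 4, 8, 10], 3, false),
    ([14], [2, 3, 5, 6, 1, 2, 10, 3, 4, 8, 10], 0, false),
    ([14, 2, 3, 5], [2, 10, 3, 4, 8, 10], 22, false),
    ([14, 2, 3], [6, 2, 10, 3, 4, 8, 10], 16, false),
    ([14, 2], [5, 6, 2, 10, 3, 4, 8, 10], 7, false),
    ([14], [3, 5, 6, 2, 10, 3, 4, 8, 10], 4, false),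
    ([14, 1, 2, 3, 5], [10, 3, 4, 8, 10], 23, false),
    ([14, 1, 2, 3], [6, 10, 3, 4, 8, 10], 17, false),
    ([14, 1, 2], [5, 6, 10, 3, 4, 8, 10], 8, false),
    ([14, 1], [3, 5, 6, 10, 3, 4, 8, 10], 5, false),
    ([14, 1, 3, 5, 6], [4, 8, 10], 58, false),
    ([14, 1, 3, 5], [2, 3, 10, 4, 8, 10], 22, false),
    ([14, 1, 3], [6, 2, 3, 10, 4, 8, 10], 16, false),
    ([14, 1], [5, 6, 2, 3, 10, 4, 8, 10], 7, false),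
    ([14], [3, 5, 6, 2, 3, 10, 4, 8, 10], 2, false),
    ([14, 3, 5], [3, 10, 4, 8, 10], 23, false),
    ([14, 3], [6, 3, 10, 4, 8, 10], 17, false),
    ([14], [5, 6, 3, 10, 4, 8, 10], 8, false),
    ([14, 2, 3, 5], [10, 4, 8, 10], 24, false),
    ([14, 2, 3], [3, 6, 10, 4, 8, 10], 15, false),
    ([14, 2], [5, 3, 6, 10, 4, 8, 10], 6, false),
    ([14], [3, 5, 3, 6, 10, 4, 8, 10], 3, false),
    ([14, 0, 2, 3], [6, 10, 4, 8, 10], 18, false),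
    ([14, 0, 2], [5, 6, 10, 4, 8, 10], 9, false),
    ([14, 0, 2, 5, 6], [8, 10], 59, false),
    ([14, 0, 2, 5], [1, 2, 4, 10, 8, 10], 21, false),
    ([14, 0, 2], [6, 1, 2, 4, 10, 8, 10], 15, false),
    ([14, 0], [5, 6, 1, 2, 4, 10, 8, 10], 3, false),
    ([14], [2, 5, 6, 1, 2, 4, 10, 8, 10], 0, false),
    ([14, 2, 5], [2, 4, 10, 8, 10], 22, false),
    ([14, 2], [6, 2, 4, 10, 8, 10], 16, false),
    ([14], [5, 6, 2, 4, 10, 8, 10], 4, false),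
    ([14, 1, 2, 5], [4, 10, 8, 10], 23, false),
    ([14, 1, 2], [6, 4, 10, 8, 10], 17, false),
    ([14, 1], [5, 6, 4, 10, 8, 10], 5, false),
    ([14, 1, 5], [10, 8, 10], 25, false),
    ([14, 1], [1, 4, 6, 10, 8, 10], 15, false),
    ([14], [5, 1, 4, 6, 10, 8, 10], 1, false),
    ([14, 0, 1], [4, 6, 10, 8, 10], 16, false),
    ([14, 0], [5, 4, 6, 10, 8, 10], 2, false),
    ([14, 0], [6, 10, 8, 10], 19, false),
    ([14], [4, 5, 6, 10, 8, 10], 0, false),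
    ([14, 4, 5, 6], [10], 63, false),
    ([14, 4, 5], [5, 6, 8, 10, 10], 24, false),
    ([14, 4], [3, 6, 5, 6, 8, 10, 10], 15, false)]

/-- Part of a closed path for the prime 2. -/
def path2_88_6 : List SchurPath.Step :=
  [([14], [5, 3, 6, 5, 6, 8, 10, 10], 10, false),
    ([14, 0, 4], [6, 5, 6, 8, 10, 10], 18, false),
    ([14, 0], [5, 6, 5, 6, 8, 10, 10], 13, false),
    ([14, 0, 3, 4, 5], [6, 8, 10, 10], 26, false),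
    ([14, 0, 3, 4], [5, 6, 6, 8, 10, 10], 15, false),
    ([14, 0, 3], [5, 5, 6, 6, 8, 10, 10], 10, false),
    ([14, 0], [4, 5, 5, 6, 6, 8, 10, 10], 6, false),
    ([14], [3, 4, 5, 5, 6, 6, 8, 10, 10], 0, false),
    ([14, 3, 4], [6, 6, 8, 10, 10], 20, false),
    ([14, 3, 4], [8, 10, 10], 27, false),
    ([14, 3], [8, 10, 10], 12, false),
    ([14], [4, 8, 10, 10], 8, false),
    ([14, 2, 3, 4, 8], [], 65, false),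
    ([14, 2, 3, 4], [1, 2, 6, 7], 36, false),
    ([14, 2, 3], [8, 1, 2, 6, 7], 10, false),
    ([14, 2], [4, 8, 1, 2, 6, 7], 6, false),
    ([14], [3, 4, 8, 1, 2, 6, 7], 3, false),
    ([14, 0, 2, 3, 4], [2, 6, 7], 37, false),
    ([14, 0, 2, 3], [8, 2, 6, 7], 11, false),
    ([14, 0, 2], [4, 8, 2, 6, 7], 7, false),
    ([14, 0], [3, 4, 8, 2, 6, 7], 4, false),
    ([14, 0, 1, 2, 3, 4], [6, 7], 38, false),
    ([14, 0, 1, 2, 3], [2, 8, 6, 7], 10, false),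
    ([14, 0, 1, 2], [4, 2, 8, 6, 7], 6, false),
    ([14, 0, 1], [3, 4, 2, 8, 6, 7], 3, false),
    ([14, 0], [2, 3, 4, 2, 8, 6, 7], 1, false),
    ([14], [1, 2, 3, 4, 2, 8, 6, 7], 0, false),
    ([14, 1, 2, 3], [8, 6, 7], 12, false),
    ([14, 1, 2], [4, 8, 6, 7], 8, false),
    ([14, 1], [3, 4, 8, 6, 7], 5, false),
    ([14, 1, 3, 4], [7], 42, false),
    ([14, 1, 3], [6, 8, 7], 13, false),
    ([14, 1], [4, 6, 8, 7], 9, false),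
    ([14, 1, 4, 6], [], 43, false),
    ([14, 1, 4], [4, 7, 8], 21, false),
    ([14, 1], [6, 4, 7, 8], 10, false),
    ([14], [4, 6, 4, 7, 8], 1, false),
    ([14, 0, 1, 4], [7, 8], 25, false),
    ([14, 0, 1], [1, 4, 6, 7, 8], 10, false),
    ([14, 0], [4, 1, 4, 6, 7, 8], 1, false),
    ([14], [1, 4, 1, 4, 6, 7, 8], 0, false),
    ([14, 1], [4, 6, 7, 8], 11, false),
    ([14], [4, 4, 6, 7, 8], 2, false),
    ([14], [6, 7, 8], 14, false)]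

/-- Part of a closed path for the prime 2. -/
def path2_89_0 : List SchurPath.Step :=
  [([14], [7], 8, true),
    ([14, 3], [7], 27, true),
    ([14], [3, 6, 6, 7], 5, true),
    ([14, 2], [6, 6, 7], 8, true),
    ([14, 2, 3], [6, 7], 23, true),
    ([14], [2, 3, 6, 2, 6, 7], 2, true),
    ([14, 1], [3, 6, 2, 6, 7], 4, true),
    ([14, 1, 2], [6, 2, 6, 7], 7, true),
    ([14, 1, 2, 3], [2, 6, 7], 22, true),
    ([14], [1, 2, 3, 6, 1, 2, 6, 7], 0, true),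
    ([14, 0], [2, 3, 6, 1, 2, 6, 7], 1, true),
    ([14, 0, 1], [3, 6, 1, 2, 6, 7], 3, true),
    ([14, 0, 1, 2], [6, 1, 2, 6, 7], 6, true),
    ([14, 0, 1, 2, 3], [1, 2, 6, 7], 21, true),
    ([14, 0, 1, 2, 3, 6], [], 65, true),
    ([14, 0, 1, 2, 3], [6, 10, 10], 20, true),
    ([14], [2, 3, 5, 5, 6, 10, 10], 1, true),
    ([14, 1], [3, 5, 5, 6, 10, 10], 3, true),
    ([14, 1, 2], [5, 5, 6, 10, 10], 6, true),
    ([14, 1, 2, 3], [5, 6, 10, 10], 15, true),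
    ([14, 1, 2, 3, 5], [10, 10], 26, true),
    ([14, 1, 2], [6, 5, 10, 10], 18, true),
    ([14], [1, 2, 5, 3, 6, 5, 10, 10], 0, true),
    ([14, 0], [2, 5, 3, 6, 5, 10, 10], 1, true),
    ([14, 0, 1], [5, 3, 6, 5, 10, 10], 3, true),
    ([14, 0, 1, 2], [3, 6, 5, 10, 10], 15, true),
    ([14, 0, 1, 2, 5], [5, 10, 10], 24, true),
    ([14], [2, 5, 6, 3, 5, 10, 10], 1, true),
    ([14, 1], [5, 6, 3, 5, 10, 10], 3, true),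
    ([14, 1, 2], [6, 3, 5, 10, 10], 15, true),
    ([14, 1, 2, 5], [3, 5, 10, 10], 21, true),
    ([14, 1, 2, 5, 6], [10, 10], 44, true),
    ([14, 1, 2], [5, 6, 8, 8, 10, 10], 9, true),
    ([14, 1, 2, 3], [6, 8, 8, 10, 10], 18, true),
    ([14, 1, 2, 3, 5], [8, 10, 10], 42, true),
    ([14, 1, 2, 3], [6, 8, 10, 10], 41, true),
    ([14, 1, 2], [5, 6, 8, 10, 10], 39, true),
    ([14, 1, 2, 8], [10], 63, true),
    ([14, 1, 2], [8, 10, 8, 10], 14, true),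
    ([14, 1], [4, 8, 10, 8, 10], 12, true),
    ([14], [1, 4, 2, 4, 8, 10, 8, 10], 0, true),
    ([14, 0], [4, 2, 4, 8, 10, 8, 10], 1, true),
    ([14, 0, 1], [2, 4, 8, 10, 8, 10], 10, true),
    ([14, 0, 1, 4], [10, 8, 10], 40, true),
    ([14, 0, 1], [4, 8, 4, 10, 8, 10], 5, true),
    ([14, 0, 1, 2], [8, 4, 10, 8, 10], 12, true),
    ([14], [2, 4, 2, 8, 4, 10, 8, 10], 1, true),
    ([14, 1], [4, 2, 8, 4, 10, 8, 10], 3, true),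
    ([14, 1, 2], [2, 8, 4, 10, 8, 10], 10, true),
    ([14, 1, 2, 4], [4, 10, 8, 10], 38, true),
    ([14], [4, 8, 2, 4, 10, 8, 10], 4, true),
    ([14, 2], [8, 2, 4, 10, 8, 10], 11, true),
    ([14, 2, 4], [2, 4, 10, 8, 10], 37, true),
    ([14], [2, 4, 8, 1, 2, 4, 10, 8, 10], 0, true),
    ([14, 0], [4, 8, 1, 2, 4, 10, 8, 10], 3, true),
    ([14, 0, 2], [8, 1, 2, 4, 10, 8, 10], 10, true),
    ([14, 0, 2, 4], [1, 2, 4, 10, 8, 10], 36, true),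
    ([14, 0, 2, 4, 8], [8, 10], 59, true),
    ([14, 0, 2], [4, 8, 10, 4, 8, 10], 9, true),
    ([14, 0, 2, 3], [8, 10, 4, 8, 10], 13, true)]

/-- Part of a closed path for the prime 2. -/
def path2_89_1 : List SchurPath.Step :=
  [([14, 0, 2, 3, 4], [10, 4, 8, 10], 39, true),
    ([14, 0], [4, 8, 3, 10, 4, 8, 10], 8, true),
    ([14, 0, 3], [8, 3, 10, 4, 8, 10], 12, true),
    ([14], [4, 2, 8, 3, 10, 4, 8, 10], 6, true),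
    ([14, 3], [2, 8, 3, 10, 4, 8, 10], 10, true),
    ([14, 3, 4], [3, 10, 4, 8, 10], 38, true),
    ([14], [3, 4, 8, 2, 3, 10, 4, 8, 10], 2, true),
    ([14, 1], [4, 8, 2, 3, 10, 4, 8, 10], 7, true),
    ([14, 1, 3], [8, 2, 3, 10, 4, 8, 10], 11, true),
    ([14, 1, 3, 4], [2, 3, 10, 4, 8, 10], 37, true),
    ([14, 1, 3, 4, 8], [4, 8, 10], 58, true),
    ([14, 1], [3, 4, 8, 10, 3, 4, 8, 10], 5, true),
    ([14, 1, 2], [4, 8, 10, 3, 4, 8, 10], 8, true),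
    ([14, 1, 2, 3], [8, 10, 3, 4, 8, 10], 12, true),
    ([14], [1, 2, 3, 4, 2, 8, 10, 3, 4, 8, 10], 0, true),
    ([14, 0], [2, 3, 4, 2, 8, 10, 3, 4, 8, 10], 1, true),
    ([14, 0, 1], [3, 4, 2, 8, 10, 3, 4, 8, 10], 3, true),
    ([14, 0, 1, 2], [4, 2, 8, 10, 3, 4, 8, 10], 6, true),
    ([14, 0, 1, 2, 3], [2, 8, 10, 3, 4, 8, 10], 10, true),
    ([14, 0, 1, 2, 3, 4], [10, 3, 4, 8, 10], 38, true),
    ([14, 0], [3, 4, 8, 2, 10, 3, 4, 8, 10], 4, true),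
    ([14, 0, 2], [4, 8, 2, 10, 3, 4, 8, 10], 7, true),
    ([14, 0, 2, 3], [8, 2, 10, 3, 4, 8, 10], 11, true),
    ([14, 0, 2, 3, 4], [2, 10, 3, 4, 8, 10], 37, true),
    ([14], [3, 4, 8, 1, 2, 10, 3, 4, 8, 10], 3, true),
    ([14, 2], [4, 8, 1, 2, 10, 3, 4, 8, 10], 6, true),
    ([14, 2, 3], [8, 1, 2, 10, 3, 4, 8, 10], 10, true),
    ([14, 2, 3, 4], [1, 2, 10, 3, 4, 8, 10], 36, true),
    ([14, 2, 3, 4, 8], [3, 4, 8, 10], 57, true),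
    ([], [2, 3, 4, 8, 10], 108, false),
    ([0, 1, 4, 5, 6, 8, 10], [], 108, false),
    ([0, 1, 4, 5, 6, 8], [1, 4, 5, 6, 8, 10, 14], 55, false),
    ([0, 1, 4, 5, 6], [10, 1, 4, 5, 6, 8, 10, 14], 36, false),
    ([0, 1, 4, 5], [8, 10, 1, 4, 5, 6, 8, 10, 14], 21, false),
    ([0, 1, 4], [6, 8, 10, 1, 4, 5, 6, 8, 10, 14], 15, false),
    ([0, 1], [5, 6, 8, 10, 1, 4, 5, 6, 8, 10, 14], 10, false),
    ([0], [4, 5, 6, 8, 10, 1, 4, 5, 6, 8, 10, 14], 1, false),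
    ([], [1, 4, 5, 6, 8, 10, 1, 4, 5, 6, 8, 10, 14], 0, false),
    ([1, 4, 5, 6, 8], [4, 5, 6, 8, 10, 14], 56, false),
    ([1, 4, 5, 6], [10, 4, 5, 6, 8, 10, 14], 37, false),
    ([1, 4, 5], [8, 10, 4, 5, 6, 8, 10, 14], 22, false),
    ([1, 4], [6, 8, 10, 4, 5, 6, 8, 10, 14], 16, false),
    ([1], [5, 6, 8, 10, 4, 5, 6, 8, 10, 14], 11, false),
    ([], [4, 5, 6, 8, 10, 4, 5, 6, 8, 10, 14], 2, false),
    ([4, 5, 6, 8], [5, 6, 8, 10, 14], 59, false),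
    ([4, 5, 6], [1, 2, 4, 10, 5, 6, 8, 10, 14], 36, false),
    ([4, 5], [8, 1, 2, 4, 10, 5, 6, 8, 10, 14], 21, false),
    ([4], [6, 8, 1, 2, 4, 10, 5, 6, 8, 10, 14], 15, false),
    ([], [5, 6, 8, 1, 2, 4, 10, 5, 6, 8, 10, 14], 10, false),
    ([0, 4, 5, 6], [2, 4, 10, 5, 6, 8, 10, 14], 37, false),
    ([0, 4, 5], [8, 2, 4, 10, 5, 6, 8, 10, 14], 22, false),
    ([0, 4], [6, 8, 2, 4, 10, 5, 6, 8, 10, 14], 16, false),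
    ([0], [5, 6, 8, 2, 4, 10, 5, 6, 8, 10, 14], 11, false),
    ([0, 1, 4, 5, 6], [4, 10, 5, 6, 8, 10, 14], 38, false),
    ([0, 1, 4, 5], [2, 8, 4, 10, 5, 6, 8, 10, 14], 21, false),
    ([0, 1, 4], [6, 2, 8, 4, 10, 5, 6, 8, 10, 14], 15, false),
    ([0, 1], [5, 6, 2, 8, 4, 10, 5, 6, 8, 10, 14], 10, false),
    ([0], [4, 5, 6, 2, 8, 4, 10, 5, 6, 8, 10, 14], 1, false),
    ([], [1, 4, 5, 6, 2, 8, 4, 10, 5, 6, 8, 10, 14], 0, false),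
    ([1, 4, 5], [8, 4, 10, 5, 6, 8, 10, 14], 23, false)]

/-- Part of a closed path for the prime 2. -/
def path2_89_2 : List SchurPath.Step :=
  [([1, 4], [6, 8, 4, 10, 5, 6, 8, 10, 14], 17, false),
    ([1], [5, 6, 8, 4, 10, 5, 6, 8, 10, 14], 12, false),
    ([1, 2, 4, 5, 6], [10, 5, 6, 8, 10, 14], 40, false),
    ([1, 2, 4, 5], [2, 4, 8, 10, 5, 6, 8, 10, 14], 21, false),
    ([1, 2, 4], [6, 2, 4, 8, 10, 5, 6, 8, 10, 14], 15, false),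
    ([1, 2], [5, 6, 2, 4, 8, 10, 5, 6, 8, 10, 14], 10, false),
    ([1], [4, 5, 6, 2, 4, 8, 10, 5, 6, 8, 10, 14], 3, false),
    ([], [2, 4, 5, 6, 2, 4, 8, 10, 5, 6, 8, 10, 14], 1, false),
    ([0, 1, 2, 4, 5], [4, 8, 10, 5, 6, 8, 10, 14], 23, false),
    ([0, 1, 2, 4], [6, 4, 8, 10, 5, 6, 8, 10, 14], 17, false),
    ([0, 1, 2], [5, 6, 4, 8, 10, 5, 6, 8, 10, 14], 12, false),
    ([0, 1], [4, 5, 6, 4, 8, 10, 5, 6, 8, 10, 14], 5, false),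
    ([0, 1, 4, 5], [8, 10, 5, 6, 8, 10, 14], 25, false),
    ([0, 1, 4], [1, 4, 6, 8, 10, 5, 6, 8, 10, 14], 15, false),
    ([0, 1], [5, 1, 4, 6, 8, 10, 5, 6, 8, 10, 14], 10, false),
    ([0], [4, 5, 1, 4, 6, 8, 10, 5, 6, 8, 10, 14], 1, false),
    ([], [1, 4, 5, 1, 4, 6, 8, 10, 5, 6, 8, 10, 14], 0, false),
    ([1, 4], [4, 6, 8, 10, 5, 6, 8, 10, 14], 16, false),
    ([1], [5, 4, 6, 8, 10, 5, 6, 8, 10, 14], 11, false),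
    ([], [4, 5, 4, 6, 8, 10, 5, 6, 8, 10, 14], 2, false),
    ([4], [6, 8, 10, 5, 6, 8, 10, 14], 19, false),
    ([], [4, 5, 6, 8, 10, 5, 6, 8, 10, 14], 10, false),
    ([0], [5, 6, 8, 10, 5, 6, 8, 10, 14], 14, false),
    ([0, 5, 6, 8], [6, 8, 10, 14], 60, false),
    ([0, 5, 6], [1, 3, 5, 10, 6, 8, 10, 14], 36, false),
    ([0, 5], [8, 1, 3, 5, 10, 6, 8, 10, 14], 21, false),
    ([0], [6, 8, 1, 3, 5, 10, 6, 8, 10, 14], 15, false),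
    ([], [5, 6, 8, 1, 3, 5, 10, 6, 8, 10, 14], 0, false),
    ([5, 6], [3, 5, 10, 6, 8, 10, 14], 37, false),
    ([5], [8, 3, 5, 10, 6, 8, 10, 14], 22, false),
    ([], [6, 8, 3, 5, 10, 6, 8, 10, 14], 16, false),
    ([1, 5, 6], [5, 10, 6, 8, 10, 14], 39, false),
    ([1, 5], [8, 5, 10, 6, 8, 10, 14], 24, false),
    ([1], [3, 6, 8, 5, 10, 6, 8, 10, 14], 15, false),
    ([], [5, 3, 6, 8, 5, 10, 6, 8, 10, 14], 1, false),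
    ([0, 1], [6, 8, 5, 10, 6, 8, 10, 14], 18, false),
    ([0, 1, 3, 5, 6], [10, 6, 8, 10, 14], 41, false),
    ([0, 1, 3, 5], [8, 10, 6, 8, 10, 14], 26, false),
    ([0, 1, 3], [5, 6, 8, 10, 6, 8, 10, 14], 15, false),
    ([0, 1], [5, 5, 6, 8, 10, 6, 8, 10, 14], 6, false),
    ([0], [3, 5, 5, 6, 8, 10, 6, 8, 10, 14], 1, false),
    ([], [1, 3, 5, 5, 6, 8, 10, 6, 8, 10, 14], 0, false),
    ([1, 3], [6, 8, 10, 6, 8, 10, 14], 20, false),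
    ([1, 3, 6, 8], [8, 10, 14], 61, false),
    ([1, 3, 6], [1, 4, 6, 10, 8, 10, 14], 36, false),
    ([1, 3], [8, 1, 4, 6, 10, 8, 10, 14], 21, false),
    ([1], [6, 8, 1, 4, 6, 10, 8, 10, 14], 6, false),
    ([], [3, 6, 8, 1, 4, 6, 10, 8, 10, 14], 1, false),
    ([0, 1, 3, 6], [4, 6, 10, 8, 10, 14], 37, false),
    ([0, 1, 3], [8, 4, 6, 10, 8, 10, 14], 22, false),
    ([0, 1], [6, 8, 4, 6, 10, 8, 10, 14], 7, false),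
    ([0], [3, 6, 8, 4, 6, 10, 8, 10, 14], 2, false),
    ([0, 3, 6], [6, 10, 8, 10, 14], 40, false),
    ([0, 3], [2, 4, 8, 6, 10, 8, 10, 14], 21, false),
    ([0], [6, 2, 4, 8, 6, 10, 8, 10, 14], 6, false),
    ([], [3, 6, 2, 4, 8, 6, 10, 8, 10, 14], 0, false),
    ([3], [4, 8, 6, 10, 8, 10, 14], 23, false),
    ([], [6, 4, 8, 6, 10, 8, 10, 14], 8, false),
    ([2, 3], [8, 6, 10, 8, 10, 14], 25, false),
    ([2], [1, 4, 6, 8, 6, 10, 8, 10, 14], 6, false)]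

/-- Part of a closed path for the prime 2. -/
def path2_89_3 : List SchurPath.Step :=
  [([], [3, 1, 4, 6, 8, 6, 10, 8, 10, 14], 3, false),
    ([0, 2], [4, 6, 8, 6, 10, 8, 10, 14], 7, false),
    ([0], [3, 4, 6, 8, 6, 10, 8, 10, 14], 4, false),
    ([0, 1, 2, 3, 4, 6], [10, 8, 10, 14], 42, false),
    ([0, 1, 2, 3, 4], [6, 8, 10, 8, 10, 14], 24, false),
    ([0, 1, 2, 3], [3, 6, 6, 8, 10, 8, 10, 14], 10, false),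
    ([0, 1, 2], [4, 3, 6, 6, 8, 10, 8, 10, 14], 6, false),
    ([0, 1], [3, 4, 3, 6, 6, 8, 10, 8, 10, 14], 3, false),
    ([0], [2, 3, 4, 3, 6, 6, 8, 10, 8, 10, 14], 1, false),
    ([], [1, 2, 3, 4, 3, 6, 6, 8, 10, 8, 10, 14], 0, false),
    ([1, 2, 3], [6, 6, 8, 10, 8, 10, 14], 13, false),
    ([1, 2], [4, 6, 6, 8, 10, 8, 10, 14], 9, false),
    ([1, 2, 4], [8, 10, 8, 10, 14], 27, false),
    ([1, 2], [8, 10, 8, 10, 14], 12, false),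
    ([1], [4, 8, 10, 8, 10, 14], 5, false),
    ([1, 4, 8], [10, 14], 63, false),
    ([1, 4], [5, 6, 8, 10, 10, 14], 39, false),
    ([1], [8, 5, 6, 8, 10, 10, 14], 13, false),
    ([1, 3, 4], [6, 8, 10, 10, 14], 41, false),
    ([1, 3, 4, 5], [8, 10, 10, 14], 42, false),
    ([1, 3, 4], [6, 8, 8, 10, 10, 14], 18, false),
    ([1, 3], [5, 6, 8, 8, 10, 10, 14], 13, false),
    ([1], [4, 5, 6, 8, 8, 10, 10, 14], 9, false),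
    ([1, 4, 5, 6], [10, 10, 14], 44, false),
    ([1, 4, 5], [3, 5, 10, 10, 14], 21, false),
    ([1, 4], [6, 3, 5, 10, 10, 14], 15, false),
    ([1], [5, 6, 3, 5, 10, 10, 14], 10, false),
    ([], [4, 5, 6, 3, 5, 10, 10, 14], 1, false),
    ([0, 1, 4, 5], [5, 10, 10, 14], 24, false),
    ([0, 1, 4], [3, 6, 5, 10, 10, 14], 15, false),
    ([0, 1], [5, 3, 6, 5, 10, 10, 14], 10, false),
    ([0], [4, 5, 3, 6, 5, 10, 10, 14], 1, false),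
    ([], [1, 4, 5, 3, 6, 5, 10, 10, 14], 0, false),
    ([1, 4], [6, 5, 10, 10, 14], 18, false),
    ([1], [5, 6, 5, 10, 10, 14], 13, false),
    ([1, 3, 4, 5], [10, 10, 14], 26, false),
    ([1, 3, 4], [5, 6, 10, 10, 14], 15, false),
    ([1, 3], [5, 5, 6, 10, 10, 14], 10, false),
    ([1], [4, 5, 5, 6, 10, 10, 14], 6, false),
    ([], [3, 4, 5, 5, 6, 10, 10, 14], 1, false),
    ([0, 1, 3, 4], [6, 10, 10, 14], 20, false),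
    ([0, 1, 3, 4, 6], [14], 65, false),
    ([0, 1, 3, 4], [1, 2, 6, 7, 14], 21, false),
    ([0, 1, 3], [6, 1, 2, 6, 7, 14], 10, false),
    ([0, 1], [4, 6, 1, 2, 6, 7, 14], 6, false),
    ([0], [3, 4, 6, 1, 2, 6, 7, 14], 1, false),
    ([], [1, 3, 4, 6, 1, 2, 6, 7, 14], 0, false),
    ([1, 3, 4], [2, 6, 7, 14], 22, false),
    ([1, 3], [6, 2, 6, 7, 14], 11, false),
    ([1], [4, 6, 2, 6, 7, 14], 7, false),
    ([], [3, 4, 6, 2, 6, 7, 14], 2, false),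
    ([3, 4], [6, 7, 14], 23, false),
    ([3], [6, 6, 7, 14], 12, false),
    ([], [4, 6, 6, 7, 14], 8, false),
    ([2, 3, 4], [7, 14], 27, false),
    ([2, 3], [7, 14], 12, false),
    ([2], [4, 7, 14], 8, false),
    ([], [3, 4, 7, 14], 5, false),
    ([], [7, 14], 13, true),
    ([], [4, 3, 7, 14], 2, true)]

/-- Part of a closed path for the prime 2. -/
def path2_89_4 : List SchurPath.Step :=
  [([1], [3, 7, 14], 11, true),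
    ([1, 4], [14], 31, true),
    ([1, 4, 7], [], 104, true),
    ([1, 4], [2, 3, 4], 103, true),
    ([1], [7, 2, 3, 4], 102, true),
    ([], [4, 7, 2, 3, 4], 99, true),
    ([14, 1, 4], [3, 4], 30, false),
    ([14, 1], [7, 3, 4], 12, false),
    ([14, 1, 2, 4], [4], 31, false),
    ([14, 1, 2], [3, 7, 4], 11, false),
    ([14, 1], [4, 3, 7, 4], 4, false),
    ([14], [2, 4, 3, 7, 4], 2, false),
    ([14, 2], [7, 4], 13, false),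
    ([14, 2, 3, 4], [], 32, false),
    ([14, 2, 3], [7], 14, false)]

/-- Part of a closed path for the prime 2. -/
def path2_90_0 : List SchurPath.Step :=
  [([15], [], 2, true),
    ([], [1], 112, false),
    ([0, 1, 3, 5], [], 112, false),
    ([0, 1, 3], [1, 3, 5, 15], 15, false),
    ([0, 1], [5, 1, 3, 5, 15], 6, false),
    ([0], [3, 5, 1, 3, 5, 15], 1, false),
    ([], [1, 3, 5, 1, 3, 5, 15], 0, false),
    ([1, 3], [3, 5, 15], 16, false),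
    ([1], [5, 3, 5, 15], 7, false),
    ([], [3, 5, 3, 5, 15], 2, false),
    ([3], [5, 15], 18, false),
    ([], [5, 5, 15], 9, false),
    ([], [15], 20, false)]

/-- Part of a closed path for the prime 2. -/
def path2_91_0 : List SchurPath.Step :=
  [([15], [], 46, true),
    ([], [1], 114, false),
    ([9], [], 112, false),
    ([], [1, 3, 5, 15], 45, false),
    ([0], [3, 5, 15], 46, false),
    ([], [1, 9, 3, 5, 15], 0, false),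
    ([1], [5, 15], 48, false),
    ([1, 3], [15], 50, false),
    ([], [1, 3, 5, 9, 15], 0, true),
    ([0, 0, 1, 3, 5], [], 114, true),
    ([0], [9], 112, true),
    ([], [1, 9], 109, true)]

/-- Part of a closed path for the prime 2. -/
def path2_92_0 : List SchurPath.Step :=
  [([], [9], 115, false),
    ([1, 2, 3, 4, 5, 8, 9], [], 114, false),
    ([1, 2, 3, 4, 5, 8], [15], 54, false),
    ([1, 2, 3, 4, 5, 8], [15], 54, true),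
    ([1, 2, 3, 4], [9, 15], 53, true),
    ([1, 2, 3, 4], [9, 8, 9, 15], 20, true),
    ([1, 2, 3, 4, 5], [8, 9, 15], 50, true),
    ([], [1, 2, 3, 4, 5, 9, 5, 8, 9, 15], 0, true),
    ([0], [2, 3, 4, 5, 9, 5, 8, 9, 15], 1, true),
    ([0, 1], [3, 4, 5, 9, 5, 8, 9, 15], 3, true),
    ([0, 1, 2], [4, 5, 9, 5, 8, 9, 15], 6, true),
    ([0, 1, 2, 3], [9, 5, 8, 9, 15], 19, true),
    ([0, 1, 2], [4, 9, 5, 8, 9, 15], 18, true),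
    ([0, 1], [3, 4, 9, 5, 8, 9, 15], 17, true),
    ([0, 1, 5], [5, 8, 9, 15], 49, true),
    ([0, 1], [5, 9, 4, 5, 8, 9, 15], 9, true),
    ([0, 1, 3], [9, 4, 5, 8, 9, 15], 18, true),
    ([0, 1, 3, 5], [4, 5, 8, 9, 15], 48, true),
    ([0, 1], [3, 5, 9, 3, 4, 5, 8, 9, 15], 5, true),
    ([0, 1, 2], [5, 9, 3, 4, 5, 8, 9, 15], 8, true),
    ([0, 1, 2, 3], [9, 3, 4, 5, 8, 9, 15], 17, true),
    ([0, 1, 2, 3, 5], [3, 4, 5, 8, 9, 15], 47, true),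
    ([0], [3, 5, 9, 2, 3, 4, 5, 8, 9, 15], 4, true),
    ([0, 2], [5, 9, 2, 3, 4, 5, 8, 9, 15], 7, true),
    ([0, 2, 3], [9, 2, 3, 4, 5, 8, 9, 15], 16, true),
    ([], [3, 5, 1, 9, 2, 3, 4, 5, 8, 9, 15], 3, true),
    ([2], [5, 1, 9, 2, 3, 4, 5, 8, 9, 15], 6, true),
    ([2, 3], [1, 9, 2, 3, 4, 5, 8, 9, 15], 15, true),
    ([2, 3, 5], [2, 3, 4, 5, 8, 9, 15], 46, true),
    ([], [2, 3, 5, 9, 1, 2, 3, 4, 5, 8, 9, 15], 2, true),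
    ([1], [1, 2, 3, 5, 9, 1, 2, 3, 4, 5, 8, 9, 15], 20, true),
    ([1], [5, 5, 1, 2, 3, 5, 9, 1, 2, 3, 4, 5, 8, 9, 15], 9, true),
    ([1, 3], [5, 1, 2, 3, 5, 9, 1, 2, 3, 4, 5, 8, 9, 15], 18, true),
    ([], [5, 3, 5, 1, 2, 3, 5, 9, 1, 2, 3, 4, 5, 8, 9, 15], 7, true),
    ([3], [3, 5, 1, 2, 3, 5, 9, 1, 2, 3, 4, 5, 8, 9, 15], 16, true),
    ([], [3, 5, 1, 3, 5, 1, 2, 3, 5, 9, 1, 2, 3, 4, 5, 8, 9, 15], 0, true),
    ([0], [5, 1, 3, 5, 1, 2, 3, 5, 9, 1, 2, 3, 4, 5, 8, 9, 15], 6, true),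
    ([0, 3], [1, 3, 5, 1, 2, 3, 5, 9, 1, 2, 3, 4, 5, 8, 9, 15], 15, true),
    ([0], [0, 1, 3, 5, 1, 2, 3, 5, 9, 1, 2, 3, 4, 5, 8, 9, 15], 18, true),
    ([0, 5, 3, 0, 1, 3, 5, 1, 2, 3, 5, 9], [], 115, true),
    ([0, 5, 3, 0, 1, 3, 5, 1, 2, 3, 5], [4], 114, true),
    ([0, 5, 3, 0, 1, 3, 5], [9, 4], 113, true),
    ([0, 5, 3], [0, 1, 2, 5, 9, 4], 112, true),
    ([0, 5], [1, 0, 1, 2, 5, 9, 4], 111, true),
    ([0], [3, 1, 0, 1, 2, 5, 9, 4], 110, true),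
    ([], [5, 3, 1, 0, 1, 2, 5, 9, 4], 109, true),
    ([15, 0], [1, 0, 1, 2, 5, 9, 4], 18, false),
    ([15, 0, 3], [0, 1, 2, 5, 9, 4], 16, false),
    ([15, 0], [5, 0, 1, 2, 5, 9, 4], 7, false),
    ([15, 0, 1, 3], [1, 2, 5, 9, 4], 15, false),
    ([15, 0, 1], [5, 1, 2, 5, 9, 4], 6, false),
    ([15, 0], [3, 5, 1, 2, 5, 9, 4], 1, false),
    ([15], [1, 3, 5, 1, 2, 5, 9, 4], 0, false),
    ([15, 1, 3], [2, 5, 9, 4], 16, false),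
    ([15, 1], [5, 2, 5, 9, 4], 7, false),
    ([15], [3, 5, 2, 5, 9, 4], 2, false),
    ([15, 3], [5, 9, 4], 17, false),
    ([15], [5, 5, 9, 4], 8, false),
    ([15, 2, 3], [9, 4], 20, false),
    ([15, 2, 3], [], 49, false)]

/-- Part of a closed path for the prime 2. -/
def path2_92_1 : List SchurPath.Step :=
  [([15, 2], [3, 4, 9], 8, false),
    ([15], [3, 3, 4, 9], 5, false),
    ([15], [4, 9], 9, false)]

/-- Part of a closed path for the prime 2. -/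
def path2_93_0 : List SchurPath.Step :=
  [([15], [], 14, true),
    ([], [4], 115, false),
    ([1, 2, 3, 4, 5, 8, 9], [], 115, false),
    ([1, 2, 3, 4, 5, 8], [2, 3, 4, 5, 8, 9, 15], 46, false),
    ([1, 2, 3, 4, 5], [1, 9, 2, 3, 4, 5, 8, 9, 15], 36, false),
    ([1, 2, 3, 4], [8, 1, 9, 2, 3, 4, 5, 8, 9, 15], 15, false),
    ([1, 2, 3], [5, 8, 1, 9, 2, 3, 4, 5, 8, 9, 15], 10, false),
    ([1, 2], [4, 5, 8, 1, 9, 2, 3, 4, 5, 8, 9, 15], 6, false),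
    ([1], [3, 4, 5, 8, 1, 9, 2, 3, 4, 5, 8, 9, 15], 3, false),
    ([], [2, 3, 4, 5, 8, 1, 9, 2, 3, 4, 5, 8, 9, 15], 1, false),
    ([0, 1, 2, 3, 4, 5], [9, 2, 3, 4, 5, 8, 9, 15], 37, false),
    ([0, 1, 2, 3, 4], [8, 9, 2, 3, 4, 5, 8, 9, 15], 16, false),
    ([0, 1, 2, 3], [5, 8, 9, 2, 3, 4, 5, 8, 9, 15], 11, false),
    ([0, 1, 2], [4, 5, 8, 9, 2, 3, 4, 5, 8, 9, 15], 7, false),
    ([0, 1], [3, 4, 5, 8, 9, 2, 3, 4, 5, 8, 9, 15], 4, false),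
    ([0], [2, 3, 4, 5, 8, 9, 2, 3, 4, 5, 8, 9, 15], 2, false),
    ([0, 2, 3, 4, 5, 8], [3, 4, 5, 8, 9, 15], 47, false),
    ([0, 2, 3, 4, 5], [9, 3, 4, 5, 8, 9, 15], 38, false),
    ([0, 2, 3, 4], [2, 8, 9, 3, 4, 5, 8, 9, 15], 15, false),
    ([0, 2, 3], [5, 2, 8, 9, 3, 4, 5, 8, 9, 15], 10, false),
    ([0, 2], [4, 5, 2, 8, 9, 3, 4, 5, 8, 9, 15], 6, false),
    ([0], [3, 4, 5, 2, 8, 9, 3, 4, 5, 8, 9, 15], 3, false),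
    ([], [2, 3, 4, 5, 2, 8, 9, 3, 4, 5, 8, 9, 15], 0, false),
    ([2, 3, 4], [8, 9, 3, 4, 5, 8, 9, 15], 17, false),
    ([2, 3], [5, 8, 9, 3, 4, 5, 8, 9, 15], 12, false),
    ([2], [4, 5, 8, 9, 3, 4, 5, 8, 9, 15], 8, false),
    ([], [3, 4, 5, 8, 9, 3, 4, 5, 8, 9, 15], 5, false),
    ([3, 4, 5, 8], [4, 5, 8, 9, 15], 48, false),
    ([3, 4, 5], [9, 4, 5, 8, 9, 15], 39, false),
    ([3, 4], [8, 9, 4, 5, 8, 9, 15], 18, false),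
    ([3], [5, 8, 9, 4, 5, 8, 9, 15], 13, false),
    ([], [4, 5, 8, 9, 4, 5, 8, 9, 15], 9, false),
    ([4, 5, 8], [5, 8, 9, 15], 49, false),
    ([4, 5], [3, 4, 9, 5, 8, 9, 15], 38, false),
    ([4], [2, 8, 3, 4, 9, 5, 8, 9, 15], 15, false),
    ([], [5, 2, 8, 3, 4, 9, 5, 8, 9, 15], 10, false),
    ([0, 4], [8, 3, 4, 9, 5, 8, 9, 15], 17, false),
    ([0], [5, 8, 3, 4, 9, 5, 8, 9, 15], 12, false),
    ([0, 2, 4, 5], [4, 9, 5, 8, 9, 15], 39, false),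
    ([0, 2, 4], [8, 4, 9, 5, 8, 9, 15], 18, false),
    ([0, 2], [5, 8, 4, 9, 5, 8, 9, 15], 13, false),
    ([0, 2, 3, 4, 5], [9, 5, 8, 9, 15], 40, false),
    ([0, 2, 3, 4], [2, 4, 8, 9, 5, 8, 9, 15], 15, false),
    ([0, 2, 3], [5, 2, 4, 8, 9, 5, 8, 9, 15], 10, false),
    ([0, 2], [4, 5, 2, 4, 8, 9, 5, 8, 9, 15], 6, false),
    ([0], [3, 4, 5, 2, 4, 8, 9, 5, 8, 9, 15], 3, false),
    ([], [2, 3, 4, 5, 2, 4, 8, 9, 5, 8, 9, 15], 0, false),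
    ([2, 3, 4], [4, 8, 9, 5, 8, 9, 15], 17, false),
    ([2, 3], [5, 4, 8, 9, 5, 8, 9, 15], 12, false),
    ([2], [4, 5, 4, 8, 9, 5, 8, 9, 15], 8, false),
    ([], [3, 4, 5, 4, 8, 9, 5, 8, 9, 15], 5, false),
    ([3, 4], [8, 9, 5, 8, 9, 15], 19, false),
    ([3], [4, 5, 8, 9, 5, 8, 9, 15], 10, false),
    ([], [4, 4, 5, 8, 9, 5, 8, 9, 15], 6, false),
    ([0, 3], [5, 8, 9, 5, 8, 9, 15], 14, false),
    ([0, 3, 5, 8], [8, 9, 15], 50, false),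
    ([0, 3, 5], [9, 8, 9, 15], 41, false),
    ([0, 3], [8, 9, 8, 9, 15], 20, false),
    ([0, 3, 8], [9, 15], 53, false),
    ([0, 3], [8, 9, 9, 15], 41, false)]

/-- Part of a closed path for the prime 2. -/
def path2_93_1 : List SchurPath.Step :=
  [([0, 3, 5], [9, 9, 15], 44, false),
    ([0, 3], [3, 5, 9, 9, 15], 15, false),
    ([0], [5, 3, 5, 9, 9, 15], 6, false),
    ([], [3, 5, 3, 5, 9, 9, 15], 0, false),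
    ([3], [5, 9, 9, 15], 18, false),
    ([], [5, 5, 9, 9, 15], 9, false),
    ([], [9, 9, 15], 20, false),
    ([], [15], 54, false)]

/-- Part of a closed path for the prime 2. -/
def path2_94_0 : List SchurPath.Step :=
  [([15, 1, 2, 3, 6], [], 54, true),
    ([], [9], 116, false),
    ([2, 3, 5, 6, 8, 9], [], 114, false),
    ([2, 3, 5, 6, 8], [15], 54, false),
    ([2, 3, 5, 6, 8], [15], 54, true),
    ([], [2, 3, 5, 6, 8, 9, 9, 15], 0, true),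
    ([0], [3, 5, 6, 8, 9, 9, 15], 3, true),
    ([0, 2], [5, 6, 8, 9, 9, 15], 6, true),
    ([0, 2, 3], [8, 9, 9, 15], 26, true),
    ([0, 2, 3, 6], [9, 15], 53, true),
    ([0], [6, 9, 8, 9, 15], 8, true),
    ([0, 3], [8, 9, 15], 51, true),
    ([0, 3], [9, 6, 8, 9, 15], 20, true),
    ([0, 3, 5], [6, 8, 9, 15], 50, true),
    ([0], [9, 5, 6, 8, 9, 15], 18, true),
    ([0, 5], [5, 6, 8, 9, 15], 48, true),
    ([0], [5, 9, 3, 5, 6, 8, 9, 15], 5, true),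
    ([0, 2], [9, 3, 5, 6, 8, 9, 15], 17, true),
    ([0, 2, 5], [3, 5, 6, 8, 9, 15], 47, true),
    ([0, 2], [5, 9, 2, 3, 5, 6, 8, 9, 15], 9, true),
    ([0], [3, 5, 9, 2, 3, 5, 6, 8, 9, 15], 8, true),
    ([0], [3, 2, 3, 5, 9, 2, 3, 5, 6, 8, 9, 15], 2, true),
    ([0, 1], [2, 3, 5, 9, 2, 3, 5, 6, 8, 9, 15], 7, true),
    ([0, 1, 3], [1, 2, 3, 5, 9, 2, 3, 5, 6, 8, 9, 15], 20, true),
    ([0, 1], [5, 1, 2, 3, 5, 9, 2, 3, 5, 6, 8, 9, 15], 18, true),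
    ([0], [3, 5, 1, 2, 3, 5, 9, 2, 3, 5, 6, 8, 9, 15], 16, true),
    ([], [1, 3, 5, 1, 2, 3, 5, 9, 2, 3, 5, 6, 8, 9, 15], 15, true),
    ([5, 0, 1, 3, 5, 1, 2, 3, 5, 9], [], 116, true),
    ([5, 0, 1, 3, 5, 1, 2, 3, 5], [1, 2, 3, 6, 9], 114, true),
    ([5, 0, 1, 3, 5], [9, 1, 2, 3, 6, 9], 113, true),
    ([5], [0, 1, 2, 5, 9, 1, 2, 3, 6, 9], 112, true),
    ([], [1, 0, 1, 2, 5, 9, 1, 2, 3, 6, 9], 110, true),
    ([15], [0, 1, 2, 5, 9, 1, 2, 3, 6, 9], 16, false),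
    ([15, 1], [1, 2, 5, 9, 1, 2, 3, 6, 9], 15, false),
    ([15], [5, 1, 2, 5, 9, 1, 2, 3, 6, 9], 1, false),
    ([15, 0, 1], [2, 5, 9, 1, 2, 3, 6, 9], 16, false),
    ([15, 0], [5, 2, 5, 9, 1, 2, 3, 6, 9], 2, false),
    ([15, 0], [5, 9, 1, 2, 3, 6, 9], 17, false),
    ([15, 0, 2], [9, 1, 2, 3, 6, 9], 20, false),
    ([15, 0, 2], [2, 3, 6, 9], 46, false),
    ([15, 0], [1, 9, 2, 3, 6, 9], 3, false),
    ([15], [2, 1, 9, 2, 3, 6, 9], 0, false),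
    ([15], [9, 2, 3, 6, 9], 4, false),
    ([15, 1, 2], [3, 6, 9], 47, false),
    ([15, 1], [9, 3, 6, 9], 5, false),
    ([15, 1], [6, 9], 48, false),
    ([15, 1, 3], [9], 51, false),
    ([15, 1], [6, 9, 9], 8, false),
    ([15, 1, 2, 3, 6], [], 54, false)]

/-- Part of a closed path for the prime 2. -/
def path2_95_0 : List SchurPath.Step :=
  [([15], [4, 6, 9], 2, true),
    ([15], [1, 1, 4, 6, 9], 0, true),
    ([15, 0], [1, 4, 6, 9], 1, true),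
    ([15, 0, 1], [9], 25, true),
    ([15, 0, 1], [6, 4, 9], 9, true),
    ([15], [3, 3, 6, 4, 9], 1, true),
    ([15, 1], [3, 6, 4, 9], 6, true),
    ([15, 1, 3], [4, 9], 24, true),
    ([15, 1], [3, 6, 3, 4, 9], 5, true),
    ([15, 1, 2], [6, 3, 4, 9], 8, true),
    ([15, 1, 2, 3], [3, 4, 9], 23, true),
    ([15, 1, 2, 3, 6], [], 49, true),
    ([], [4], 116, false),
    ([2, 3, 5, 6, 8, 9], [], 115, false),
    ([2, 3, 5, 6, 8], [2, 3, 4, 5, 8, 9, 15], 46, false),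
    ([2, 3, 5, 6], [1, 9, 2, 3, 4, 5, 8, 9, 15], 36, false),
    ([2, 3, 5], [8, 1, 9, 2, 3, 4, 5, 8, 9, 15], 21, false),
    ([2, 3], [6, 8, 1, 9, 2, 3, 4, 5, 8, 9, 15], 15, false),
    ([2], [5, 6, 8, 1, 9, 2, 3, 4, 5, 8, 9, 15], 6, false),
    ([], [3, 5, 6, 8, 1, 9, 2, 3, 4, 5, 8, 9, 15], 3, false),
    ([0, 2, 3, 5, 6], [9, 2, 3, 4, 5, 8, 9, 15], 37, false),
    ([0, 2, 3, 5], [8, 9, 2, 3, 4, 5, 8, 9, 15], 22, false),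
    ([0, 2, 3], [6, 8, 9, 2, 3, 4, 5, 8, 9, 15], 16, false),
    ([0, 2], [5, 6, 8, 9, 2, 3, 4, 5, 8, 9, 15], 7, false),
    ([0], [3, 5, 6, 8, 9, 2, 3, 4, 5, 8, 9, 15], 4, false),
    ([0, 1, 2, 3, 5, 6, 8], [3, 4, 5, 8, 9, 15], 47, false),
    ([0, 1, 2, 3, 5, 6], [9, 3, 4, 5, 8, 9, 15], 38, false),
    ([0, 1, 2, 3, 5], [2, 8, 9, 3, 4, 5, 8, 9, 15], 21, false),
    ([0, 1, 2, 3], [6, 2, 8, 9, 3, 4, 5, 8, 9, 15], 15, false),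
    ([0, 1, 2], [5, 6, 2, 8, 9, 3, 4, 5, 8, 9, 15], 6, false),
    ([0, 1], [3, 5, 6, 2, 8, 9, 3, 4, 5, 8, 9, 15], 3, false),
    ([0], [2, 3, 5, 6, 2, 8, 9, 3, 4, 5, 8, 9, 15], 1, false),
    ([], [1, 2, 3, 5, 6, 2, 8, 9, 3, 4, 5, 8, 9, 15], 0, false),
    ([1, 2, 3, 5], [8, 9, 3, 4, 5, 8, 9, 15], 23, false),
    ([1, 2, 3], [6, 8, 9, 3, 4, 5, 8, 9, 15], 17, false),
    ([1, 2], [5, 6, 8, 9, 3, 4, 5, 8, 9, 15], 8, false),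
    ([1], [3, 5, 6, 8, 9, 3, 4, 5, 8, 9, 15], 5, false),
    ([1, 3, 5, 6, 8], [4, 5, 8, 9, 15], 48, false),
    ([1, 3, 5, 6], [9, 4, 5, 8, 9, 15], 39, false),
    ([1, 3, 5], [8, 9, 4, 5, 8, 9, 15], 24, false),
    ([1, 3], [3, 6, 8, 9, 4, 5, 8, 9, 15], 15, false),
    ([1], [5, 3, 6, 8, 9, 4, 5, 8, 9, 15], 6, false),
    ([], [3, 5, 3, 6, 8, 9, 4, 5, 8, 9, 15], 1, false),
    ([0, 1, 3], [6, 8, 9, 4, 5, 8, 9, 15], 18, false),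
    ([0, 1], [5, 6, 8, 9, 4, 5, 8, 9, 15], 9, false),
    ([0, 1, 5, 6, 8], [5, 8, 9, 15], 49, false),
    ([0, 1, 5, 6], [3, 4, 9, 5, 8, 9, 15], 38, false),
    ([0, 1, 5], [2, 8, 3, 4, 9, 5, 8, 9, 15], 21, false),
    ([0, 1], [6, 2, 8, 3, 4, 9, 5, 8, 9, 15], 15, false),
    ([0], [5, 6, 2, 8, 3, 4, 9, 5, 8, 9, 15], 1, false),
    ([], [1, 5, 6, 2, 8, 3, 4, 9, 5, 8, 9, 15], 0, false),
    ([1, 5], [8, 3, 4, 9, 5, 8, 9, 15], 23, false),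
    ([1], [6, 8, 3, 4, 9, 5, 8, 9, 15], 17, false),
    ([1, 2, 5, 6], [4, 9, 5, 8, 9, 15], 39, false),
    ([1, 2, 5], [8, 4, 9, 5, 8, 9, 15], 24, false),
    ([1, 2], [3, 6, 8, 4, 9, 5, 8, 9, 15], 15, false),
    ([1], [5, 3, 6, 8, 4, 9, 5, 8, 9, 15], 3, false),
    ([], [2, 5, 3, 6, 8, 4, 9, 5, 8, 9, 15], 1, false),
    ([0, 1, 2], [6, 8, 4, 9, 5, 8, 9, 15], 18, false),
    ([0, 1, 2, 3, 5, 6], [9, 5, 8, 9, 15], 40, false)]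

/-- Part of a closed path for the prime 2. -/
def path2_95_1 : List SchurPath.Step :=
  [([0, 1, 2, 3, 5], [2, 4, 8, 9, 5, 8, 9, 15], 21, false),
    ([0, 1, 2, 3], [6, 2, 4, 8, 9, 5, 8, 9, 15], 15, false),
    ([0, 1, 2], [5, 6, 2, 4, 8, 9, 5, 8, 9, 15], 6, false),
    ([0, 1], [3, 5, 6, 2, 4, 8, 9, 5, 8, 9, 15], 3, false),
    ([0], [2, 3, 5, 6, 2, 4, 8, 9, 5, 8, 9, 15], 1, false),
    ([], [1, 2, 3, 5, 6, 2, 4, 8, 9, 5, 8, 9, 15], 0, false),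
    ([1, 2, 3, 5], [4, 8, 9, 5, 8, 9, 15], 23, false),
    ([1, 2, 3], [6, 4, 8, 9, 5, 8, 9, 15], 17, false),
    ([1, 2], [5, 6, 4, 8, 9, 5, 8, 9, 15], 8, false),
    ([1], [3, 5, 6, 4, 8, 9, 5, 8, 9, 15], 5, false),
    ([1, 3, 5], [8, 9, 5, 8, 9, 15], 25, false),
    ([1, 3], [1, 4, 6, 8, 9, 5, 8, 9, 15], 15, false),
    ([1], [5, 1, 4, 6, 8, 9, 5, 8, 9, 15], 6, false),
    ([], [3, 5, 1, 4, 6, 8, 9, 5, 8, 9, 15], 1, false),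
    ([0, 1, 3], [4, 6, 8, 9, 5, 8, 9, 15], 16, false),
    ([0, 1], [5, 4, 6, 8, 9, 5, 8, 9, 15], 7, false),
    ([0], [3, 5, 4, 6, 8, 9, 5, 8, 9, 15], 2, false),
    ([0, 3], [6, 8, 9, 5, 8, 9, 15], 19, false),
    ([0], [4, 5, 6, 8, 9, 5, 8, 9, 15], 6, false),
    ([], [3, 4, 5, 6, 8, 9, 5, 8, 9, 15], 0, false),
    ([3, 4, 5, 6, 8], [8, 9, 15], 50, false),
    ([3, 4, 5, 6], [9, 8, 9, 15], 41, false),
    ([3, 4, 5], [8, 9, 8, 9, 15], 26, false),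
    ([3, 4], [5, 6, 8, 9, 8, 9, 15], 15, false),
    ([3], [5, 5, 6, 8, 9, 8, 9, 15], 10, false),
    ([], [4, 5, 5, 6, 8, 9, 8, 9, 15], 6, false),
    ([0, 3, 4], [6, 8, 9, 8, 9, 15], 20, false),
    ([0, 3, 4, 6, 8], [9, 15], 53, false),
    ([0, 3, 4, 6], [8, 9, 9, 15], 41, false),
    ([0, 3, 4], [8, 8, 9, 9, 15], 26, false),
    ([0, 3], [5, 6, 8, 8, 9, 9, 15], 10, false),
    ([0], [4, 5, 6, 8, 8, 9, 9, 15], 6, false),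
    ([], [3, 4, 5, 6, 8, 8, 9, 9, 15], 0, false),
    ([3, 4, 5, 6], [9, 9, 15], 44, false),
    ([3, 4, 5], [3, 5, 9, 9, 15], 21, false),
    ([3, 4], [6, 3, 5, 9, 9, 15], 15, false),
    ([3], [5, 6, 3, 5, 9, 9, 15], 10, false),
    ([], [4, 5, 6, 3, 5, 9, 9, 15], 6, false),
    ([0, 3, 4, 5], [5, 9, 9, 15], 24, false),
    ([0, 3, 4], [3, 6, 5, 9, 9, 15], 15, false),
    ([0, 3], [5, 3, 6, 5, 9, 9, 15], 10, false),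
    ([0], [4, 5, 3, 6, 5, 9, 9, 15], 6, false),
    ([], [3, 4, 5, 3, 6, 5, 9, 9, 15], 0, false),
    ([3, 4], [6, 5, 9, 9, 15], 18, false),
    ([3], [5, 6, 5, 9, 9, 15], 13, false),
    ([], [4, 5, 6, 5, 9, 9, 15], 9, false),
    ([4, 5], [9, 9, 15], 26, false),
    ([4], [5, 6, 9, 9, 15], 15, false),
    ([], [5, 5, 6, 9, 9, 15], 10, false),
    ([0, 4], [6, 9, 9, 15], 20, false),
    ([0, 4, 6], [15], 54, false),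
    ([0, 4, 6], [15], 54, true),
    ([0, 4], [6, 9, 9, 15], 20, true),
    ([], [5, 5, 6, 9, 9, 15], 10, true),
    ([4], [5, 6, 9, 9, 15], 15, true),
    ([4, 5], [9, 9, 15], 26, true),
    ([], [4, 5, 6, 5, 9, 9, 15], 9, true),
    ([3], [5, 6, 5, 9, 9, 15], 13, true),
    ([3, 4], [6, 5, 9, 9, 15], 18, true),
    ([], [3, 4, 5, 3, 6, 5, 9, 9, 15], 0, true)]

/-- Part of a closed path for the prime 2. -/
def path2_95_2 : List SchurPath.Step :=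
  [([0], [4, 5, 3, 6, 5, 9, 9, 15], 6, true),
    ([0, 3], [5, 3, 6, 5, 9, 9, 15], 10, true),
    ([0, 3, 4], [3, 6, 5, 9, 9, 15], 15, true),
    ([0, 3, 4, 5], [5, 9, 9, 15], 24, true),
    ([], [4, 5, 6, 3, 5, 9, 9, 15], 6, true),
    ([3], [5, 6, 3, 5, 9, 9, 15], 10, true),
    ([3, 4], [6, 3, 5, 9, 9, 15], 15, true),
    ([3, 4, 5], [3, 5, 9, 9, 15], 21, true),
    ([3, 4, 5, 6], [9, 9, 15], 44, true),
    ([], [3, 4, 5, 6, 8, 8, 9, 9, 15], 0, true),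
    ([0], [4, 5, 6, 8, 8, 9, 9, 15], 6, true),
    ([0, 3], [5, 6, 8, 8, 9, 9, 15], 10, true),
    ([0, 3, 4], [8, 8, 9, 9, 15], 26, true),
    ([0, 3, 4, 6], [8, 9, 9, 15], 41, true),
    ([0, 3, 4, 6, 8], [9, 15], 53, true),
    ([0], [6, 8, 9, 8, 9, 15], 13, true),
    ([0, 4], [9, 8, 9, 15], 42, true),
    ([0], [4, 8, 6, 9, 8, 9, 15], 5, true),
    ([0, 2], [8, 6, 9, 8, 9, 15], 12, true),
    ([], [4, 2, 8, 6, 9, 8, 9, 15], 3, true),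
    ([2], [2, 8, 6, 9, 8, 9, 15], 10, true),
    ([2, 4], [6, 9, 8, 9, 15], 38, true),
    ([2, 4, 8], [8, 9, 15], 51, true),
    ([2, 4], [8, 9, 6, 8, 9, 15], 20, true),
    ([2, 4, 5], [9, 6, 8, 9, 15], 41, true),
    ([2, 4, 5, 8], [6, 8, 9, 15], 50, true),
    ([2], [4, 5, 8, 9, 5, 6, 8, 9, 15], 9, true),
    ([2, 3], [5, 8, 9, 5, 6, 8, 9, 15], 13, true),
    ([2, 3, 4], [8, 9, 5, 6, 8, 9, 15], 18, true),
    ([2, 3, 4, 5], [9, 5, 6, 8, 9, 15], 39, true),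
    ([2, 3, 4, 5, 8], [5, 6, 8, 9, 15], 48, true),
    ([], [4, 5, 8, 9, 3, 5, 6, 8, 9, 15], 8, true),
    ([3], [5, 8, 9, 3, 5, 6, 8, 9, 15], 12, true),
    ([3, 4], [8, 9, 3, 5, 6, 8, 9, 15], 17, true),
    ([], [3, 4, 5, 2, 8, 9, 3, 5, 6, 8, 9, 15], 0, true),
    ([0], [4, 5, 2, 8, 9, 3, 5, 6, 8, 9, 15], 6, true),
    ([0, 3], [5, 2, 8, 9, 3, 5, 6, 8, 9, 15], 10, true),
    ([0, 3, 4], [2, 8, 9, 3, 5, 6, 8, 9, 15], 15, true),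
    ([0, 3, 4, 5], [9, 3, 5, 6, 8, 9, 15], 38, true),
    ([0, 3, 4, 5, 8], [3, 5, 6, 8, 9, 15], 47, true),
    ([0], [3, 4, 5, 8, 9, 2, 3, 5, 6, 8, 9, 15], 5, true),
    ([0], [2, 2, 3, 4, 5, 8, 9, 2, 3, 5, 6, 8, 9, 15], 2, true),
    ([0, 1], [2, 3, 4, 5, 8, 9, 2, 3, 5, 6, 8, 9, 15], 4, true),
    ([0, 1, 2], [1, 2, 3, 4, 5, 8, 9, 2, 3, 5, 6, 8, 9, 15], 20, true),
    ([0, 1, 2], [5, 5, 1, 2, 3, 4, 5, 8, 9, 2, 3, 5, 6, 8, 9, 15], 9, true),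
    ([0, 1, 2, 3], [5, 1, 2, 3, 4, 5, 8, 9, 2, 3, 5, 6, 8, 9, 15], 18, true),
    ([0, 1], [5, 3, 5, 1, 2, 3, 4, 5, 8, 9, 2, 3, 5, 6, 8, 9, 15], 8, true),
    ([0, 1, 3], [3, 5, 1, 2, 3, 4, 5, 8, 9, 2, 3, 5, 6, 8, 9, 15], 17, true),
    ([0], [5, 2, 3, 5, 1, 2, 3, 4, 5, 8, 9, 2, 3, 5, 6, 8, 9, 15], 7, true),
    ([0, 3], [2, 3, 5, 1, 2, 3, 4, 5, 8, 9, 2, 3, 5, 6, 8, 9, 15], 16, true),
    ([0], [1, 2, 3, 5, 1, 2, 3, 4, 5, 8, 9, 2, 3, 5, 6, 8, 9, 15], 18, true),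
    ([0, 5, 3, 1, 2, 3, 5, 1, 2, 3, 4, 5, 8, 9], [], 116, true),
    ([0, 5, 3, 1, 2, 3, 5], [1, 2, 3, 6, 9], 115, true),
    ([0, 5, 3], [4, 1, 2, 3, 6, 9], 113, true),
    ([0, 5], [0, 1, 2, 5, 4, 1, 2, 3, 6, 9], 111, true),
    ([0], [3, 0, 1, 2, 5, 4, 1, 2, 3, 6, 9], 110, true),
    ([], [5, 3, 0, 1, 2, 5, 4, 1, 2, 3, 6, 9], 109, true),
    ([15, 0], [0, 1, 2, 5, 4, 1, 2, 3, 6, 9], 18, false),
    ([15, 0, 3], [1, 2, 5, 4, 1, 2, 3, 6, 9], 15, false),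
    ([15, 0], [5, 1, 2, 5, 4, 1, 2, 3, 6, 9], 6, false)]

/-- Part of a closed path for the prime 2. -/
def path2_95_3 : List SchurPath.Step :=
  [([15], [3, 5, 1, 2, 5, 4, 1, 2, 3, 6, 9], 0, false),
    ([15, 3], [2, 5, 4, 1, 2, 3, 6, 9], 16, false),
    ([15], [5, 2, 5, 4, 1, 2, 3, 6, 9], 7, false),
    ([15, 1, 3], [5, 4, 1, 2, 3, 6, 9], 17, false),
    ([15, 1], [5, 5, 4, 1, 2, 3, 6, 9], 8, false),
    ([15, 1, 2, 3], [4, 1, 2, 3, 6, 9], 20, false),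
    ([15, 1, 2, 3], [2, 3, 6, 9], 11, false),
    ([15, 1, 2], [4, 2, 3, 6, 9], 7, false),
    ([15, 1], [3, 4, 2, 3, 6, 9], 4, false),
    ([15], [2, 3, 4, 2, 3, 6, 9], 2, false),
    ([15, 2, 3], [3, 6, 9], 12, false),
    ([15, 2], [4, 3, 6, 9], 8, false),
    ([15], [3, 4, 3, 6, 9], 5, false),
    ([15, 3], [6, 9], 13, false),
    ([15], [4, 6, 9], 9, false)]

/-- Part of a closed path for the prime 2. -/
def path2_96_0 : List SchurPath.Step :=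
  [([], [9], 117, false),
    ([8], [], 114, false),
    ([], [8, 9, 15], 20, true),
    ([5], [15], 53, true),
    ([5, 9], [], 117, true),
    ([5], [8], 114, true),
    ([], [9, 8], 110, true),
    ([15, 5], [], 53, false),
    ([15], [8, 9], 20, false)]

/-- Closed paths for the prime 2. -/
def paths2 : List (List ℕ × List SchurPath.Step) :=
  [([5, 4, 1], path2_0_0),
    ([5, 4, 2], path2_1_0),
    ([5, 4, 3], path2_2_0),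
    ([5, 4, 4], path2_3_0),
    ([5, 5, 4], path2_4_0),
    ([6, 3, 3], path2_5_0),
    ([6, 4, 2], path2_6_0),
    ([6, 4, 3], path2_7_0),
    ([6, 4, 4], path2_8_0),
    ([6, 5, 4], path2_9_0),
    ([6, 6, 3], path2_10_0),
    ([6, 6, 4], path2_11_0),
    ([6, 6, 5], path2_12_0),
    ([6, 6, 6], path2_13_0),
    ([7, 3, 3], path2_14_0),
    ([7, 5, 4], path2_15_0),
    ([7, 5, 5], path2_16_0),
    ([7, 6, 4], path2_17_0),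
    ([7, 6, 6], path2_18_0),
    ([8, 4, 3], path2_19_0),
    ([8, 4, 4], path2_20_0),
    ([8, 5, 4], path2_21_0),
    ([8, 6, 4], path2_22_0),
    ([8, 6, 5], path2_23_0),
    ([8, 6, 6], path2_24_0),
    ([8, 7, 5], path2_25_0),
    ([8, 7, 6], path2_26_0),
    ([8, 7, 7], path2_27_0),
    ([8, 8, 6], path2_28_0),
    ([8, 8, 7], path2_29_0),
    ([8, 8, 8], path2_30_0),
    ([9, 4, 4], path2_31_0),
    ([9, 5, 4], path2_32_0),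
    ([9, 6, 4], path2_33_0),
    ([9, 6, 6], path2_34_0),
    ([9, 7, 5], path2_35_0),
    ([9, 7, 7], path2_36_0),
    ([9, 8, 6], path2_37_0),
    ([9, 8, 7], path2_38_0),
    ([9, 8, 8], path2_39_0),
    ([9, 9, 7], path2_40_0),
    ([10, 5, 4], path2_41_0),
    ([10, 5, 5], path2_42_0),
    ([10, 6, 4], path2_43_0),
    ([10, 6, 6], path2_44_0),
    ([10, 7, 5], path2_45_0),
    ([10, 8, 6], path2_46_0 ++ path2_46_1),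
    ([10, 8, 7], path2_47_0 ++ path2_47_1),
    ([10, 8, 8], path2_48_0),
    ([10, 9, 7], path2_49_0 ++ path2_49_1 ++ path2_49_2),
    ([10, 9, 9], path2_50_0),
    ([10, 10, 9], path2_51_0 ++ path2_51_1),
    ([10, 10, 10], path2_52_0),
    ([11, 0, 4, 5], path2_53_0),
    ([11, 0, 1, 4, 6], path2_54_0),
    ([11, 2], path2_55_0),
    ([11, 3, 6, 8], path2_56_0),
    ([11, 0, 4, 7, 8], path2_57_0),
    ([11, 0, 3, 5], path2_58_0),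
    ([11, 0, 1, 3, 6, 7, 9], path2_59_0 ++ path2_59_1),
    ([11, 4, 5, 8, 9, 10], path2_60_0 ++ path2_60_1),
    ([11, 0, 1, 2, 6, 7], path2_61_0),
    ([12, 0, 4, 5], path2_62_0),
    ([12, 0, 1, 4, 6], path2_63_0),
    ([12, 2], path2_64_0),
    ([12, 3, 6, 8], path2_65_0),
    ([12, 0, 4, 7, 8], path2_66_0),
    ([12, 0, 3, 5], path2_67_0),
    ([12, 0, 1, 3, 6, 7, 9], path2_68_0),
    ([12, 4, 5, 8, 9, 10], path2_69_0 ++ path2_69_1),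
    ([12, 0, 1, 2, 6, 7], path2_70_0 ++ path2_70_1),
    ([13, 0, 4, 5], path2_71_0),
    ([13, 0, 1, 4, 6], path2_72_0),
    ([13, 2], path2_73_0),
    ([13, 3, 6, 8], path2_74_0),
    ([13, 0, 4, 7, 8], path2_75_0),
    ([13, 0, 3, 5], path2_76_0),
    ([13, 0, 1, 3, 6, 7, 9], path2_77_0),
    ([13, 4, 5, 8, 9, 10], path2_78_0 ++ path2_78_1),
    ([13, 0, 1, 2, 6, 7], path2_79_0),
    ([14, 2, 3, 4, 7], path2_80_0),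
    ([14, 3, 4, 6, 7], path2_81_0),
    ([14, 0, 1, 3, 6], path2_82_0),
    ([14], path2_83_0),
    ([14, 0, 1, 3, 5, 6, 7], path2_84_0),
    ([14, 0, 1, 4, 7, 10], path2_85_0),
    ([14, 0, 1, 3, 5, 10], path2_86_0 ++ path2_86_1),
    ([14, 0, 1, 2, 6, 7], path2_87_0),
    ([14, 6, 7, 8], path2_88_0 ++ path2_88_1 ++ path2_88_2 ++ path2_88_3 ++ path2_88_4 ++ path2_88_5 ++ path2_88_6),
    ([14, 2, 3, 7], path2_89_0 ++ path2_89_1 ++ path2_89_2 ++ path2_89_3 ++ path2_89_4),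
    ([15], path2_90_0),
    ([15, 0, 1, 9], path2_91_0),
    ([15, 4, 9], path2_92_0 ++ path2_92_1),
    ([15], path2_93_0 ++ path2_93_1),
    ([15, 1, 2, 3, 6], path2_94_0),
    ([15, 4, 6, 9], path2_95_0 ++ path2_95_1 ++ path2_95_2 ++ path2_95_3),
    ([15, 8, 9], path2_96_0)]

/-- Their linear forms. -/
def rows2 : List (List ℕ) :=
  [[0, 1, 0, 0, 0, 0, 0, 0, 0, 0, 0, 0, 0, 0, 0, 0, 0, 0, 0, 0, 0, 0, 0, 0, 0, 0, 0, 0, 0, 0, 0, 0, 0, 0, 0, 0, 0, 0, 0, 0, 0, 0, 0, 0, 0, 0, 0, 0, 0, 0, 0, 0, 0, 0, 0, 0, 0, 0, 0, 0, 0, 0, 0, 0, 0, 0, 0, 0, 0, 0, 0, 0, 0, 0, 0, 0, 0, 0, 0, 0, 0, 0, 0, 0, 0, 0, 0, 0, 0, 0, 0, 0, 0, 0, 0, 0, 0, 0, 0, 0, 0, 0, 0, 0, 0, 0, 0, 0, 0, 0, 0, 0, 0, 0, 0, 0, 0, 0],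
    [0, 0, 0, 1, 0, 0, 0, 0, 0, 0, 0, 0, 0, 0, 0, 0, 0, 0, 0, 0, 0, 0, 0, 0, 0, 0, 0, 0, 0, 0, 0, 0, 0, 0, 0, 0, 0, 0, 0, 0, 0, 0, 0, 0, 0, 0, 0, 0, 0, 0, 0, 0, 0, 0, 0, 0, 0, 0, 0, 0, 0, 0, 0, 0, 0, 0, 0, 0, 0, 0, 0, 0, 0, 0, 0, 0, 0, 0, 0, 0, 0, 0, 0, 0, 0, 0, 0, 0, 0, 0, 0, 0, 0, 0, 0, 0, 0, 0, 0, 0, 0, 0, 0, 0, 0, 0, 0, 0, 0, 0, 0, 0, 0, 0, 0, 0, 0, 0],
    [0, 0, 0, 0, 0, 0, 1, 0, 0, 0, 0, 0, 0, 0, 0, 0, 0, 0, 0, 0, 0, 0, 0, 0, 0, 0, 0, 0, 0, 0, 0, 0, 0, 0, 0, 0, 0, 0, 0, 0, 0, 0, 0, 0, 0, 0, 0, 0, 0, 0, 0, 0, 0, 0, 0, 0, 0, 0, 0, 0, 0, 0, 0, 0, 0, 0, 0, 0, 0, 0, 0, 0, 0, 0, 0, 0, 0, 0, 0, 0, 0, 0, 0, 0, 0, 0, 0, 0, 0, 0, 0, 0, 0, 0, 0, 0, 0, 0, 0, 0, 0, 0, 0, 0, 0, 0, 0, 0, 0, 0, 0, 0, 0, 0, 0, 0, 0, 0],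
    [1, 0, 0, 0, 0, 0, 0, 0, 0, 0, 1, 0, 0, 0, 0, 0, 0, 0, 0, 0, 0, 0, 0, 0, 0, 0, 0, 0, 0, 0, 0, 0, 0, 0, 0, 0, 0, 0, 0, 0, 0, 0, 0, 0, 0, 0, 0, 0, 0, 0, 0, 0, 0, 0, 0, 0, 0, 0, 0, 0, 0, 0, 0, 0, 0, 0, 0, 0, 0, 0, 0, 0, 0, 0, 0, 0, 0, 0, 0, 0, 0, 0, 0, 0, 0, 0, 0, 0, 0, 0, 0, 0, 0, 0, 0, 0, 0, 0, 0, 0, 0, 0, 0, 0, 0, 0, 0, 0, 0, 0, 0, 0, 0, 0, 0, 0, 0, 0],
    [1, 0, 0, 0, 0, 0, 0, 0, 0, 0, 0, 0, 0, 0, 0, 1, 0, 0, 0, 0, 0, 0, 0, 0, 0, 0, 0, 0, 0, 0, 0, 0, 0, 0, 0, 0, 0, 0, 0, 0, 0, 0, 0, 0, 0, 0, 0, 0, 0, 0, 0, 0, 0, 0, 0, 0, 0, 0, 0, 0, 0, 0, 0, 0, 0, 0, 0, 0, 0, 0, 0, 0, 0, 0, 0, 0, 0, 0, 0, 0, 0, 0, 0, 0, 0, 0, 0, 0, 0, 0, 0, 0, 0, 0, 0, 0, 0, 0, 0, 0, 0, 0, 0, 0, 0, 0, 0, 0, 0, 0, 0, 0, 0, 0, 0, 0, 0, 0],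
    [1, 0, 0, 0, 0, 0, 1, 0, 0, 0, 0, 0, 0, 0, 0, 0, 0, 0, 0, 0, 0, 0, 0, 0, 0, 0, 0, 0, 0, 0, 0, 0, 0, 0, 0, 0, 0, 0, 0, 0, 0, 0, 0, 0, 0, 0, 0, 0, 0, 0, 0, 0, 0, 0, 0, 0, 0, 0, 0, 0, 0, 0, 0, 0, 0, 0, 0, 0, 0, 0, 0, 0, 0, 0, 0, 0, 0, 0, 0, 0, 0, 0, 0, 0, 0, 0, 0, 0, 0, 0, 0, 0, 0, 0, 0, 0, 0, 0, 0, 0, 0, 0, 0, 0, 0, 0, 0, 0, 0, 0, 0, 0, 0, 0, 0, 0, 0, 0],
    [0, 0, 0, 1, 1, 0, 0, 0, 0, 0, 0, 0, 0, 0, 0, 0, 0, 0, 0, 0, 0, 0, 0, 0, 0, 0, 0, 0, 0, 0, 0, 0, 0, 0, 0, 0, 0, 0, 0, 0, 0, 0, 0, 0, 0, 0, 0, 0, 0, 0, 0, 0, 0, 0, 0, 0, 0, 0, 0, 0, 0, 0, 0, 0, 0, 0, 0, 0, 0, 0, 0, 0, 0, 0, 0, 0, 0, 0, 0, 0, 0, 0, 0, 0, 0, 0, 0, 0, 0, 0, 0, 0, 0, 0, 0, 0, 0, 0, 0, 0, 0, 0, 0, 0, 0, 0, 0, 0, 0, 0, 0, 0, 0, 0, 0, 0, 0, 0],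
    [0, 1, 0, 0, 0, 0, 1, 1, 0, 0, 1, 0, 0, 0, 0, 0, 0, 0, 0, 0, 0, 0, 0, 0, 0, 0, 0, 0, 0, 0, 0, 0, 0, 0, 0, 0, 0, 0, 0, 0, 0, 0, 0, 0, 0, 0, 0, 0, 0, 0, 0, 0, 0, 0, 0, 0, 0, 0, 0, 0, 0, 0, 0, 0, 0, 0, 0, 0, 0, 0, 0, 0, 0, 0, 0, 0, 0, 0, 0, 0, 0, 0, 0, 0, 0, 0, 0, 0, 0, 0, 0, 0, 0, 0, 0, 0, 0, 0, 0, 0, 0, 0, 0, 0, 0, 0, 0, 0, 0, 0, 0, 0, 0, 0, 0, 0, 0, 0],
    [1, 1, 1, 0, 0, 0, 0, 0, 0, 0, 1, 1, 0, 0, 0, 0, 0, 0, 0, 0, 0, 0, 0, 0, 0, 0, 0, 0, 0, 0, 0, 0, 0, 0, 0, 0, 0, 0, 0, 0, 0, 0, 0, 0, 0, 0, 0, 0, 0, 0, 0, 0, 0, 0, 0, 0, 0, 0, 0, 0, 0, 0, 0, 0, 0, 0, 0, 0, 0, 0, 0, 0, 0, 0, 0, 0, 0, 0, 0, 0, 0, 0, 0, 0, 0, 0, 0, 0, 0, 0, 0, 0, 0, 0, 0, 0, 0, 0, 0, 0, 0, 0, 0, 0, 0, 0, 0, 0, 0, 0, 0, 0, 0, 0, 0, 0, 0, 0],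
    [0, 0, 0, 0, 0, 0, 0, 0, 0, 0, 1, 0, 0, 0, 0, 1, 1, 0, 0, 0, 0, 1, 0, 0, 0, 0, 0, 0, 0, 0, 0, 0, 0, 0, 0, 0, 0, 0, 0, 0, 0, 0, 0, 0, 0, 0, 0, 0, 0, 0, 0, 0, 0, 0, 0, 0, 0, 0, 0, 0, 0, 0, 0, 0, 0, 0, 0, 0, 0, 0, 0, 0, 0, 0, 0, 0, 0, 0, 0, 0, 0, 0, 0, 0, 0, 0, 0, 0, 0, 0, 0, 0, 0, 0, 0, 0, 0, 0, 0, 0, 0, 0, 0, 0, 0, 0, 0, 0, 0, 0, 0, 0, 0, 0, 0, 0, 0, 0],
    [1, 0, 0, 0, 0, 0, 0, 0, 1, 0, 0, 0, 0, 0, 0, 0, 0, 0, 0, 0, 0, 1, 0, 0, 0, 0, 0, 0, 0, 0, 0, 0, 0, 0, 0, 0, 0, 0, 0, 0, 0, 0, 0, 0, 0, 0, 0, 0, 0, 0, 0, 0, 0, 0, 0, 0, 0, 0, 0, 0, 0, 0, 0, 0, 0, 0, 0, 0, 0, 0, 0, 0, 0, 0, 0, 0, 0, 0, 0, 0, 0, 0, 0, 0, 0, 0, 0, 0, 0, 0, 0, 0, 0, 0, 0, 0, 0, 0, 0, 0, 0, 0, 0, 0, 0, 0, 0, 0, 0, 0, 0, 0, 0, 0, 0, 0, 0, 0],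
    [1, 1, 1, 0, 0, 0, 0, 0, 0, 0, 0, 0, 1, 0, 0, 0, 0, 0, 0, 0, 0, 1, 1, 0, 0, 0, 0, 0, 0, 0, 0, 0, 0, 0, 0, 0, 0, 0, 0, 0, 0, 0, 0, 0, 0, 0, 0, 0, 0, 0, 0, 0, 0, 0, 0, 0, 0, 0, 0, 0, 0, 0, 0, 0, 0, 0, 0, 0, 0, 0, 0, 0, 0, 0, 0, 0, 0, 0, 0, 0, 0, 0, 0, 0, 0, 0, 0, 0, 0, 0, 0, 0, 0, 0, 0, 0, 0, 0, 0, 0, 0, 0, 0, 0, 0, 0, 0, 0, 0, 0, 0, 0, 0, 0, 0, 0, 0, 0],
    [1, 0, 0, 0, 0, 0, 0, 0, 0, 0, 0, 0, 0, 0, 0, 0, 0, 1, 0, 0, 0, 1, 0, 0, 0, 0, 0, 0, 0, 0, 0, 0, 0, 0, 0, 0, 0, 0, 0, 0, 0, 0, 0, 0, 0, 0, 0, 0, 0, 0, 0, 0, 0, 0, 0, 0, 0, 0, 0, 0, 0, 0, 0, 0, 0, 0, 0, 0, 0, 0, 0, 0, 0, 0, 0, 0, 0, 0, 0, 0, 0, 0, 0, 0, 0, 0, 0, 0, 0, 0, 0, 0, 0, 0, 0, 0, 0, 0, 0, 0, 0, 0, 0, 0, 0, 0, 0, 0, 0, 0, 0, 0, 0, 0, 0, 0, 0, 0],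
    [0, 0, 0, 0, 0, 0, 0, 0, 0, 0, 0, 0, 0, 0, 0, 0, 0, 0, 0, 0, 0, 0, 0, 1, 0, 0, 0, 0, 0, 0, 0, 0, 0, 0, 0, 0, 0, 0, 0, 0, 0, 0, 0, 0, 0, 0, 0, 0, 0, 0, 0, 0, 0, 0, 0, 0, 0, 0, 0, 0, 0, 0, 0, 0, 0, 0, 0, 0, 0, 0, 0, 0, 0, 0, 0, 0, 0, 0, 0, 0, 0, 0, 0, 0, 0, 0, 0, 0, 0, 0, 0, 0, 0, 0, 0, 0, 0, 0, 0, 0, 0, 0, 0, 0, 0, 0, 0, 0, 0, 0, 0, 0, 0, 0, 0, 0, 0, 0],
    [0, 0, 1, 0, 0, 0, 0, 1, 0, 0, 0, 0, 0, 0, 0, 0, 0, 0, 0, 0, 0, 0, 0, 0, 0, 0, 0, 0, 0, 0, 0, 0, 0, 0, 0, 0, 0, 0, 0, 0, 0, 0, 0, 0, 0, 0, 0, 0, 0, 0, 0, 0, 0, 0, 0, 0, 0, 0, 0, 0, 0, 0, 0, 0, 0, 0, 0, 0, 0, 0, 0, 0, 0, 0, 0, 0, 0, 0, 0, 0, 0, 0, 0, 0, 0, 0, 0, 0, 0, 0, 0, 0, 0, 0, 0, 0, 0, 0, 0, 0, 0, 0, 0, 0, 0, 0, 0, 0, 0, 0, 0, 0, 0, 0, 0, 0, 0, 0],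
    [0, 1, 0, 1, 0, 0, 0, 0, 0, 0, 1, 1, 1, 0, 0, 0, 0, 0, 0, 0, 0, 0, 0, 0, 0, 0, 0, 0, 1, 0, 0, 0, 0, 0, 0, 0, 0, 0, 0, 0, 0, 0, 0, 0, 0, 0, 0, 0, 0, 0, 0, 0, 0, 0, 0, 0, 0, 0, 0, 0, 0, 0, 0, 0, 0, 0, 0, 0, 0, 0, 0, 0, 0, 0, 0, 0, 0, 0, 0, 0, 0, 0, 0, 0, 0, 0, 0, 0, 0, 0, 0, 0, 0, 0, 0, 0, 0, 0, 0, 0, 0, 0, 0, 0, 0, 0, 0, 0, 0, 0, 0, 0, 0, 0, 0, 0, 0, 0],
    [1, 1, 1, 1, 1, 1, 0, 0, 0, 0, 0, 0, 0, 0, 0, 1, 1, 1, 0, 0, 0, 0, 0, 0, 0, 0, 0, 0, 0, 0, 0, 0, 0, 0, 0, 0, 0, 0, 0, 0, 0, 0, 0, 0, 0, 0, 0, 0, 0, 0, 0, 0, 0, 0, 0, 0, 0, 0, 0, 0, 0, 0, 0, 0, 0, 0, 0, 0, 0, 0, 0, 0, 0, 0, 0, 0, 0, 0, 0, 0, 0, 0, 0, 0, 0, 0, 0, 0, 0, 0, 0, 0, 0, 0, 0, 0, 0, 0, 0, 0, 0, 0, 0, 0, 0, 0, 0, 0, 0, 0, 0, 0, 0, 0, 0, 0, 0, 0],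
    [0, 0, 0, 1, 1, 0, 0, 0, 0, 0, 1, 1, 1, 0, 0, 0, 0, 0, 0, 0, 0, 0, 0, 0, 0, 0, 0, 0, 1, 1, 0, 0, 0, 0, 0, 0, 0, 0, 0, 0, 0, 0, 0, 0, 0, 0, 0, 0, 0, 0, 0, 0, 0, 0, 0, 0, 0, 0, 0, 0, 0, 0, 0, 0, 0, 0, 0, 0, 0, 0, 0, 0, 0, 0, 0, 0, 0, 0, 0, 0, 0, 0, 0, 0, 0, 0, 0, 0, 0, 0, 0, 0, 0, 0, 0, 0, 0, 0, 0, 0, 0, 0, 0, 0, 0, 0, 0, 0, 0, 0, 0, 0, 0, 0, 0, 0, 0, 0],
    [1, 1, 1, 1, 1, 1, 0, 0, 0, 0, 0, 0, 0, 0, 0, 0, 0, 0, 0, 0, 0, 1, 1, 1, 0, 0, 0, 0, 0, 0, 1, 0, 0, 0, 0, 0, 0, 0, 0, 0, 0, 0, 0, 0, 0, 0, 0, 0, 0, 0, 0, 0, 0, 0, 0, 0, 0, 0, 0, 0, 0, 0, 0, 0, 0, 0, 0, 0, 0, 0, 0, 0, 0, 0, 0, 0, 0, 0, 0, 0, 0, 0, 0, 0, 0, 0, 0, 0, 0, 0, 0, 0, 0, 0, 0, 0, 0, 0, 0, 0, 0, 0, 0, 0, 0, 0, 0, 0, 0, 0, 0, 0, 0, 0, 0, 0, 0, 0],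
    [0, 0, 0, 0, 0, 0, 1, 0, 1, 0, 0, 0, 0, 0, 0, 0, 0, 0, 0, 0, 0, 0, 0, 0, 0, 0, 0, 0, 0, 0, 0, 0, 0, 0, 0, 0, 0, 0, 0, 0, 0, 0, 0, 0, 0, 0, 0, 0, 0, 0, 0, 0, 0, 0, 0, 0, 0, 0, 0, 0, 0, 0, 0, 0, 0, 0, 0, 0, 0, 0, 0, 0, 0, 0, 0, 0, 0, 0, 0, 0, 0, 0, 0, 0, 0, 0, 0, 0, 0, 0, 0, 0, 0, 0, 0, 0, 0, 0, 0, 0, 0, 0, 0, 0, 0, 0, 0, 0, 0, 0, 0, 0, 0, 0, 0, 0, 0, 0],
    [1, 0, 0, 1, 0, 1, 0, 0, 0, 0, 1, 0, 1, 0, 0, 0, 0, 0, 0, 0, 0, 0, 0, 0, 0, 0, 0, 0, 0, 0, 0, 0, 0, 0, 0, 0, 0, 0, 0, 0, 0, 0, 0, 0, 0, 0, 0, 0, 0, 0, 0, 0, 0, 0, 0, 0, 0, 0, 0, 0, 0, 0, 0, 0, 0, 0, 0, 0, 0, 0, 0, 0, 0, 0, 0, 0, 0, 0, 0, 0, 0, 0, 0, 0, 0, 0, 0, 0, 0, 0, 0, 0, 0, 0, 0, 0, 0, 0, 0, 0, 0, 0, 0, 0, 0, 0, 0, 0, 0, 0, 0, 0, 0, 0, 0, 0, 0, 0],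
    [0, 0, 0, 1, 0, 0, 0, 0, 0, 0, 0, 0, 0, 0, 0, 1, 0, 1, 0, 0, 0, 0, 0, 0, 0, 0, 0, 0, 0, 0, 0, 0, 0, 0, 0, 0, 1, 0, 0, 0, 0, 0, 0, 0, 0, 0, 0, 0, 0, 0, 0, 0, 0, 0, 0, 0, 0, 0, 0, 0, 0, 0, 0, 0, 0, 0, 0, 0, 0, 0, 0, 0, 0, 0, 0, 0, 0, 0, 0, 0, 0, 0, 0, 0, 0, 0, 0, 0, 0, 0, 0, 0, 0, 0, 0, 0, 0, 0, 0, 0, 0, 0, 0, 0, 0, 0, 0, 0, 0, 0, 0, 0, 0, 0, 0, 0, 0, 0],
    [0, 1, 0, 1, 1, 0, 0, 1, 1, 0, 0, 0, 0, 1, 0, 0, 0, 0, 0, 0, 0, 1, 0, 1, 0, 0, 0, 0, 0, 0, 0, 0, 0, 0, 0, 0, 1, 1, 0, 0, 0, 0, 0, 0, 0, 0, 0, 0, 0, 0, 0, 0, 0, 0, 0, 0, 0, 0, 0, 0, 0, 0, 0, 0, 0, 0, 0, 0, 0, 0, 0, 0, 0, 0, 0, 0, 0, 0, 0, 0, 0, 0, 0, 0, 0, 0, 0, 0, 0, 0, 0, 0, 0, 0, 0, 0, 0, 0, 0, 0, 0, 0, 0, 0, 0, 0, 0, 0, 0, 0, 0, 0, 0, 0, 0, 0, 0, 0],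
    [0, 0, 0, 0, 0, 0, 1, 0, 0, 0, 0, 0, 0, 0, 0, 0, 0, 0, 1, 0, 0, 0, 0, 0, 0, 0, 0, 0, 0, 0, 0, 0, 0, 0, 0, 0, 1, 0, 0, 0, 0, 0, 0, 0, 0, 0, 0, 0, 0, 0, 0, 0, 0, 0, 0, 0, 0, 0, 0, 0, 0, 0, 0, 0, 0, 0, 0, 0, 0, 0, 0, 0, 0, 0, 0, 0, 0, 0, 0, 0, 0, 0, 0, 0, 0, 0, 0, 0, 0, 0, 0, 0, 0, 0, 0, 0, 0, 0, 0, 0, 0, 0, 0, 0, 0, 0, 0, 0, 0, 0, 0, 0, 0, 0, 0, 0, 0, 0],
    [0, 0, 0, 0, 0, 0, 1, 0, 0, 1, 0, 0, 0, 0, 0, 0, 0, 0, 0, 0, 0, 0, 0, 0, 1, 0, 0, 0, 0, 0, 0, 0, 0, 0, 0, 0, 0, 0, 1, 0, 0, 0, 0, 0, 0, 0, 0, 0, 0, 0, 0, 0, 0, 0, 0, 0, 0, 0, 0, 0, 0, 0, 0, 0, 0, 0, 0, 0, 0, 0, 0, 0, 0, 0, 0, 0, 0, 0, 0, 0, 0, 0, 0, 0, 0, 0, 0, 0, 0, 0, 0, 0, 0, 0, 0, 0, 0, 0, 0, 0, 0, 0, 0, 0, 0, 0, 0, 0, 0, 0, 0, 0, 0, 0, 0, 0, 0, 0],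
    [1, 1, 0, 0, 0, 0, 0, 0, 0, 0, 1, 1, 1, 0, 0, 1, 0, 0, 0, 1, 0, 0, 0, 0, 0, 0, 0, 0, 0, 0, 0, 0, 0, 0, 0, 0, 1, 1, 1, 0, 0, 0, 0, 0, 0, 0, 0, 0, 0, 0, 0, 0, 0, 0, 0, 0, 0, 0, 0, 0, 0, 0, 0, 0, 0, 0, 0, 0, 0, 0, 0, 0, 0, 0, 0, 0, 0, 0, 0, 0, 0, 0, 0, 0, 0, 0, 0, 0, 0, 0, 0, 0, 0, 0, 0, 0, 0, 0, 0, 0, 0, 0, 0, 0, 0, 0, 0, 0, 0, 0, 0, 0, 0, 0, 0, 0, 0, 0],
    [1, 0, 0, 0, 1, 0, 1, 0, 1, 0, 1, 0, 1, 1, 0, 0, 0, 0, 0, 0, 0, 1, 0, 0, 0, 1, 0, 0, 0, 0, 0, 1, 0, 0, 0, 0, 1, 1, 1, 0, 0, 0, 0, 0, 0, 0, 0, 0, 0, 0, 0, 0, 0, 0, 0, 0, 0, 0, 0, 0, 0, 0, 0, 0, 0, 0, 0, 0, 0, 0, 0, 0, 0, 0, 0, 0, 0, 0, 0, 0, 0, 0, 0, 0, 0, 0, 0, 0, 0, 0, 0, 0, 0, 0, 0, 0, 0, 0, 0, 0, 0, 0, 0, 0, 0, 0, 0, 0, 0, 0, 0, 0, 0, 0, 0, 0, 0, 0],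
    [1, 0, 0, 0, 0, 0, 0, 0, 0, 0, 1, 0, 0, 0, 1, 0, 0, 0, 0, 0, 0, 0, 0, 0, 0, 0, 0, 0, 1, 0, 0, 0, 1, 0, 0, 0, 0, 0, 0, 0, 0, 0, 0, 0, 0, 0, 0, 0, 0, 0, 0, 0, 0, 0, 0, 0, 0, 0, 0, 0, 0, 0, 0, 0, 0, 0, 0, 0, 0, 0, 0, 0, 0, 0, 0, 0, 0, 0, 0, 0, 0, 0, 0, 0, 0, 0, 0, 0, 0, 0, 0, 0, 0, 0, 0, 0, 0, 0, 0, 0, 0, 0, 0, 0, 0, 0, 0, 0, 0, 0, 0, 0, 0, 0, 0, 0, 0, 0],
    [1, 0, 0, 0, 0, 0, 1, 0, 0, 1, 0, 0, 0, 0, 0, 0, 0, 0, 0, 0, 0, 1, 0, 0, 1, 0, 1, 0, 0, 0, 0, 0, 0, 0, 0, 0, 0, 0, 0, 1, 0, 0, 0, 0, 0, 0, 0, 0, 0, 0, 0, 0, 0, 0, 0, 0, 0, 0, 0, 0, 0, 0, 0, 0, 0, 0, 0, 0, 0, 0, 0, 0, 0, 0, 0, 0, 0, 0, 0, 0, 0, 0, 0, 0, 0, 0, 0, 0, 0, 0, 0, 0, 0, 0, 0, 0, 0, 0, 0, 0, 0, 0, 0, 0, 0, 0, 0, 0, 0, 0, 0, 0, 0, 0, 0, 0, 0, 0],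
    [0, 1, 1, 1, 0, 1, 1, 1, 1, 0, 1, 0, 0, 0, 1, 0, 0, 0, 0, 0, 0, 0, 0, 0, 0, 0, 0, 0, 1, 0, 0, 1, 0, 1, 0, 0, 1, 0, 0, 0, 1, 0, 0, 0, 0, 0, 0, 0, 0, 0, 0, 0, 0, 0, 0, 0, 0, 0, 0, 0, 0, 0, 0, 0, 0, 0, 0, 0, 0, 0, 0, 0, 0, 0, 0, 0, 0, 0, 0, 0, 0, 0, 0, 0, 0, 0, 0, 0, 0, 0, 0, 0, 0, 0, 0, 0, 0, 0, 0, 0, 0, 0, 0, 0, 0, 0, 0, 0, 0, 0, 0, 0, 0, 0, 0, 0, 0, 0],
    [0, 0, 0, 0, 0, 0, 0, 0, 0, 0, 0, 0, 0, 0, 0, 0, 0, 0, 0, 0, 0, 0, 0, 0, 0, 0, 0, 0, 0, 0, 0, 0, 0, 0, 0, 0, 1, 0, 0, 1, 0, 1, 0, 0, 0, 0, 0, 0, 0, 0, 0, 0, 0, 0, 0, 0, 0, 0, 0, 0, 0, 0, 0, 0, 0, 0, 0, 0, 0, 0, 0, 0, 0, 0, 0, 0, 0, 0, 0, 0, 0, 0, 0, 0, 0, 0, 0, 0, 0, 0, 0, 0, 0, 0, 0, 0, 0, 0, 0, 0, 0, 0, 0, 0, 0, 0, 0, 0, 0, 0, 0, 0, 0, 0, 0, 0, 0, 0],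
    [0, 0, 0, 0, 0, 1, 0, 0, 1, 1, 0, 0, 1, 1, 0, 0, 0, 0, 0, 0, 0, 0, 0, 0, 0, 0, 0, 0, 0, 0, 0, 0, 0, 0, 0, 0, 0, 0, 0, 0, 0, 0, 0, 0, 0, 0, 0, 0, 0, 0, 0, 0, 0, 0, 0, 0, 0, 0, 0, 0, 0, 0, 0, 0, 0, 0, 0, 0, 0, 0, 0, 0, 0, 0, 0, 0, 0, 0, 0, 0, 0, 0, 0, 0, 0, 0, 0, 0, 0, 0, 0, 0, 0, 0, 0, 0, 0, 0, 0, 0, 0, 0, 0, 0, 0, 0, 0, 0, 0, 0, 0, 0, 0, 0, 0, 0, 0, 0],
    [0, 0, 0, 1, 0, 0, 1, 0, 0, 0, 0, 0, 0, 0, 0, 0, 0, 1, 1, 0, 0, 0, 0, 0, 0, 0, 0, 0, 0, 0, 0, 0, 0, 0, 0, 0, 0, 0, 0, 0, 0, 0, 0, 0, 0, 1, 0, 0, 0, 0, 0, 0, 0, 0, 0, 0, 0, 0, 0, 0, 0, 0, 0, 0, 0, 0, 0, 0, 0, 0, 0, 0, 0, 0, 0, 0, 0, 0, 0, 0, 0, 0, 0, 0, 0, 0, 0, 0, 0, 0, 0, 0, 0, 0, 0, 0, 0, 0, 0, 0, 0, 0, 0, 0, 0, 0, 0, 0, 0, 0, 0, 0, 0, 0, 0, 0, 0, 0],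
    [0, 0, 0, 0, 0, 0, 1, 1, 1, 0, 0, 0, 1, 0, 0, 0, 0, 0, 0, 0, 0, 0, 0, 1, 1, 0, 0, 0, 0, 0, 0, 0, 0, 0, 0, 0, 0, 0, 0, 0, 0, 0, 0, 0, 0, 1, 1, 0, 0, 0, 0, 0, 0, 0, 0, 0, 0, 0, 0, 0, 0, 0, 0, 0, 0, 0, 0, 0, 0, 0, 0, 0, 0, 0, 0, 0, 0, 0, 0, 0, 0, 0, 0, 0, 0, 0, 0, 0, 0, 0, 0, 0, 0, 0, 0, 0, 0, 0, 0, 0, 0, 0, 0, 0, 0, 0, 0, 0, 0, 0, 0, 0, 0, 0, 0, 0, 0, 0],
    [0, 0, 0, 0, 0, 1, 0, 0, 0, 0, 0, 0, 0, 0, 0, 0, 0, 0, 0, 0, 0, 0, 0, 1, 0, 0, 0, 0, 0, 0, 0, 0, 0, 0, 0, 0, 0, 0, 0, 0, 0, 0, 0, 0, 0, 0, 0, 1, 0, 0, 0, 0, 0, 0, 0, 0, 0, 0, 0, 0, 0, 0, 0, 0, 0, 0, 0, 0, 0, 0, 0, 0, 0, 0, 0, 0, 0, 0, 0, 0, 0, 0, 0, 0, 0, 0, 0, 0, 0, 0, 0, 0, 0, 0, 0, 0, 0, 0, 0, 0, 0, 0, 0, 0, 0, 0, 0, 0, 0, 0, 0, 0, 0, 0, 0, 0, 0, 0],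
    [0, 0, 0, 0, 1, 0, 0, 1, 1, 0, 0, 0, 0, 0, 0, 1, 1, 0, 1, 0, 0, 1, 1, 1, 0, 0, 1, 0, 0, 0, 0, 0, 0, 0, 0, 0, 0, 0, 0, 0, 0, 0, 0, 0, 0, 1, 1, 1, 0, 0, 0, 0, 0, 0, 0, 0, 0, 0, 0, 0, 0, 0, 0, 0, 0, 0, 0, 0, 0, 0, 0, 0, 0, 0, 0, 0, 0, 0, 0, 0, 0, 0, 0, 0, 0, 0, 0, 0, 0, 0, 0, 0, 0, 0, 0, 0, 0, 0, 0, 0, 0, 0, 0, 0, 0, 0, 0, 0, 0, 0, 0, 0, 0, 0, 0, 0, 0, 0],
    [0, 1, 0, 0, 0, 1, 0, 0, 0, 1, 0, 0, 0, 0, 0, 0, 0, 0, 0, 0, 0, 0, 1, 1, 1, 0, 0, 1, 1, 1, 0, 1, 0, 0, 1, 0, 0, 0, 0, 0, 0, 0, 0, 0, 0, 0, 0, 0, 0, 0, 0, 0, 0, 0, 0, 0, 0, 0, 0, 0, 0, 0, 0, 0, 0, 0, 0, 0, 0, 0, 0, 0, 0, 0, 0, 0, 0, 0, 0, 0, 0, 0, 0, 0, 0, 0, 0, 0, 0, 0, 0, 0, 0, 0, 0, 0, 0, 0, 0, 0, 0, 0, 0, 0, 0, 0, 0, 0, 0, 0, 0, 0, 0, 0, 0, 0, 0, 0],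
    [0, 0, 0, 1, 0, 0, 1, 0, 1, 0, 0, 0, 0, 0, 0, 1, 0, 1, 1, 0, 0, 0, 0, 0, 0, 0, 1, 0, 0, 0, 0, 0, 0, 0, 0, 0, 0, 0, 1, 0, 0, 0, 0, 0, 0, 0, 0, 0, 1, 0, 0, 0, 0, 0, 0, 0, 0, 0, 0, 0, 0, 0, 0, 0, 0, 0, 0, 0, 0, 0, 0, 0, 0, 0, 0, 0, 0, 0, 0, 0, 0, 0, 0, 0, 0, 0, 0, 0, 0, 0, 0, 0, 0, 0, 0, 0, 0, 0, 0, 0, 0, 0, 0, 0, 0, 0, 0, 0, 0, 0, 0, 0, 0, 0, 0, 0, 0, 0],
    [0, 1, 0, 0, 0, 1, 1, 1, 0, 0, 1, 0, 1, 1, 0, 1, 0, 0, 0, 1, 0, 0, 1, 1, 0, 1, 1, 0, 0, 0, 0, 0, 0, 1, 0, 0, 1, 1, 0, 1, 0, 0, 1, 0, 0, 1, 0, 0, 0, 1, 0, 0, 0, 0, 0, 0, 0, 0, 0, 0, 0, 0, 0, 0, 0, 0, 0, 0, 0, 0, 0, 0, 0, 0, 0, 0, 0, 0, 0, 0, 0, 0, 0, 0, 0, 0, 0, 0, 0, 0, 0, 0, 0, 0, 0, 0, 0, 0, 0, 0, 0, 0, 0, 0, 0, 0, 0, 0, 0, 0, 0, 0, 0, 0, 0, 0, 0, 0],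
    [0, 0, 0, 0, 0, 0, 0, 0, 0, 0, 0, 0, 0, 0, 0, 0, 0, 0, 0, 0, 1, 0, 0, 0, 0, 0, 0, 0, 0, 0, 0, 0, 0, 0, 0, 0, 0, 0, 0, 0, 0, 1, 0, 0, 0, 1, 0, 0, 1, 0, 1, 0, 0, 0, 0, 0, 0, 0, 0, 0, 0, 0, 0, 0, 0, 0, 0, 0, 0, 0, 0, 0, 0, 0, 0, 0, 0, 0, 0, 0, 0, 0, 0, 0, 0, 0, 0, 0, 0, 0, 0, 0, 0, 0, 0, 0, 0, 0, 0, 0, 0, 0, 0, 0, 0, 0, 0, 0, 0, 0, 0, 0, 0, 0, 0, 0, 0, 0],
    [0, 1, 1, 0, 1, 1, 0, 1, 1, 1, 0, 0, 0, 0, 0, 0, 0, 0, 0, 0, 0, 1, 1, 0, 1, 0, 0, 1, 0, 0, 0, 0, 0, 0, 0, 0, 0, 0, 0, 0, 0, 0, 0, 0, 0, 1, 1, 0, 1, 0, 0, 1, 0, 0, 0, 0, 0, 0, 0, 0, 0, 0, 0, 0, 0, 0, 0, 0, 0, 0, 0, 0, 0, 0, 0, 0, 0, 0, 0, 0, 0, 0, 0, 0, 0, 0, 0, 0, 0, 0, 0, 0, 0, 0, 0, 0, 0, 0, 0, 0, 0, 0, 0, 0, 0, 0, 0, 0, 0, 0, 0, 0, 0, 0, 0, 0, 0, 0],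
    [0, 0, 0, 0, 1, 0, 0, 1, 1, 0, 1, 1, 0, 1, 0, 1, 1, 1, 0, 0, 0, 0, 0, 0, 0, 0, 0, 0, 0, 0, 0, 0, 0, 0, 0, 0, 0, 0, 0, 0, 0, 0, 0, 0, 0, 0, 0, 0, 0, 0, 0, 0, 0, 0, 0, 1, 0, 0, 0, 0, 0, 0, 0, 0, 0, 0, 0, 0, 0, 0, 0, 0, 0, 0, 0, 0, 0, 0, 0, 0, 0, 0, 0, 0, 0, 0, 0, 0, 0, 0, 0, 0, 0, 0, 0, 0, 0, 0, 0, 0, 0, 0, 0, 0, 0, 0, 0, 0, 0, 0, 0, 0, 0, 0, 0, 0, 0, 0],
    [1, 1, 1, 0, 0, 0, 1, 1, 0, 1, 0, 0, 0, 0, 0, 1, 1, 0, 1, 0, 0, 0, 0, 0, 0, 0, 0, 0, 0, 0, 0, 0, 0, 0, 0, 0, 0, 0, 0, 0, 0, 0, 0, 0, 0, 0, 0, 0, 0, 0, 0, 0, 0, 0, 0, 0, 0, 0, 0, 0, 0, 0, 0, 0, 0, 0, 0, 0, 0, 0, 0, 0, 0, 0, 0, 0, 0, 0, 0, 0, 0, 0, 0, 0, 0, 0, 0, 0, 0, 0, 0, 0, 0, 0, 0, 0, 0, 0, 0, 0, 0, 0, 0, 0, 0, 0, 0, 0, 0, 0, 0, 0, 0, 0, 0, 0, 0, 0],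
    [0, 0, 0, 0, 0, 0, 0, 0, 0, 0, 1, 1, 1, 0, 0, 0, 0, 0, 0, 0, 0, 1, 1, 1, 0, 0, 0, 0, 0, 0, 0, 0, 0, 0, 0, 0, 0, 0, 0, 0, 0, 0, 0, 0, 0, 0, 0, 0, 0, 0, 0, 0, 0, 0, 0, 1, 1, 0, 0, 0, 0, 0, 0, 0, 0, 0, 0, 0, 0, 0, 0, 0, 0, 0, 0, 0, 0, 0, 0, 0, 0, 0, 0, 0, 0, 0, 0, 0, 0, 0, 0, 0, 0, 0, 0, 0, 0, 0, 0, 0, 0, 0, 0, 0, 0, 0, 0, 0, 0, 0, 0, 0, 0, 0, 0, 0, 0, 0],
    [1, 1, 1, 0, 0, 0, 0, 0, 0, 0, 0, 0, 0, 0, 1, 0, 0, 0, 0, 0, 0, 1, 1, 0, 0, 1, 0, 0, 0, 0, 0, 0, 0, 0, 0, 0, 0, 0, 0, 0, 0, 0, 0, 0, 0, 0, 0, 0, 0, 0, 0, 0, 0, 0, 0, 0, 0, 1, 0, 0, 0, 0, 0, 0, 0, 0, 0, 0, 0, 0, 0, 0, 0, 0, 0, 0, 0, 0, 0, 0, 0, 0, 0, 0, 0, 0, 0, 0, 0, 0, 0, 0, 0, 0, 0, 0, 0, 0, 0, 0, 0, 0, 0, 0, 0, 0, 0, 0, 0, 0, 0, 0, 0, 0, 0, 0, 0, 0],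
    [1, 0, 0, 1, 0, 0, 1, 0, 1, 0, 0, 1, 1, 1, 0, 1, 1, 0, 0, 1, 0, 0, 0, 0, 0, 0, 0, 0, 1, 1, 0, 1, 0, 0, 0, 0, 0, 0, 0, 0, 0, 0, 0, 0, 0, 0, 0, 0, 0, 0, 0, 0, 0, 0, 0, 1, 1, 1, 0, 0, 0, 0, 0, 0, 0, 0, 0, 0, 0, 0, 0, 0, 0, 0, 0, 0, 0, 0, 0, 0, 0, 0, 0, 0, 0, 0, 0, 0, 0, 0, 0, 0, 0, 0, 0, 0, 0, 0, 0, 0, 0, 0, 0, 0, 0, 0, 0, 0, 0, 0, 0, 0, 0, 0, 0, 0, 0, 0],
    [1, 1, 0, 0, 0, 0, 1, 1, 1, 0, 1, 0, 0, 0, 0, 0, 0, 1, 1, 1, 0, 0, 1, 1, 0, 1, 1, 0, 0, 0, 0, 0, 0, 0, 0, 0, 1, 1, 0, 0, 1, 0, 0, 0, 0, 0, 0, 0, 0, 0, 0, 0, 0, 0, 0, 0, 0, 0, 1, 0, 0, 0, 0, 0, 0, 0, 0, 0, 0, 0, 0, 0, 0, 0, 0, 0, 0, 0, 0, 0, 0, 0, 0, 0, 0, 0, 0, 0, 0, 0, 0, 0, 0, 0, 0, 0, 0, 0, 0, 0, 0, 0, 0, 0, 0, 0, 0, 0, 0, 0, 0, 0, 0, 0, 0, 0, 0, 0],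
    [1, 1, 1, 1, 1, 1, 1, 1, 1, 0, 0, 0, 0, 0, 0, 0, 0, 0, 0, 0, 0, 1, 1, 1, 0, 0, 0, 0, 0, 0, 0, 1, 0, 1, 1, 0, 1, 1, 0, 0, 1, 0, 0, 0, 0, 0, 0, 0, 0, 0, 0, 0, 0, 0, 0, 1, 0, 0, 0, 1, 0, 0, 0, 0, 0, 0, 0, 0, 0, 0, 0, 0, 0, 0, 0, 0, 0, 0, 0, 0, 0, 0, 0, 0, 0, 0, 0, 0, 0, 0, 0, 0, 0, 0, 0, 0, 0, 0, 0, 0, 0, 0, 0, 0, 0, 0, 0, 0, 0, 0, 0, 0, 0, 0, 0, 0, 0, 0],
    [1, 1, 1, 0, 1, 0, 1, 1, 1, 1, 0, 0, 0, 0, 0, 0, 0, 0, 1, 0, 1, 0, 0, 0, 0, 0, 1, 1, 0, 0, 0, 0, 0, 0, 0, 0, 0, 0, 0, 1, 0, 1, 1, 0, 0, 0, 0, 0, 0, 0, 0, 0, 0, 0, 0, 1, 0, 0, 1, 0, 1, 0, 0, 0, 0, 0, 0, 0, 0, 0, 0, 0, 0, 0, 0, 0, 0, 0, 0, 0, 0, 0, 0, 0, 0, 0, 0, 0, 0, 0, 0, 0, 0, 0, 0, 0, 0, 0, 0, 0, 0, 0, 0, 0, 0, 0, 0, 0, 0, 0, 0, 0, 0, 0, 0, 0, 0, 0],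
    [1, 0, 0, 0, 1, 0, 0, 1, 0, 1, 1, 0, 1, 1, 0, 1, 1, 0, 1, 0, 0, 1, 0, 1, 0, 1, 1, 0, 0, 0, 0, 0, 1, 1, 0, 0, 1, 0, 1, 0, 1, 0, 1, 1, 0, 1, 1, 0, 0, 1, 0, 0, 0, 0, 0, 1, 1, 0, 1, 0, 0, 1, 0, 0, 0, 0, 0, 0, 0, 0, 0, 0, 0, 0, 0, 0, 0, 0, 0, 0, 0, 0, 0, 0, 0, 0, 0, 0, 0, 0, 0, 0, 0, 0, 0, 0, 0, 0, 0, 0, 0, 0, 0, 0, 0, 0, 0, 0, 0, 0, 0, 0, 0, 0, 0, 0, 0, 0],
    [0, 0, 0, 1, 0, 1, 1, 0, 1, 1, 1, 0, 0, 1, 1, 1, 0, 0, 0, 1, 0, 0, 0, 0, 0, 0, 0, 0, 0, 0, 0, 0, 0, 0, 0, 0, 0, 0, 1, 1, 1, 0, 0, 0, 1, 0, 0, 0, 0, 1, 1, 0, 0, 1, 0, 0, 0, 0, 0, 0, 0, 0, 0, 0, 0, 0, 0, 0, 0, 0, 0, 0, 0, 0, 0, 0, 0, 0, 0, 0, 0, 0, 0, 0, 0, 0, 0, 0, 0, 0, 0, 0, 0, 0, 0, 0, 0, 0, 0, 0, 0, 0, 0, 0, 0, 0, 0, 0, 0, 0, 0, 0, 0, 0, 0, 0, 0, 0],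
    [1, 1, 0, 1, 0, 0, 0, 0, 1, 0, 1, 0, 1, 0, 1, 1, 0, 0, 0, 0, 0, 0, 1, 1, 1, 1, 0, 1, 0, 0, 0, 0, 0, 0, 0, 0, 0, 0, 0, 0, 1, 1, 0, 0, 1, 1, 1, 1, 0, 0, 0, 1, 1, 0, 0, 0, 0, 0, 0, 1, 1, 0, 0, 1, 0, 0, 0, 0, 0, 0, 0, 0, 0, 0, 0, 0, 0, 0, 0, 0, 0, 0, 0, 0, 0, 0, 0, 0, 0, 0, 0, 0, 0, 0, 0, 0, 0, 0, 0, 0, 0, 0, 0, 0, 0, 0, 0, 0, 0, 0, 0, 0, 0, 0, 0, 0, 0, 0],
    [0, 0, 0, 1, 1, 0, 0, 0, 0, 0, 0, 0, 0, 0, 1, 0, 0, 0, 0, 0, 0, 1, 1, 0, 0, 1, 0, 0, 0, 0, 0, 0, 0, 0, 0, 0, 0, 0, 0, 0, 0, 0, 0, 0, 0, 0, 0, 0, 0, 0, 0, 0, 0, 0, 0, 1, 1, 1, 0, 0, 0, 1, 1, 0, 0, 0, 0, 0, 0, 0, 0, 0, 0, 0, 0, 0, 0, 0, 0, 0, 0, 0, 0, 0, 0, 0, 0, 0, 0, 0, 0, 0, 0, 0, 0, 0, 0, 0, 0, 0, 0, 0, 0, 0, 0, 0, 0, 0, 0, 0, 0, 0, 0, 0, 0, 0, 0, 0],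
    [0, 1, 0, 0, 1, 0, 0, 0, 0, 0, 0, 1, 1, 0, 0, 1, 1, 0, 0, 0, 0, 0, 0, 0, 0, 0, 0, 0, 0, 0, 0, 0, 0, 0, 0, 0, 0, 0, 0, 0, 0, 0, 0, 0, 0, 0, 0, 0, 0, 0, 0, 0, 0, 0, 0, 0, 0, 0, 0, 0, 0, 0, 0, 0, 0, 0, 1, 0, 0, 0, 0, 0, 0, 0, 0, 0, 0, 0, 0, 0, 0, 0, 0, 0, 0, 0, 0, 0, 0, 0, 0, 0, 0, 0, 0, 0, 0, 0, 0, 0, 0, 0, 0, 0, 0, 0, 0, 0, 0, 0, 0, 0, 0, 0, 0, 0, 0, 0],
    [0, 0, 0, 0, 0, 0, 0, 0, 0, 0, 0, 1, 1, 0, 0, 0, 0, 0, 0, 0, 0, 1, 1, 0, 0, 0, 0, 0, 0, 0, 0, 0, 0, 0, 0, 0, 0, 0, 0, 0, 0, 0, 0, 0, 0, 0, 0, 0, 0, 0, 0, 0, 0, 0, 0, 0, 0, 0, 0, 0, 0, 0, 0, 0, 0, 0, 1, 1, 0, 0, 0, 0, 0, 0, 0, 0, 0, 0, 0, 0, 0, 0, 0, 0, 0, 0, 0, 0, 0, 0, 0, 0, 0, 0, 0, 0, 0, 0, 0, 0, 0, 0, 0, 0, 0, 0, 0, 0, 0, 0, 0, 0, 0, 0, 0, 0, 0, 0],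
    [0, 0, 1, 0, 1, 1, 0, 0, 0, 0, 0, 0, 0, 0, 0, 0, 0, 0, 0, 0, 0, 0, 1, 1, 0, 0, 0, 0, 0, 0, 0, 0, 0, 0, 0, 0, 0, 0, 0, 0, 0, 0, 0, 0, 0, 0, 0, 0, 0, 0, 0, 0, 0, 0, 0, 0, 0, 0, 0, 0, 0, 0, 0, 0, 0, 0, 0, 0, 1, 0, 0, 0, 0, 0, 0, 0, 0, 0, 0, 0, 0, 0, 0, 0, 0, 0, 0, 0, 0, 0, 0, 0, 0, 0, 0, 0, 0, 0, 0, 0, 0, 0, 0, 0, 0, 0, 0, 0, 0, 0, 0, 0, 0, 0, 0, 0, 0, 0],
    [1, 0, 1, 0, 0, 0, 0, 1, 0, 0, 1, 1, 1, 1, 0, 0, 0, 0, 0, 0, 0, 0, 1, 0, 1, 1, 0, 0, 0, 0, 0, 0, 0, 0, 0, 0, 0, 1, 1, 0, 0, 0, 0, 0, 0, 0, 0, 0, 0, 0, 0, 0, 0, 0, 0, 0, 0, 0, 0, 0, 0, 0, 0, 0, 0, 0, 0, 0, 0, 1, 0, 0, 0, 0, 0, 0, 0, 0, 0, 0, 0, 0, 0, 0, 0, 0, 0, 0, 0, 0, 0, 0, 0, 0, 0, 0, 0, 0, 0, 0, 0, 0, 0, 0, 0, 0, 0, 0, 0, 0, 0, 0, 0, 0, 0, 0, 0, 0],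
    [0, 0, 1, 1, 0, 0, 1, 0, 1, 0, 0, 0, 0, 1, 0, 0, 0, 0, 0, 0, 0, 0, 0, 0, 0, 0, 0, 0, 0, 1, 0, 1, 1, 0, 0, 0, 1, 0, 1, 0, 0, 0, 0, 0, 0, 0, 0, 0, 0, 0, 0, 0, 0, 0, 0, 0, 0, 0, 0, 0, 0, 0, 0, 0, 0, 0, 1, 0, 0, 0, 1, 0, 0, 0, 0, 0, 0, 0, 0, 0, 0, 0, 0, 0, 0, 0, 0, 0, 0, 0, 0, 0, 0, 0, 0, 0, 0, 0, 0, 0, 0, 0, 0, 0, 0, 0, 0, 0, 0, 0, 0, 0, 0, 0, 0, 0, 0, 0],
    [0, 0, 0, 1, 0, 0, 0, 0, 1, 1, 1, 1, 1, 1, 1, 0, 0, 0, 0, 0, 0, 0, 0, 0, 0, 0, 0, 0, 0, 0, 0, 0, 0, 0, 0, 0, 0, 1, 0, 1, 1, 0, 0, 0, 0, 0, 0, 0, 0, 0, 0, 0, 0, 0, 0, 0, 0, 0, 0, 0, 0, 0, 0, 0, 0, 0, 1, 0, 0, 1, 0, 1, 0, 0, 0, 0, 0, 0, 0, 0, 0, 0, 0, 0, 0, 0, 0, 0, 0, 0, 0, 0, 0, 0, 0, 0, 0, 0, 0, 0, 0, 0, 0, 0, 0, 0, 0, 0, 0, 0, 0, 0, 0, 0, 0, 0, 0, 0],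
    [1, 1, 0, 1, 1, 1, 0, 0, 1, 0, 0, 0, 0, 0, 0, 0, 0, 0, 0, 0, 0, 1, 0, 1, 0, 0, 0, 0, 1, 1, 0, 1, 0, 0, 1, 0, 0, 0, 0, 0, 0, 0, 0, 0, 0, 1, 0, 1, 0, 0, 0, 0, 0, 0, 0, 0, 0, 0, 0, 0, 0, 0, 0, 0, 0, 0, 1, 1, 0, 1, 0, 0, 1, 0, 0, 0, 0, 0, 0, 0, 0, 0, 0, 0, 0, 0, 0, 0, 0, 0, 0, 0, 0, 0, 0, 0, 0, 0, 0, 0, 0, 0, 0, 0, 0, 0, 0, 0, 0, 0, 0, 0, 0, 0, 0, 0, 0, 0],
    [0, 1, 0, 1, 0, 0, 1, 1, 1, 1, 0, 1, 1, 1, 0, 1, 0, 1, 1, 1, 0, 0, 0, 1, 0, 1, 1, 0, 0, 0, 0, 0, 0, 0, 0, 0, 0, 1, 1, 1, 0, 0, 1, 0, 0, 1, 0, 1, 0, 0, 0, 0, 0, 0, 0, 1, 1, 0, 1, 0, 0, 1, 0, 0, 0, 0, 0, 0, 0, 0, 1, 1, 0, 0, 1, 0, 0, 0, 0, 0, 0, 0, 0, 0, 0, 0, 0, 0, 0, 0, 0, 0, 0, 0, 0, 0, 0, 0, 0, 0, 0, 0, 0, 0, 0, 0, 0, 0, 0, 0, 0, 0, 0, 0, 0, 0, 0, 0],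
    [1, 1, 0, 0, 0, 0, 0, 0, 0, 0, 0, 0, 0, 0, 0, 0, 0, 0, 0, 0, 0, 1, 0, 1, 0, 0, 0, 0, 0, 0, 0, 0, 0, 0, 0, 0, 0, 0, 0, 0, 0, 0, 0, 0, 0, 0, 0, 0, 0, 0, 0, 0, 0, 0, 0, 1, 0, 1, 0, 0, 0, 0, 0, 0, 0, 0, 1, 1, 1, 0, 0, 0, 1, 1, 0, 0, 0, 0, 0, 0, 0, 0, 0, 0, 0, 0, 0, 0, 0, 0, 0, 0, 0, 0, 0, 0, 0, 0, 0, 0, 0, 0, 0, 0, 0, 0, 0, 0, 0, 0, 0, 0, 0, 0, 0, 0, 0, 0],
    [0, 0, 0, 1, 0, 0, 1, 0, 0, 0, 0, 0, 0, 0, 0, 0, 0, 1, 1, 0, 0, 0, 0, 0, 0, 0, 0, 0, 0, 0, 0, 0, 0, 0, 0, 0, 0, 0, 0, 0, 0, 0, 0, 0, 0, 0, 0, 0, 0, 0, 0, 0, 0, 0, 0, 0, 0, 0, 0, 0, 0, 0, 0, 0, 0, 0, 0, 0, 0, 0, 0, 0, 0, 0, 0, 0, 0, 1, 0, 0, 0, 0, 0, 0, 0, 0, 0, 0, 0, 0, 0, 0, 0, 0, 0, 0, 0, 0, 0, 0, 0, 0, 0, 0, 0, 0, 0, 0, 0, 0, 0, 0, 0, 0, 0, 0, 0, 0],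
    [0, 0, 0, 0, 0, 0, 1, 1, 1, 0, 0, 0, 1, 0, 0, 0, 0, 0, 0, 0, 0, 0, 0, 1, 1, 0, 0, 0, 0, 0, 0, 0, 0, 0, 0, 0, 0, 0, 0, 0, 0, 0, 0, 0, 0, 0, 0, 0, 0, 0, 0, 0, 0, 0, 0, 0, 0, 0, 0, 0, 0, 0, 0, 0, 0, 0, 0, 0, 0, 0, 0, 0, 0, 0, 0, 0, 0, 1, 1, 0, 0, 0, 0, 0, 0, 0, 0, 0, 0, 0, 0, 0, 0, 0, 0, 0, 0, 0, 0, 0, 0, 0, 0, 0, 0, 0, 0, 0, 0, 0, 0, 0, 0, 0, 0, 0, 0, 0],
    [0, 0, 0, 0, 0, 1, 0, 0, 0, 0, 0, 0, 0, 0, 0, 0, 0, 0, 0, 0, 0, 0, 0, 1, 0, 0, 0, 0, 0, 0, 0, 0, 0, 0, 0, 0, 0, 0, 0, 0, 0, 0, 0, 0, 0, 0, 0, 0, 0, 0, 0, 0, 0, 0, 0, 0, 0, 0, 0, 0, 0, 0, 0, 0, 0, 0, 0, 0, 0, 0, 0, 0, 0, 0, 0, 0, 0, 0, 0, 1, 0, 0, 0, 0, 0, 0, 0, 0, 0, 0, 0, 0, 0, 0, 0, 0, 0, 0, 0, 0, 0, 0, 0, 0, 0, 0, 0, 0, 0, 0, 0, 0, 0, 0, 0, 0, 0, 0],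
    [0, 0, 0, 1, 0, 0, 1, 0, 1, 0, 0, 0, 0, 0, 0, 1, 0, 1, 1, 0, 0, 0, 0, 0, 0, 0, 1, 0, 0, 0, 0, 0, 0, 0, 0, 0, 0, 0, 1, 0, 0, 0, 0, 0, 0, 0, 0, 0, 0, 0, 0, 0, 0, 0, 0, 0, 0, 0, 0, 0, 0, 0, 0, 0, 0, 0, 0, 0, 0, 0, 0, 0, 0, 0, 0, 0, 0, 0, 0, 0, 1, 0, 0, 0, 0, 0, 0, 0, 0, 0, 0, 0, 0, 0, 0, 0, 0, 0, 0, 0, 0, 0, 0, 0, 0, 0, 0, 0, 0, 0, 0, 0, 0, 0, 0, 0, 0, 0],
    [0, 1, 0, 0, 0, 1, 1, 1, 0, 0, 1, 0, 1, 1, 0, 1, 0, 0, 0, 1, 0, 0, 1, 1, 0, 1, 1, 0, 0, 0, 0, 0, 0, 1, 0, 0, 1, 1, 0, 1, 0, 0, 1, 0, 0, 0, 0, 0, 0, 0, 0, 0, 0, 0, 0, 0, 0, 0, 0, 0, 0, 0, 0, 0, 0, 0, 0, 0, 0, 0, 0, 0, 0, 0, 0, 0, 0, 1, 0, 0, 0, 1, 0, 0, 0, 0, 0, 0, 0, 0, 0, 0, 0, 0, 0, 0, 0, 0, 0, 0, 0, 0, 0, 0, 0, 0, 0, 0, 0, 0, 0, 0, 0, 0, 0, 0, 0, 0],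
    [0, 0, 0, 0, 0, 0, 0, 0, 0, 0, 0, 0, 0, 0, 0, 0, 0, 0, 0, 0, 1, 0, 0, 0, 0, 0, 0, 0, 0, 0, 0, 0, 0, 0, 0, 0, 0, 0, 0, 0, 0, 1, 0, 0, 0, 0, 0, 0, 0, 0, 0, 0, 0, 0, 0, 0, 0, 0, 0, 0, 0, 0, 0, 0, 0, 0, 0, 0, 0, 0, 0, 0, 0, 0, 0, 0, 0, 1, 0, 0, 1, 0, 1, 0, 0, 0, 0, 0, 0, 0, 0, 0, 0, 0, 0, 0, 0, 0, 0, 0, 0, 0, 0, 0, 0, 0, 0, 0, 0, 0, 0, 0, 0, 0, 0, 0, 0, 0],
    [0, 0, 0, 0, 0, 0, 0, 0, 0, 0, 0, 0, 0, 0, 0, 0, 0, 0, 0, 0, 0, 0, 0, 0, 0, 0, 0, 0, 0, 0, 0, 0, 0, 0, 0, 0, 0, 0, 0, 0, 0, 0, 0, 0, 0, 1, 1, 0, 1, 0, 0, 1, 0, 0, 0, 0, 0, 0, 0, 0, 0, 0, 0, 0, 0, 0, 0, 0, 0, 0, 0, 0, 0, 0, 0, 0, 0, 1, 1, 0, 1, 0, 0, 1, 0, 0, 0, 0, 0, 0, 0, 0, 0, 0, 0, 0, 0, 0, 0, 0, 0, 0, 0, 0, 0, 0, 0, 0, 0, 0, 0, 0, 0, 0, 0, 0, 0, 0],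
    [1, 0, 0, 1, 0, 1, 1, 0, 1, 1, 0, 0, 0, 0, 0, 0, 0, 0, 0, 0, 1, 0, 0, 0, 0, 0, 0, 0, 0, 0, 0, 0, 0, 0, 0, 0, 0, 0, 0, 0, 0, 0, 0, 0, 0, 0, 0, 1, 1, 1, 0, 0, 0, 1, 0, 0, 0, 0, 0, 0, 0, 0, 0, 0, 0, 0, 0, 0, 0, 0, 0, 0, 0, 0, 0, 0, 0, 0, 0, 0, 0, 1, 1, 0, 0, 1, 0, 0, 0, 0, 0, 0, 0, 0, 0, 0, 0, 0, 0, 0, 0, 0, 0, 0, 0, 0, 0, 0, 0, 0, 0, 0, 0, 0, 0, 0, 0, 0],
    [1, 0, 1, 0, 1, 0, 1, 1, 1, 0, 0, 1, 0, 1, 1, 1, 0, 0, 0, 0, 1, 1, 0, 1, 0, 0, 1, 0, 0, 0, 0, 0, 0, 0, 0, 0, 0, 1, 1, 0, 1, 1, 1, 0, 1, 0, 0, 0, 0, 0, 0, 0, 0, 0, 0, 0, 0, 1, 1, 1, 0, 0, 0, 1, 0, 0, 0, 0, 0, 0, 0, 0, 0, 0, 0, 0, 0, 1, 1, 1, 0, 0, 0, 1, 1, 0, 0, 0, 0, 0, 0, 0, 0, 0, 0, 0, 0, 0, 0, 0, 0, 0, 0, 0, 0, 0, 0, 0, 0, 0, 0, 0, 0, 0, 0, 0, 0, 0],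
    [0, 1, 0, 1, 0, 0, 0, 0, 0, 0, 1, 1, 1, 0, 0, 0, 0, 0, 0, 0, 0, 0, 0, 0, 0, 0, 0, 0, 0, 0, 0, 0, 0, 0, 0, 0, 0, 0, 0, 0, 0, 0, 0, 0, 0, 0, 0, 0, 0, 0, 0, 0, 0, 0, 0, 0, 0, 0, 0, 0, 0, 0, 0, 0, 0, 0, 0, 0, 0, 0, 0, 0, 0, 0, 0, 0, 0, 0, 0, 0, 0, 0, 0, 0, 0, 0, 0, 0, 1, 0, 0, 0, 0, 0, 0, 0, 0, 0, 0, 0, 0, 0, 0, 0, 0, 0, 0, 0, 0, 0, 0, 0, 0, 0, 0, 0, 0, 0],
    [0, 0, 0, 1, 1, 0, 0, 0, 0, 0, 1, 1, 1, 0, 0, 0, 0, 0, 0, 0, 0, 0, 0, 0, 0, 0, 0, 0, 0, 0, 0, 0, 0, 0, 0, 0, 0, 0, 0, 0, 0, 0, 0, 0, 0, 0, 0, 0, 0, 0, 0, 0, 0, 0, 0, 0, 0, 0, 0, 0, 0, 0, 0, 0, 0, 0, 0, 0, 0, 0, 0, 0, 0, 0, 0, 0, 0, 0, 0, 0, 0, 0, 0, 0, 0, 0, 0, 0, 1, 1, 0, 0, 0, 0, 0, 0, 0, 0, 0, 0, 0, 0, 0, 0, 0, 0, 0, 0, 0, 0, 0, 0, 0, 0, 0, 0, 0, 0],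
    [1, 1, 1, 1, 1, 1, 0, 0, 0, 0, 0, 0, 0, 0, 0, 0, 0, 0, 0, 0, 0, 1, 1, 1, 0, 0, 0, 0, 0, 0, 0, 0, 0, 0, 0, 0, 0, 0, 0, 0, 0, 0, 0, 0, 0, 0, 0, 0, 0, 0, 0, 0, 0, 0, 0, 0, 0, 0, 0, 0, 0, 0, 0, 0, 0, 0, 0, 0, 0, 0, 0, 0, 0, 0, 0, 0, 0, 0, 0, 0, 0, 0, 0, 0, 0, 0, 0, 0, 0, 0, 1, 0, 0, 0, 0, 0, 0, 0, 0, 0, 0, 0, 0, 0, 0, 0, 0, 0, 0, 0, 0, 0, 0, 0, 0, 0, 0, 0],
    [0, 0, 1, 0, 1, 0, 1, 0, 1, 0, 0, 1, 1, 1, 0, 0, 0, 0, 0, 0, 0, 1, 0, 0, 0, 1, 0, 0, 0, 0, 0, 0, 0, 0, 0, 0, 1, 1, 1, 0, 0, 0, 0, 0, 0, 0, 0, 0, 0, 0, 0, 0, 0, 0, 0, 0, 0, 0, 0, 0, 0, 0, 0, 0, 0, 0, 0, 0, 0, 0, 0, 0, 0, 0, 0, 0, 0, 0, 0, 0, 0, 0, 0, 0, 0, 0, 0, 0, 0, 0, 0, 1, 0, 0, 0, 0, 0, 0, 0, 0, 0, 0, 0, 0, 0, 0, 0, 0, 0, 0, 0, 0, 0, 0, 0, 0, 0, 0],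
    [0, 0, 0, 0, 0, 0, 0, 0, 0, 0, 0, 0, 0, 0, 0, 0, 0, 0, 0, 0, 0, 0, 0, 0, 0, 0, 0, 0, 1, 0, 0, 0, 1, 0, 0, 0, 0, 0, 0, 0, 0, 0, 0, 0, 0, 0, 0, 0, 0, 0, 0, 0, 0, 0, 0, 0, 0, 0, 0, 0, 0, 0, 0, 0, 0, 0, 0, 0, 0, 0, 0, 0, 0, 0, 0, 0, 0, 0, 0, 0, 0, 0, 0, 0, 0, 0, 0, 0, 1, 0, 0, 0, 1, 0, 0, 0, 0, 0, 0, 0, 0, 0, 0, 0, 0, 0, 0, 0, 0, 0, 0, 0, 0, 0, 0, 0, 0, 0],
    [1, 1, 1, 1, 0, 0, 1, 1, 1, 0, 0, 0, 1, 0, 1, 0, 0, 0, 0, 0, 0, 0, 0, 0, 0, 0, 0, 0, 0, 0, 0, 0, 0, 0, 0, 0, 1, 0, 0, 0, 1, 0, 0, 0, 0, 0, 0, 0, 0, 0, 0, 0, 0, 0, 0, 0, 0, 0, 0, 0, 0, 0, 0, 0, 0, 0, 0, 0, 0, 0, 0, 0, 0, 0, 0, 0, 0, 0, 0, 0, 0, 0, 0, 0, 0, 0, 0, 0, 1, 0, 0, 1, 0, 1, 0, 0, 0, 0, 0, 0, 0, 0, 0, 0, 0, 0, 0, 0, 0, 0, 0, 0, 0, 0, 0, 0, 0, 0],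
    [1, 1, 0, 0, 0, 1, 0, 0, 0, 0, 0, 0, 0, 0, 0, 0, 0, 0, 0, 0, 0, 0, 0, 0, 0, 0, 0, 0, 0, 1, 1, 1, 0, 0, 1, 0, 0, 0, 0, 0, 0, 0, 0, 0, 0, 0, 0, 0, 0, 0, 0, 0, 0, 0, 0, 0, 0, 0, 0, 0, 0, 0, 0, 0, 0, 0, 0, 0, 0, 0, 0, 0, 0, 0, 0, 0, 0, 0, 0, 0, 0, 0, 0, 0, 0, 0, 0, 0, 1, 1, 0, 1, 0, 0, 1, 0, 0, 0, 0, 0, 0, 0, 0, 0, 0, 0, 0, 0, 0, 0, 0, 0, 0, 0, 0, 0, 0, 0],
    [1, 1, 1, 1, 0, 1, 0, 1, 1, 1, 0, 1, 1, 1, 0, 0, 1, 1, 1, 0, 0, 0, 1, 0, 1, 0, 1, 0, 0, 0, 0, 0, 0, 0, 0, 0, 0, 0, 0, 0, 1, 0, 1, 0, 0, 1, 1, 0, 0, 1, 0, 0, 0, 0, 0, 0, 1, 1, 1, 0, 0, 1, 0, 0, 0, 0, 0, 0, 0, 0, 0, 0, 0, 0, 0, 0, 0, 0, 0, 0, 0, 0, 0, 0, 0, 0, 0, 0, 0, 0, 0, 0, 1, 1, 0, 0, 1, 0, 0, 0, 0, 0, 0, 0, 0, 0, 0, 0, 0, 0, 0, 0, 0, 0, 0, 0, 0, 0],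
    [1, 1, 1, 0, 0, 0, 0, 0, 0, 0, 0, 0, 1, 0, 1, 0, 0, 0, 0, 0, 0, 0, 0, 0, 0, 0, 0, 0, 0, 0, 0, 0, 0, 0, 0, 0, 0, 0, 0, 0, 0, 0, 0, 0, 0, 0, 0, 0, 0, 0, 0, 0, 0, 0, 0, 1, 1, 0, 0, 1, 0, 0, 0, 0, 0, 0, 0, 0, 0, 0, 0, 0, 0, 0, 0, 0, 0, 0, 0, 0, 0, 0, 0, 0, 0, 0, 0, 0, 1, 1, 1, 0, 0, 0, 1, 1, 0, 0, 0, 0, 0, 0, 0, 0, 0, 0, 0, 0, 0, 0, 0, 0, 0, 0, 0, 0, 0, 0],
    [0, 0, 0, 0, 1, 0, 0, 0, 0, 0, 0, 0, 0, 0, 0, 0, 0, 0, 0, 0, 0, 0, 0, 0, 0, 0, 0, 0, 0, 0, 1, 0, 1, 0, 0, 0, 0, 0, 0, 0, 0, 0, 0, 0, 0, 0, 0, 0, 0, 0, 0, 0, 0, 0, 0, 0, 0, 0, 0, 0, 0, 0, 0, 0, 0, 0, 0, 0, 0, 0, 0, 0, 0, 0, 0, 0, 0, 0, 0, 0, 0, 0, 0, 0, 0, 0, 0, 0, 0, 0, 0, 0, 0, 0, 0, 0, 0, 0, 0, 1, 0, 0, 0, 0, 0, 0, 0, 0, 0, 0, 0, 0, 0, 0, 0, 0, 0, 0],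
    [0, 0, 1, 0, 0, 0, 1, 1, 0, 0, 1, 1, 0, 1, 0, 0, 0, 0, 0, 1, 0, 0, 0, 0, 0, 1, 0, 0, 0, 0, 0, 0, 1, 0, 0, 0, 0, 0, 0, 0, 0, 0, 0, 0, 0, 0, 0, 0, 0, 0, 0, 0, 0, 0, 0, 0, 0, 0, 0, 0, 0, 0, 0, 0, 0, 0, 0, 0, 0, 0, 0, 0, 0, 0, 0, 0, 0, 0, 0, 0, 0, 0, 0, 0, 0, 0, 0, 0, 0, 0, 0, 0, 0, 0, 0, 0, 0, 0, 0, 1, 1, 0, 0, 0, 0, 0, 0, 0, 0, 0, 0, 0, 0, 0, 0, 0, 0, 0],
    [0, 1, 0, 1, 0, 0, 1, 1, 1, 0, 0, 0, 0, 0, 0, 0, 0, 0, 0, 0, 0, 0, 0, 0, 0, 0, 0, 0, 1, 1, 0, 1, 0, 1, 1, 0, 0, 0, 0, 0, 0, 0, 0, 0, 0, 0, 0, 0, 0, 0, 0, 0, 0, 0, 0, 0, 0, 0, 0, 0, 0, 0, 0, 0, 0, 0, 0, 0, 0, 0, 0, 0, 0, 0, 0, 0, 0, 0, 0, 0, 0, 0, 0, 0, 0, 0, 0, 0, 0, 0, 0, 0, 0, 0, 0, 0, 0, 0, 0, 0, 1, 1, 0, 0, 0, 0, 0, 0, 0, 0, 0, 0, 0, 0, 0, 0, 0, 0],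
    [0, 1, 0, 0, 0, 1, 0, 0, 0, 1, 0, 0, 0, 0, 0, 0, 0, 0, 0, 0, 1, 0, 1, 1, 1, 0, 0, 1, 1, 1, 0, 1, 0, 0, 1, 1, 0, 0, 0, 0, 0, 0, 0, 0, 0, 0, 0, 0, 0, 0, 0, 0, 0, 0, 0, 0, 0, 0, 0, 0, 0, 0, 0, 0, 0, 0, 0, 0, 0, 0, 0, 0, 0, 0, 0, 0, 0, 0, 0, 0, 0, 0, 0, 0, 0, 0, 0, 0, 0, 0, 0, 0, 0, 0, 0, 0, 0, 0, 0, 0, 0, 0, 0, 0, 0, 0, 0, 0, 0, 0, 0, 0, 0, 0, 0, 0, 0, 0],
    [0, 0, 1, 0, 1, 1, 0, 0, 0, 0, 0, 0, 0, 0, 0, 0, 0, 0, 0, 0, 0, 0, 0, 0, 0, 0, 0, 0, 0, 0, 0, 0, 0, 0, 0, 0, 0, 0, 0, 0, 0, 0, 0, 0, 0, 0, 0, 0, 0, 0, 0, 0, 0, 0, 0, 0, 0, 0, 0, 0, 0, 0, 0, 0, 0, 0, 0, 0, 0, 0, 0, 0, 0, 0, 0, 0, 0, 0, 0, 0, 0, 0, 0, 0, 0, 0, 0, 0, 0, 0, 0, 0, 0, 0, 0, 0, 0, 0, 0, 1, 0, 1, 0, 0, 0, 0, 0, 0, 0, 0, 0, 0, 0, 0, 0, 0, 0, 0],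
    [0, 1, 1, 0, 0, 0, 0, 0, 0, 0, 0, 1, 0, 0, 0, 0, 0, 0, 0, 0, 0, 0, 0, 0, 0, 0, 0, 0, 1, 1, 0, 0, 1, 0, 0, 0, 0, 0, 0, 0, 0, 0, 0, 1, 0, 0, 0, 0, 0, 0, 0, 0, 0, 0, 0, 0, 0, 0, 0, 0, 0, 0, 1, 0, 0, 0, 0, 0, 0, 0, 0, 0, 0, 0, 0, 0, 0, 0, 0, 0, 0, 0, 0, 0, 0, 0, 0, 0, 0, 0, 0, 0, 0, 0, 0, 0, 0, 0, 0, 1, 1, 0, 1, 0, 0, 0, 0, 0, 0, 0, 0, 0, 0, 0, 0, 0, 0, 0],
    [1, 1, 1, 1, 1, 1, 1, 0, 0, 0, 1, 0, 1, 1, 1, 0, 0, 0, 0, 0, 0, 1, 1, 0, 0, 1, 0, 0, 0, 0, 0, 0, 1, 0, 1, 0, 1, 1, 0, 1, 0, 0, 1, 1, 0, 0, 0, 0, 0, 0, 0, 0, 0, 0, 0, 0, 0, 0, 0, 0, 1, 0, 0, 0, 0, 0, 0, 0, 0, 0, 0, 0, 0, 0, 0, 0, 0, 0, 0, 0, 0, 0, 0, 0, 0, 0, 0, 0, 0, 0, 0, 0, 0, 0, 0, 0, 0, 0, 0, 1, 1, 1, 1, 0, 1, 0, 0, 0, 0, 0, 0, 0, 0, 0, 0, 0, 0, 0],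
    [1, 0, 1, 1, 1, 0, 1, 1, 0, 1, 1, 0, 1, 1, 1, 0, 0, 0, 0, 0, 0, 0, 0, 0, 0, 0, 0, 0, 1, 1, 0, 0, 1, 0, 0, 1, 0, 1, 0, 0, 0, 0, 0, 1, 1, 0, 0, 0, 0, 0, 0, 0, 0, 0, 0, 0, 0, 0, 0, 0, 0, 0, 0, 0, 0, 1, 0, 0, 0, 0, 0, 0, 0, 0, 0, 0, 0, 0, 0, 0, 0, 0, 0, 0, 0, 0, 0, 0, 0, 0, 0, 0, 0, 0, 0, 0, 0, 0, 0, 0, 0, 0, 1, 0, 1, 1, 0, 0, 0, 0, 0, 0, 0, 0, 0, 0, 0, 0],
    [0, 1, 1, 0, 1, 1, 0, 1, 0, 1, 1, 0, 0, 0, 1, 1, 1, 0, 0, 0, 1, 1, 0, 1, 1, 0, 0, 1, 0, 1, 1, 1, 1, 1, 0, 0, 0, 1, 0, 1, 0, 0, 0, 1, 0, 0, 0, 0, 0, 0, 0, 0, 0, 0, 0, 0, 1, 1, 1, 1, 0, 0, 1, 0, 0, 0, 0, 0, 0, 0, 0, 0, 0, 0, 0, 0, 0, 0, 0, 0, 0, 0, 0, 0, 0, 0, 0, 0, 0, 0, 0, 0, 0, 0, 0, 0, 0, 0, 0, 1, 0, 0, 0, 1, 0, 1, 1, 0, 0, 0, 0, 0, 0, 0, 0, 0, 0, 0],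
    [0, 1, 0, 1, 1, 0, 0, 0, 1, 0, 1, 1, 0, 1, 1, 0, 0, 0, 1, 1, 1, 1, 0, 1, 0, 0, 1, 1, 0, 0, 1, 0, 1, 0, 0, 0, 0, 1, 0, 0, 1, 1, 1, 0, 0, 0, 0, 0, 0, 0, 0, 0, 0, 0, 0, 1, 1, 1, 1, 0, 1, 1, 0, 0, 0, 0, 0, 0, 0, 0, 0, 0, 0, 0, 0, 0, 0, 0, 0, 0, 0, 0, 0, 0, 0, 0, 0, 0, 0, 0, 0, 0, 0, 0, 0, 0, 0, 0, 0, 1, 0, 0, 1, 1, 1, 0, 0, 0, 0, 0, 0, 0, 0, 0, 0, 0, 0, 0],
    [1, 1, 0, 0, 0, 0, 1, 1, 0, 1, 0, 0, 0, 0, 0, 1, 1, 0, 1, 0, 1, 0, 0, 0, 0, 0, 0, 0, 0, 0, 0, 0, 0, 0, 0, 0, 0, 0, 0, 0, 0, 0, 0, 0, 0, 0, 0, 0, 0, 0, 0, 0, 0, 0, 0, 0, 0, 0, 0, 0, 0, 0, 0, 0, 0, 0, 0, 0, 0, 0, 0, 0, 0, 0, 0, 0, 0, 0, 0, 0, 0, 0, 0, 0, 0, 0, 0, 0, 0, 0, 0, 0, 0, 0, 0, 0, 0, 0, 0, 0, 0, 0, 0, 0, 0, 0, 0, 0, 0, 0, 0, 0, 0, 0, 0, 0, 0, 0],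
    [0, 0, 0, 0, 0, 0, 0, 0, 0, 0, 0, 0, 0, 0, 0, 0, 0, 0, 0, 0, 0, 0, 0, 0, 0, 0, 0, 0, 0, 0, 0, 0, 0, 0, 0, 0, 0, 0, 0, 0, 0, 0, 0, 0, 0, 1, 0, 0, 1, 0, 1, 0, 0, 0, 0, 0, 0, 0, 0, 0, 0, 0, 0, 0, 0, 0, 0, 0, 0, 0, 0, 0, 0, 0, 0, 0, 0, 0, 0, 0, 0, 0, 0, 0, 0, 0, 0, 0, 0, 0, 0, 0, 0, 0, 0, 0, 0, 0, 0, 0, 0, 0, 0, 0, 0, 0, 0, 0, 0, 1, 0, 0, 0, 0, 0, 0, 0, 0],
    [1, 0, 0, 0, 1, 0, 0, 0, 1, 1, 0, 0, 0, 0, 0, 1, 0, 1, 1, 1, 1, 0, 0, 0, 0, 0, 0, 0, 0, 0, 0, 0, 0, 0, 0, 0, 0, 0, 0, 0, 0, 0, 0, 0, 0, 0, 1, 1, 1, 0, 1, 0, 0, 1, 0, 0, 0, 0, 0, 0, 0, 0, 0, 0, 0, 0, 0, 0, 0, 0, 0, 0, 0, 0, 0, 0, 0, 0, 0, 0, 0, 0, 0, 0, 0, 0, 0, 0, 0, 0, 0, 0, 0, 0, 0, 0, 0, 0, 0, 0, 0, 0, 0, 0, 0, 0, 0, 0, 0, 1, 1, 1, 1, 1, 0, 0, 0, 0],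
    [1, 1, 1, 1, 1, 0, 1, 1, 0, 0, 1, 1, 1, 0, 0, 1, 1, 1, 1, 1, 0, 0, 0, 0, 0, 0, 0, 0, 0, 0, 0, 0, 0, 0, 0, 0, 1, 1, 0, 0, 1, 0, 0, 0, 1, 0, 1, 1, 1, 1, 1, 0, 0, 1, 1, 0, 0, 0, 0, 0, 0, 0, 0, 0, 0, 0, 0, 0, 0, 0, 0, 0, 0, 0, 0, 0, 0, 0, 0, 0, 0, 0, 0, 0, 0, 0, 0, 0, 0, 0, 0, 0, 0, 0, 0, 0, 0, 0, 0, 0, 0, 0, 0, 0, 0, 0, 0, 0, 0, 0, 0, 0, 0, 0, 0, 0, 0, 0],
    [0, 1, 0, 0, 1, 0, 1, 1, 1, 1, 0, 0, 0, 0, 0, 0, 1, 0, 0, 0, 1, 0, 0, 0, 0, 0, 1, 0, 0, 0, 0, 0, 0, 0, 0, 0, 0, 0, 0, 0, 0, 0, 0, 0, 0, 0, 1, 0, 0, 0, 1, 0, 0, 1, 0, 0, 0, 0, 0, 0, 0, 0, 0, 0, 0, 0, 0, 0, 0, 0, 0, 0, 0, 0, 0, 0, 0, 0, 0, 0, 0, 0, 0, 0, 0, 0, 0, 0, 0, 0, 0, 0, 0, 0, 0, 0, 0, 0, 0, 0, 0, 0, 0, 0, 0, 0, 0, 0, 0, 0, 1, 0, 1, 1, 0, 0, 0, 0],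
    [1, 0, 0, 1, 1, 0, 0, 1, 1, 1, 1, 1, 1, 1, 0, 0, 0, 0, 0, 1, 0, 0, 1, 0, 1, 0, 1, 0, 0, 0, 0, 0, 0, 0, 0, 0, 1, 1, 0, 1, 1, 0, 1, 0, 0, 0, 1, 0, 0, 0, 0, 1, 0, 0, 0, 0, 0, 0, 0, 0, 0, 0, 0, 0, 0, 0, 0, 0, 0, 0, 0, 0, 0, 0, 0, 0, 0, 0, 0, 0, 0, 0, 0, 0, 0, 0, 0, 0, 0, 0, 0, 0, 0, 0, 0, 0, 0, 0, 0, 0, 0, 0, 0, 0, 0, 0, 0, 0, 0, 1, 1, 1, 0, 1, 0, 0, 0, 0],
    [0, 0, 0, 0, 0, 0, 0, 0, 0, 0, 0, 0, 0, 0, 0, 0, 0, 0, 0, 0, 0, 0, 0, 0, 0, 0, 0, 0, 0, 0, 0, 0, 0, 0, 0, 0, 0, 0, 0, 0, 0, 0, 0, 0, 0, 0, 0, 0, 0, 0, 0, 0, 0, 0, 0, 0, 0, 0, 0, 0, 0, 0, 0, 0, 0, 0, 0, 0, 0, 0, 0, 0, 0, 0, 0, 0, 0, 0, 0, 0, 0, 0, 0, 0, 0, 0, 0, 0, 0, 0, 0, 0, 0, 0, 0, 0, 0, 0, 0, 0, 0, 0, 0, 0, 0, 0, 0, 0, 0, 0, 1, 0, 0, 0, 0, 0, 0, 0]]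

/-- The certificate at 2. -/
def cert2 : SchurPath.Cert where
  m := 11
  rels := [([0, 0], []), ([1, 0], [0, 1]), ([1, 1], []), ([2, 0], [0, 2]), ([2, 1], [1, 2]), ([2, 2], []),
    ([3, 0], [0, 3]), ([3, 1], [1, 3]), ([3, 2], [2, 3]), ([3, 3], []), ([4, 0], [0, 4]), ([4, 1], [1, 4]),
    ([4, 2], [2, 4]), ([4, 3], [3, 4]), ([4, 4], []), ([5, 0], [0, 5]), ([5, 1], [1, 5]), ([5, 2], [2, 5]),
    ([5, 3], [3, 5]), ([5, 4], [0, 4, 5]), ([5, 5], []), ([6, 0], [0, 6]), ([6, 1], [1, 6]), ([6, 2], [2, 6]),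
    ([6, 3], [0, 3, 6]), ([6, 4], [0, 1, 4, 6]), ([6, 5], [0, 5, 6]), ([6, 6], [2]), ([7, 0], [0, 7]),
    ([7, 1], [1, 7]), ([7, 2], [2, 7]), ([7, 3], [1, 3, 7]), ([7, 4], [4, 7]), ([7, 5], [0, 1, 2, 5, 7]),
    ([7, 6], [0, 1, 2, 6, 7]), ([7, 7], []), ([8, 0], [0, 8]), ([8, 1], [1, 8]), ([8, 2], [0, 2, 8]),
    ([8, 3], [3, 8]), ([8, 4], [0, 2, 4, 8]), ([8, 5], [5, 8]), ([8, 6], [3, 6, 8]), ([8, 7], [0, 4, 7, 8]),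
    ([8, 8], [0, 3, 5]), ([9, 0], [0, 9]), ([9, 1], [0, 1, 9]), ([9, 2], [2, 9]), ([9, 3], [3, 9]),
    ([9, 4], [2, 3, 4, 9]), ([9, 5], [5, 9]), ([9, 6], [2, 6, 9]), ([9, 7], [0, 1, 3, 6, 7, 9]),
    ([9, 8], [5, 8, 9]), ([9, 9], []), ([10, 0], [0, 10]), ([10, 1], [1, 10]), ([10, 2], [0, 1, 2, 10]),
    ([10, 3], [1, 2, 3, 10]), ([10, 4], [0, 1, 2, 4, 10]), ([10, 5], [0, 1, 3, 5, 10]), ([10, 6], [0, 1, 4, 6, 10]),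
    ([10, 7], [0, 1, 4, 7, 10]), ([10, 8], [3, 5, 6, 8, 10]), ([10, 9], [4, 5, 8, 9, 10]),
    ([10, 10], [0, 1, 2, 6, 7]), ([11, 0], [0, 11]), ([11, 1], [1, 11]), ([11, 2], [2, 11]),
    ([11, 3], [0, 1, 3, 11]), ([11, 4], [0, 1, 4, 11]), ([11, 5], [1, 2, 5, 11]), ([11, 6], [1, 2, 6, 11]),
    ([11, 7], [0, 2, 7, 11]), ([11, 8], [1, 3, 4, 8, 11]), ([11, 9], [0, 1, 3, 6, 9, 11]),
    ([11, 10], [0, 2, 10, 11]), ([12, 0], [0, 12]), ([12, 1], [0, 1, 12]), ([12, 2], [2, 12]), ([12, 3], [3, 12]),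
    ([12, 4], [2, 3, 4, 12]), ([12, 5], [5, 12]), ([12, 6], [2, 6, 12]), ([12, 7], [0, 1, 3, 6, 7, 12]),
    ([12, 8], [5, 8, 12]), ([12, 9], [9, 12]), ([12, 10], [2, 3, 4, 8, 10, 12]), ([13, 0], [0, 13]),
    ([13, 1], [1, 13]), ([13, 2], [2, 13]), ([13, 3], [1, 3, 13]), ([13, 4], [4, 13]), ([13, 5], [0, 1, 2, 5, 13]),
    ([13, 6], [0, 1, 2, 6, 13]), ([13, 7], [7, 13]), ([13, 8], [0, 4, 8, 13]), ([13, 9], [1, 2, 3, 6, 9, 13]),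
    ([13, 10], [0, 1, 4, 10, 13]), ([14, 1], [1, 14]), ([14, 0], [0, 1, 14]), ([14, 2], [2, 14]),
    ([14, 4], [4, 14]), ([14, 7], [7, 14]), ([14, 2, 3, 4], [3, 14]), ([14, 0, 1, 3, 6, 7], [5, 14]),
    ([14, 5], [0, 1, 3, 6, 7, 14]), ([14, 10], [1, 7, 8, 14]), ([14, 2, 3, 4, 8, 10], [0, 1, 4, 5, 6, 8, 10, 14]),
    ([15, 0], [0, 15]), ([15, 5], [5, 15]), ([15, 3], [3, 15]), ([15, 1], [0, 1, 3, 5, 15]),
    ([15, 0, 1, 2, 5], [1, 2, 3, 5, 15]), ([15, 9], [9, 15]), ([15, 4], [1, 2, 3, 4, 5, 8, 9, 15]),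
    ([15, 1, 2, 3, 6, 9], [2, 3, 5, 6, 8, 9, 15]), ([15, 8], [8, 15])]
  paths := paths2
  rows := rows2
  mu := [[0, 0, 0, 0, 0, 0, 0, 0, 0, 0, 0, 0, 0, 0, 0, 0, 0, 0, 0, 1],
    [0, 0, 0, 0, 0, 0, 0, 0, 0, 0, 0, 0, 0, 0, 0, 0, 0, 0, 0, 1, 0, 0, 0, 0, 0, 1],
    [0, 0, 0, 0, 0, 0, 0, 0, 0, 0, 0, 0, 0, 0, 0, 0, 0, 0, 0, 0, 0, 0, 0, 0, 0, 0, 0, 1],
    [0, 0, 0, 0, 0, 0, 0, 0, 0, 0, 0, 0, 0, 0, 0, 0, 0, 0, 0, 0, 0, 0, 0, 0, 0, 0, 0, 0, 0, 0, 0, 0, 0, 0, 0, 0, 0, 0, 0, 0, 0, 0, 1],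
    [0, 0, 0, 0, 0, 0, 0, 0, 0, 0, 0, 0, 0, 0, 0, 0, 0, 0, 0, 1, 0, 0, 0, 0, 0, 0, 0, 0, 0, 0, 0, 0, 0, 0, 0, 0, 0, 0, 0, 0, 0, 0, 0, 1],
    [0, 0, 0, 0, 0, 0, 0, 0, 0, 0, 0, 0, 0, 0, 0, 0, 0, 0, 0, 1, 0, 0, 0, 0, 0, 0, 0, 0, 0, 0, 0, 0, 0, 0, 0, 0, 0, 0, 0, 0, 0, 0, 1, 0, 1],
    [0, 0, 0, 0, 0, 0, 0, 0, 0, 0, 0, 0, 0, 0, 0, 0, 0, 0, 0, 0, 0, 0, 0, 0, 0, 1, 0, 0, 0, 0, 0, 0, 0, 0, 0, 0, 0, 0, 0, 0, 0, 0, 1, 0, 0, 0, 0, 0, 0, 0, 0, 0, 1],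
    [0, 0, 0, 0, 0, 0, 0, 0, 0, 0, 0, 0, 0, 0, 0, 0, 0, 0, 0, 0, 0, 0, 0, 0, 0, 0, 0, 1, 0, 0, 0, 0, 0, 0, 0, 0, 0, 0, 0, 0, 0, 0, 1, 0, 0, 0, 0, 0, 0, 0, 0, 0, 1, 0, 0, 0, 0, 0, 0, 0, 0, 0, 0, 0, 0, 1],
    [0, 0, 0, 0, 0, 0, 0, 0, 0, 0, 0, 0, 0, 0, 0, 0, 0, 0, 0, 0, 0, 0, 0, 0, 0, 0, 0, 0, 0, 0, 0, 0, 0, 0, 0, 0, 0, 0, 0, 0, 0, 0, 1, 1, 1, 0, 0, 0, 0, 0, 0, 0, 0, 0, 0, 0, 0, 0, 0, 0, 0, 0, 0, 0, 1],
    [],
    []]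
  comb := [[0, 0, 1, 0, 0, 1],
    [1],
    [1, 0, 0, 1, 0, 1, 0, 1, 0, 0, 0, 0, 0, 0, 1],
    [0, 1],
    [0, 1, 0, 0, 0, 0, 1],
    [0, 0, 1, 0, 0, 0, 1, 1, 0, 1, 0, 0, 1, 0, 1, 0, 1],
    [0, 0, 1],
    [1, 0, 0, 1, 0, 1, 0, 1],
    [0, 0, 1, 0, 0, 0, 0, 0, 0, 0, 0, 0, 0, 0, 0, 0, 0, 0, 0, 1],
    [1, 1, 0, 1, 1, 0, 0, 0, 0, 1, 0, 0, 1, 0, 1, 0, 0, 0, 0, 0, 0, 1, 0, 1, 0, 0, 0, 0, 0, 0, 0, 0, 0, 0, 0, 0, 0, 0, 0, 0, 0, 0, 1],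
    [0, 0, 1, 1, 0, 1],
    [0, 0, 0, 0, 0, 1, 0, 1, 1, 0, 0, 0, 0, 0, 1],
    [0, 1, 1, 1, 0, 0, 1, 1, 0, 1, 0, 0, 1, 0, 1, 0, 1, 0, 0, 0, 1],
    [1, 0, 1, 0, 1, 0, 0, 0, 0, 1, 0, 0, 1, 0, 1, 0, 0, 0, 0, 1, 1, 1, 0, 1, 0, 0, 0, 0, 0, 0, 0, 1, 0, 0, 0, 0, 0, 0, 0, 0, 0, 0, 1],
    [1, 1, 1, 1, 1, 1, 1, 0, 0, 0, 0, 0, 1, 1, 0, 0, 1, 1, 0, 0, 1, 0, 0, 0, 0, 1, 1, 0, 0, 0, 0, 0, 0, 0, 0, 0, 0, 0, 0, 0, 0, 0, 0, 1, 1, 1],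
    [0, 0, 1, 0, 1, 1],
    [0, 0, 0, 1, 1, 1, 0, 0, 0, 1, 1, 0, 0, 0, 0, 0, 0, 0, 0, 1],
    [0, 0, 1, 0, 0, 0, 0, 0, 0, 0, 1, 0, 1, 0, 0, 0, 0, 0, 0, 1],
    [0, 1, 1, 0, 1, 1, 0, 0, 0, 0, 1, 0, 1, 0, 0, 0, 0, 0, 0, 1, 0, 1, 0, 1],
    [],
    [1, 0, 0, 1, 0, 1, 0, 1, 0, 0, 0, 0, 0, 0, 1, 0, 0, 0, 0, 0, 0, 0, 0, 0, 0, 0, 0, 0, 0, 0, 0, 0, 0, 0, 0, 0, 0, 0, 0, 0, 0, 0, 1, 0, 0, 0, 0, 0, 0, 0, 0, 0, 0, 0, 0, 0, 0, 0, 0, 0, 0, 0, 0, 0, 0, 0, 0, 0, 0, 0, 0, 0, 0, 0, 0, 0, 0, 0, 0, 0, 0, 0, 0, 0, 0, 0, 0, 0, 0, 0, 1],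
    [0, 0, 0, 0, 0, 1, 0, 0, 0, 0, 1, 0, 0, 0, 0, 0, 0, 0, 0, 1],
    [0, 1, 0, 0, 0, 1, 1, 0, 0, 1, 1, 1, 1, 0, 0, 0, 1, 0, 0, 1, 1],
    [0, 0, 0, 0, 0, 0, 0, 0, 0, 0, 0, 0, 0, 1],
    [1, 0, 1, 0, 1, 0, 0, 1, 1, 1, 1, 0, 1, 1, 0, 0, 1, 0, 0, 1, 0, 0, 1, 0, 1, 1, 0, 0, 0, 0, 0, 1],
    [],
    [1, 0, 0, 0, 0, 1, 0, 1, 1, 1, 1, 1, 1, 0, 0, 0, 0, 0, 0, 1, 0, 1, 1, 1, 1, 1, 0, 0, 0, 0, 0, 1, 0, 1, 1, 1],
    [],
    [1, 0, 0, 0, 0, 0, 1, 0, 1, 1, 0, 0, 1, 0, 0, 1, 1, 0, 0, 0, 1],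
    [1, 1, 0, 0, 0, 0, 1, 0, 0, 0, 0, 0, 0, 0, 0, 1, 0, 1],
    [0, 1, 0, 1, 0, 0, 1, 0, 0, 0, 0, 1, 0, 1, 0, 0, 0, 0, 1, 0, 1],
    [0, 1, 0, 0, 0, 1, 1, 1, 1, 1, 1, 0, 1, 0, 0, 0, 0, 0, 0, 1, 1, 1, 0, 1, 0, 1, 1, 0, 0, 0, 0, 1, 0, 0, 0, 0, 0, 0, 0, 0, 0, 0, 1],
    [0, 1, 1, 0, 1, 1, 0, 0, 1, 1, 0, 0, 0, 1, 0, 1, 0, 1, 0, 0, 0, 0, 0, 0, 0, 1, 1, 1, 0, 0, 0, 0, 0, 0, 0, 0, 0, 0, 0, 0, 0, 0, 0, 1, 1, 1],
    [1, 1, 1, 0, 0, 0, 0, 0, 1, 1, 0, 1, 0, 1, 1, 1, 0, 1, 0, 0, 0, 0, 1, 0, 1, 0, 1, 1, 0, 0, 0, 0, 0, 0, 0, 0, 1, 0, 0, 0, 0, 0, 0, 1, 1, 1, 0, 0, 0, 0, 0, 0, 0, 0, 0, 0, 0, 0, 0, 0, 0, 0, 0, 0, 0, 0, 0, 0, 0, 0, 0, 0, 0, 0, 0, 0, 0, 0, 0, 0, 0, 1, 1, 0, 1],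
    [1, 0, 0, 1, 0, 0, 1, 1, 1, 0, 1, 1, 0, 0, 0, 0, 0, 1, 0, 1, 1, 0, 1, 0, 1, 0, 1, 0, 0, 0, 0, 0, 0, 0, 0, 0, 1],
    [1, 0, 0, 1, 0, 1, 0, 1, 0, 0, 0, 0, 0, 0, 1, 0, 0, 0, 0, 0, 0, 0, 0, 0, 0, 0, 0, 0, 0, 0, 0, 0, 0, 0, 0, 0, 1, 0, 0, 0, 0, 0, 1, 0, 0, 0, 0, 0, 0, 0, 0, 0, 0, 0, 0, 0, 0, 0, 0, 0, 0, 0, 0, 0, 0, 0, 0, 0, 0, 0, 0, 0, 0, 0, 0, 0, 0, 0, 0, 0, 0, 0, 0, 1, 0, 0, 0, 0, 0, 0, 1],
    [0, 1, 0, 0, 1, 1, 0, 0, 0, 0, 1, 0, 1, 0, 0, 0, 0, 0, 0, 1, 0, 1],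
    [1, 1, 0, 1, 0, 1, 1, 1, 0, 1, 0, 0, 0, 1, 1, 0, 0, 0, 0, 0, 1, 0, 1, 1, 0, 0, 0, 0, 0, 0, 0, 1, 0, 0, 0, 0, 0, 0, 0, 0, 0, 0, 1],
    [0, 1, 0, 1, 0, 0, 0, 1, 1, 0, 1, 0, 0, 1, 1, 0, 1, 0, 0, 1, 0, 1, 1, 1, 0, 1, 0, 0, 0, 0, 0, 1, 0, 0, 0, 0, 0, 0, 0, 0, 0, 0, 1],
    [1, 1, 1, 1, 0, 1, 0, 0, 0, 1, 1, 1, 1, 1, 1, 0, 1, 0, 0, 1, 0, 0, 0, 0, 0, 0, 0, 0, 1, 0, 0, 0, 0, 1, 1, 1, 0, 0, 0, 0, 0, 0, 1],
    [0, 1, 0, 0, 0, 0, 0, 0, 1, 0, 0, 1, 1, 0, 1, 0, 1, 0, 0, 1, 1, 0, 1, 1, 1, 0, 1, 1, 0, 1, 0, 1, 0, 0, 0, 0, 1, 0, 0, 0, 0, 0, 1, 0, 0, 0, 0, 0, 0, 0, 0, 0, 0, 0, 0, 0, 0, 0, 0, 0, 0, 0, 0, 0, 0, 0, 0, 0, 0, 0, 0, 0, 0, 0, 0, 0, 0, 0, 0, 0, 0, 1, 1, 0, 1],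
    [1, 0, 1, 1, 1, 0, 0, 0, 0, 1, 0, 1, 0, 1, 1, 0, 1, 0, 0, 0, 0, 1, 0, 0, 0, 0, 0, 0, 1, 0, 1, 0, 0, 1, 1, 1, 0, 0, 0, 0, 0, 0, 1],
    [],
    [],
    [],
    [0, 0, 1, 0, 1, 1, 0, 0, 0, 0, 0, 0, 0, 0, 0, 0, 0, 0, 0, 0, 0, 1, 0, 1, 0, 0, 0, 0, 0, 0, 0, 0, 1],
    [0, 1, 1, 0, 0, 0, 1, 1, 1, 0, 1, 0, 0, 0, 1, 0, 0, 0, 0, 0, 1, 1, 1, 1, 1, 1, 0, 0, 0, 0, 0, 1, 1, 1],
    [0, 0, 1, 0, 0, 0, 1, 1, 0, 1, 0, 0, 1, 1, 1, 0, 1, 0, 0, 0, 0, 0, 0, 0, 0, 0, 0, 0, 0, 0, 0, 0, 0, 0, 1],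
    [1, 1, 1, 1, 0, 1, 0, 0, 0, 1, 0, 1, 1, 1, 1, 0, 1, 0, 0, 1, 0, 1, 0, 1, 1, 0, 0, 0, 0, 0, 0, 0, 0, 1, 1, 1, 0, 1, 0, 0, 0, 0, 1],
    [1, 0, 1, 1, 0, 1, 0, 1, 0, 0, 0, 0, 1, 0, 0, 1, 0, 1, 0, 1, 0, 0, 1, 0, 0, 1, 1, 1, 1, 0, 0, 1, 1, 0, 0, 0, 1, 0, 1, 0, 0, 0, 1, 1, 1, 1, 0, 0, 0, 0, 0, 0, 0, 0, 0, 0, 0, 0, 0, 0, 0, 0, 0, 0, 0, 0, 0, 0, 0, 0, 0, 0, 0, 0, 0, 0, 0, 0, 0, 0, 0, 1, 1, 0, 1],
    [1, 1, 1, 1, 0, 1, 0, 1, 0, 0, 0, 0, 1, 0, 1, 0, 0, 0, 0, 1, 0, 1, 0, 0, 1, 0, 0, 0, 1, 0, 1, 0, 1, 0, 0, 0, 0, 1, 0, 1, 0, 0, 1, 0, 0, 0, 0, 0, 0, 0, 0, 0, 0, 0, 0, 0, 0, 0, 0, 0, 0, 0, 0, 0, 0, 0, 0, 0, 0, 0, 0, 0, 0, 0, 0, 0, 0, 0, 0, 0, 0, 0, 0, 0, 0, 0, 0, 0, 0, 0, 1],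
    [0, 1, 0, 0, 1, 0, 0, 1, 0, 1, 0, 0, 1, 0, 1, 0, 0, 0, 0, 1, 0, 0, 0, 0, 1, 0, 0, 0, 0, 0, 0, 0, 0, 0, 1, 1, 0, 1, 0, 0, 1],
    [],
    [0, 1, 0, 1, 0, 0, 0, 0, 0, 0, 0, 0, 0, 1, 1, 1, 1, 0, 0, 1, 1, 0, 1, 0, 0, 1, 1, 0, 1, 1, 1, 0, 0, 1, 1, 1, 0, 1, 1, 1, 0, 0, 1, 0, 0, 0, 0, 0, 0, 0, 1, 0, 0, 0, 0, 0, 0, 0, 0, 0, 0, 0, 0, 0, 0, 0, 0, 0, 0, 0, 0, 0, 0, 0, 0, 0, 0, 0, 0, 0, 0, 0, 0, 0, 0, 0, 0, 0, 0, 0, 1],
    [1, 1, 0, 0, 0, 1, 1, 1, 1, 1, 1, 0, 1, 0, 0, 0, 1, 1, 0, 1, 1, 1, 1, 1, 0, 1, 1, 0, 1, 0, 0, 0, 1, 1, 1, 0, 0, 1, 0, 0, 0, 0, 0, 1, 1, 1, 0, 0, 0, 0, 1, 0, 0, 0, 0, 0, 0, 0, 0, 0, 0, 0, 0, 0, 0, 0, 0, 0, 0, 0, 0, 0, 0, 0, 0, 0, 0, 0, 0, 0, 0, 0, 0, 0, 0, 0, 0, 0, 0, 0, 0, 0, 0, 1],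
    [0, 1, 1, 1, 1, 1, 1, 0, 1, 0, 0, 0, 0, 0, 0, 0, 0, 0, 0, 0, 1, 1, 0, 1, 0, 0, 0, 0, 0, 0, 0, 1, 0, 0, 0, 0, 0, 0, 0, 0, 0, 1, 1],
    [0, 1, 1, 1, 1, 1, 1, 0, 0, 0, 0, 1, 0, 1, 0, 0, 0, 0, 0, 0, 1, 1, 0, 1, 0, 0, 0, 0, 0, 0, 0, 1, 0, 0, 0, 0, 0, 0, 0, 0, 0, 1, 1, 1],
    [1, 0, 0, 0, 1, 1, 0, 1, 0, 1, 0, 1, 0, 1, 1, 0, 0, 1, 0, 0, 0, 0, 0, 0, 0, 1, 1, 0, 0, 0, 0, 0, 0, 0, 0, 0, 0, 0, 0, 0, 0, 0, 0, 1, 0, 1],
    [0, 1, 0, 1, 0, 0, 0, 1, 0, 1, 1, 1, 0, 0, 0, 0, 0, 0, 0, 1, 1, 1, 1, 0, 0, 1, 1, 1, 0, 1, 0, 1, 0, 1, 1, 1, 1, 0, 0, 0, 0, 0, 0, 0, 0, 0, 1, 0, 0, 0, 0, 0, 0, 0, 0, 0, 0, 0, 0, 0, 0, 0, 0, 0, 0, 0, 0, 0, 0, 0, 0, 0, 0, 0, 0, 0, 0, 0, 0, 0, 0, 1, 1, 0, 1],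
    [0, 1, 0, 1, 0, 1, 1, 0, 1, 1, 1, 0, 1, 1, 1, 1, 1, 0, 0, 1, 0, 1, 0, 0, 1, 1, 0, 0, 0, 1, 0, 0, 0, 0, 0, 0, 1, 0, 0, 0, 0, 1, 0, 1, 1, 1, 0, 1],
    [0, 0, 1, 0, 0, 0, 0, 1, 0, 1, 0, 0, 0, 0, 1, 0, 0, 0, 0, 1, 0, 0, 0, 0, 1, 0, 1, 1, 0, 1, 1, 1, 0, 0, 0, 0, 1, 0, 0, 0, 0, 1, 1, 0, 0, 0, 1, 0, 1, 0, 0, 0, 0, 0, 0, 0, 0, 0, 0, 0, 0, 0, 0, 0, 0, 0, 0, 0, 0, 0, 0, 0, 0, 0, 0, 0, 0, 0, 0, 0, 0, 1, 1, 0, 1, 0, 0, 0, 0, 0, 1],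
    [0, 1, 1, 0, 0, 0, 1, 1, 1, 0, 0, 1, 0, 1, 1, 1, 1, 1, 0, 0, 1, 1, 1, 0, 0, 0, 1, 1, 1, 0, 0, 1, 1, 1, 0, 0, 0, 0, 1, 0, 0, 0, 1, 0, 1, 1, 1, 0, 0, 1],
    [0, 1, 0, 1, 0, 0, 0, 0, 0, 0, 0, 0, 0, 0, 0, 1, 1, 1, 0, 0, 1, 1, 1, 0, 0, 0, 1, 1, 1, 0, 0, 1, 1, 1, 0, 0, 0, 0, 1, 0, 0, 0, 1, 1, 0, 1, 1, 0, 0, 1, 0, 0, 1],
    [0, 0, 0, 1, 0, 1, 0, 0, 0, 0, 0, 1, 0, 0, 0, 1, 0, 1, 0, 1, 1, 0, 1, 1, 0, 0, 1, 0, 1, 1, 0, 0, 0, 0, 1, 0, 1, 1, 0, 0, 1, 0, 1, 0, 0, 0, 1, 1, 1, 0, 0, 1, 0, 0, 0, 0, 0, 0, 0, 0, 0, 0, 0, 0, 0, 0, 0, 0, 0, 0, 0, 0, 0, 0, 0, 0, 0, 0, 0, 0, 0, 0, 0, 0, 0, 0, 0, 0, 0, 0, 1],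
    [],
    []]

/-- Generators at 3, as words in the twenty-four. -/
def letters3 : List (List ℕ) := [[2, 11, 8, 0, 2, 11, 8, 0, 2, 11, 8, 0, 2, 11, 8, 0, 2, 11, 8, 0, 2, 11, 8, 0, 2, 11, 8, 0, 2, 11, 8, 0, 11, 2, 0, 8, 2, 11, 8, 0, 2, 11, 8, 0, 2, 11, 8, 0, 2, 11, 8, 0, 20, 12, 14, 23, 2, 11, 8, 0, 2, 11, 8, 0, 2, 11, 8, 0, 2, 11, 8, 0, 11, 2, 0, 8, 2, 11, 8, 0, 2, 11, 8, 0, 2, 11, 8, 0, 2, 11, 8, 0, 20, 12, 14, 23, 11, 2, 0, 8, 2, 11, 8, 0, 2, 11, 8, 0, 2, 11, 8, 0, 2, 11, 8, 0, 20, 12, 14, 23],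
    [2, 11, 8, 0, 2, 11, 8, 0, 2, 11, 8, 0, 2, 11, 8, 0],
    [11, 2, 0, 8, 2, 11, 8, 0, 2, 11, 8, 0, 2, 11, 8, 0, 2, 11, 8, 0, 20, 12, 14, 23], [11, 2, 0, 8], [0]]

/-- Their matrices. -/
def mats3 : List (List ℕ) := [
  [848908966308083, 163845, 848908945730858, 94491126408, 4237517855588388, 770737601045562, 11003748188673,
    525576, 85899356288, 844769199151360, 85899880456, 18640427576960, 85901191304, 299771805829376, 17695534489608,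
    848908945336481, 848908949534947, 848908966866303, 275549013000, 94491127688, 370040142472, 2709202086658084,
    859818225238131, 991024648441033, 3388703538022150, 344899170126096, 1036114805190459, 962072692224,
    283494418510728, 282256662604680, 2936659291358807, 755232491652663, 658161158333995, 844717659545984,
    18641098665608, 18640964959112, 299824017847424, 1186082064520, 17644665974912, 863512570908928, 19654308027912,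
    2855797530971391, 2734414457860546, 1006855730459074, 283081698980992, 4449589415593540, 1103588231467001,
    2634625271722434, 844699808055552, 281475647813640, 2272665740859681, 3686311249327492],
  [457018013115386, 4198058883717251, 4455333708760676, 18125569138304, 2472226157527040, 1955459805347840,
    2258396908814336, 863976427111560, 863211251570944, 300450143298560, 17601582335488, 582252476497920,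
    420907581440, 17696071614464, 523986010112, 162058935505168, 9419417060416, 4323327855502944, 281552823537664,
    846031248693248, 618476347392, 166184234254336, 39599604760576, 14094488829952, 2478402313388032,
    150087699267584, 8796193685504, 18021682774016, 19310172962816, 103079215104, 268280837177344, 6597069766656,
    219902325555200, 300519398588416, 292191993856, 69256347648, 18245826379776, 18966575579136, 18004502904832,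
    549755813888, 17592186044416, 4675071901696, 201626165968896, 150087632158720, 18691697672192, 35184372088832,
    140737488355328, 211106232532992, 300751595241472, 845087160401920, 3438657134395392, 2502389412134912],
  [733552346921393, 2793180548466183, 793963227717610, 18031212764680, 4167573306476132, 2374083151461963,
    539181730366980, 301077343249800, 18726863517824, 863512705124608, 17696205052040, 283623401219208,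
    17610305968136, 283494418489984, 1185545730056, 1011460269226211, 1006853446641825, 3011543004830909,
    19542772826368, 299781067381512, 18641099189120, 3218005410595154, 1036028905408310, 937600322316449,
    3388703538022150, 2878173826285568, 2741063041604811, 282437049402368, 19181996895104, 299772477447176,
    789874615665526, 176202123853888, 991024179068266, 844717659545984, 300098225202312, 18288239443968,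
    94491127688, 17712713836672, 85899880456, 844769199147264, 300046684277768, 2729809642236065, 848908966866303,
    848908945336481, 94490602112, 4237526445457956, 2736406686771361, 848908966702458, 844699808055552,
    299102462814336, 2695714516129514, 3668752483233036],
  [32, 1073741824, 8388608, 2048, 16, 33, 1075838976, 268435456, 16384, 512, 137438953472, 2056, 134217728,
    268697600, 18688, 4294967296, 33554432, 70368744177664, 268443648, 1099511627776, 34359738368, 1073758272,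
    2147483648, 8389156, 35184372088832, 42008576, 72567767433216, 134238208, 268708480, 1254130450432, 1075857786,
    3359637504, 2814755415031808, 549755813888, 1100048498688, 34629222400, 17592186044416, 281612684125184,
    1374389534720, 730144440320, 564205023920128, 70922862067712, 140737488355328, 79164837199872, 19310172962816,
    36565757722624, 1762153511124992, 268280837177344, 281475245146112, 844562637520896, 3940655042658304,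
    2533413303091200],
  [3, 2, 4, 136, 33040, 198240, 132160, 128, 256, 1536, 1024, 792576, 528384, 1056768, 281483566661632, 32768,
    196608, 131072, 786432, 524288, 1048576, 6291456, 4194304, 2251799838851072, 16777216, 100663296, 67108864,
    17314086912, 103884521472, 69256347648, 7012607852544, 4675071901696, 9350143803392, 8589934592, 17179869184,
    103079215104, 68719476736, 412316860416, 274877906944, 549755813888, 18691697672192, 6597069766656,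
    4398046511104, 8796093022208, 17592186044416, 35184372088832, 211106232532992, 140737488355328, 281474976710656,
    562958543355904, 1125899923619840, 2251799813685248]]

/-- Columns separating the Sylow subgroup at 3. -/
def cols3 : List ℕ := [0]

/-- Normal forms at 3, part 0. -/
def elts3_0 : List (List ℕ) := [[], [0, 0, 1, 1, 2], [1, 2, 2], [0, 0, 2], [0, 2, 2], [1, 1, 2, 2], [1], [2], [0], [0, 0], [0, 1, 2],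
    [0, 1, 1, 2], [0, 0, 1], [0, 0, 1, 2, 2], [1, 1], [2, 2], [0, 0, 2, 2], [0, 2], [1, 2], [0, 1, 1], [1, 1, 2],
    [0, 0, 1, 1], [0, 1], [0, 0, 1, 2], [0, 1, 2, 2], [0, 0, 1, 1, 2, 2], [0, 1, 1, 2, 2]]

/-- The Sylow subgroup at 3. -/
def elts3 : List (List ℕ) := elts3_0

/-- Part of a closed path for the prime 3. -/
def path3_0_0 : List SchurPath.Step :=
  [([], [1, 1], 4, false),
    ([0, 1], [1], 4, false),
    ([0], [1, 2, 1], 1, false),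
    ([0, 0, 1, 1], [], 4, false),
    ([0, 0, 1], [1, 2], 1, false),
    ([0, 0], [1, 1, 2], 1, false),
    ([], [1, 1, 1, 2], 0, false),
    ([], [2], 2, false),
    ([2], [], 2, true)]

/-- Part of a closed path for the prime 3. -/
def path3_1_0 : List SchurPath.Step :=
  [([3], [], 2, true),
    ([], [1, 1], 6, false),
    ([2], [1], 6, false),
    ([2, 2], [], 6, false),
    ([], [3], 5, false)]

/-- Part of a closed path for the prime 3. -/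
def path3_2_0 : List SchurPath.Step :=
  [([], [1], 7, false),
    ([0, 2, 2], [], 6, false),
    ([0], [3], 5, false),
    ([0], [3], 5, true),
    ([], [2, 2, 3], 3, true),
    ([2], [], 7, true),
    ([], [0, 1], 6, true),
    ([3], [1], 1, false)]

/-- Part of a closed path for the prime 3. -/
def path3_3_0 : List SchurPath.Step :=
  [([3], [], 2, true),
    ([3], [1, 1, 1], 0, true),
    ([3, 0, 0], [1, 1], 1, true),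
    ([3, 0, 0, 1], [1], 1, true),
    ([3, 0], [1, 0, 1], 1, true),
    ([], [0, 1, 0, 1], 7, false),
    ([0, 2, 2], [0, 1], 7, false),
    ([0, 2, 2, 0, 2, 2], [], 7, false),
    ([0, 2], [2, 2, 0, 2, 2, 3], 3, false),
    ([0], [2, 2, 2, 0, 2, 2, 3], 3, false),
    ([0, 0], [2, 0, 2, 2, 3], 5, false),
    ([0, 0], [2, 2, 3], 3, false),
    ([], [2, 2, 2, 3], 0, false),
    ([], [3], 5, false)]

/-- Part of a closed path for the prime 3. -/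
def path3_4_0 : List SchurPath.Step :=
  [([4], [], 3, true),
    ([], [0], 10, false),
    ([0, 2], [], 8, false),
    ([0], [0, 4], 3, false),
    ([0, 0], [4], 3, false),
    ([], [2, 4], 0, false),
    ([], [2, 4], 0, true),
    ([0, 0], [], 10, true),
    ([], [2], 8, true)]

/-- Part of a closed path for the prime 3. -/
def path3_5_0 : List SchurPath.Step :=
  [([4], [], 4, true),
    ([], [1], 10, false),
    ([0, 2], [], 9, false),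
    ([0], [1, 4], 4, false),
    ([0, 0, 1], [4], 4, false),
    ([0, 0], [1, 2, 4], 1, false),
    ([], [1, 1, 2, 4], 0, false),
    ([], [1, 1, 2, 4], 0, true),
    ([0, 0], [1, 2, 4], 1, true),
    ([0, 0, 1], [2, 4], 1, true),
    ([0, 0, 1, 1], [], 10, true),
    ([0, 0], [2], 9, true),
    ([], [1, 2], 8, true)]

/-- Closed paths for the prime 3. -/
def paths3 : List (List ℕ × List SchurPath.Step) :=
  [([2, 1, 1, 1], path3_0_0),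
    ([3], path3_1_0),
    ([3, 0, 1, 1], path3_2_0),
    ([3], path3_3_0),
    ([4, 0, 2], path3_4_0),
    ([4, 0, 1, 2], path3_5_0)]

/-- Their linear forms. -/
def rows3 : List (List ℕ) :=
  [[1, 0, 0, 0, 0, 0, 0, 0, 0, 0, 0],
    [0, 0, 2, 0, 0, 1, 0, 0, 0, 0, 0],
    [0, 1, 0, 2, 0, 0, 0, 0, 0, 0, 0],
    [0, 0, 2, 0, 0, 2, 0, 0, 0, 0, 0],
    [0, 0, 0, 1, 0, 0, 0, 0, 0, 0, 0],
    [0, 2, 0, 0, 1, 0, 0, 0, 2, 0, 0]]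

/-- The certificate at 3. -/
def cert3 : SchurPath.Cert where
  m := 3
  rels := [([0, 0, 0], []), ([1, 0], [0, 1]), ([1, 1, 1], []), ([2, 0], [0, 2]), ([2, 1], [0, 1, 2]), ([2, 2, 2], []),
    ([3, 1], [2, 3]), ([3, 0, 1], [0, 2, 2, 3]), ([4, 0], [0, 0, 4]), ([4, 1], [1, 1, 4]), ([4, 2], [0, 2, 4])]
  paths := paths3
  rows := rows3
  mu := [[0, 0, 0, 0, 1],
    [],
    []]
  comb := [[1],
    [0, 0, 1, 0, 1],
    [0, 1, 0, 1],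
    [0, 0, 0, 0, 1],
    [],
    [0, 2, 0, 1]]

/-- Generators at 5, as words in the twenty-four. -/
def letters5 : List (List ℕ) := [[8, 1], [0, 2, 0, 8, 0, 2, 0, 8, 1, 12, 14, 12, 20, 12, 14, 12], [0, 2, 0, 8, 0, 2, 0], [2, 7, 2, 10, 2, 7, 2]]

/-- Their matrices. -/
def mats5 : List (List ℕ) := [
  [1, 46, 18, 8, 4, 2, 64, 2432, 640, 256, 21504, 128, 9216, 4096, 1024, 8749056, 2129920, 1688851073073152,
    262144, 562950223429632, 134742016, 65536, 34734080, 32768, 4915724288, 4194304, 2164260864, 1048576, 524288,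
    536870912, 131072, 67108864, 16777216, 163208757248, 42949672960, 17179869184, 1443109011456, 8589934592,
    618475290624, 274877906944, 68719476736, 2199023255552, 101155069755392, 39582418599936, 17592186044416,
    8796093022208, 4398046511104, 140737488355328, 281474977234944, 562949953421312, 1125899907366912,
    2814749767761920],
  [1548112908779593, 4398047068162, 8796094136324, 580542139727880, 35184508403728, 70369021001760, 2199023517697,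
    68719477888, 274877911296, 549755822592, 8589934720, 1099511646208, 17179869440, 34359738880, 137438955520,
    16777218, 67108868, 131072, 536870920, 524288, 1048576, 2147483664, 4194304, 4294967328, 32768, 33554432, 65536,
    134217728, 268435456, 262144, 1073741824, 2097152, 8388608, 1024, 4096, 8192, 128, 16384, 256, 512, 2048, 64, 2,
    4, 8, 16, 32, 1, 281474976710664, 562949953421312, 1125899906842624, 2814749767106561],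
  [131072, 2, 32768, 524288, 16777216, 4398046511104, 4194304, 128, 1024, 8589934592, 256, 68719476736, 4096,
    17179869184, 274877906944, 4, 65536, 1, 1048576, 8, 262144, 67108864, 64, 8796093022208, 16, 2199023255552,
    2097152, 536870912, 17592186044416, 134217728, 140737488355328, 2147483648, 35184372088832, 512, 8192,
    34359738368, 2048, 549755813888, 16384, 137438953472, 1099511627776, 33554432, 32, 8388608, 268435456,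
    4294967296, 70368744177664, 1073741824, 281474976710656, 562949953421312, 1970324836974592, 3096224743817216],
  [562951469268992, 118747670609974, 118754196946944, 404226048, 118753782136832, 118747255799808,
    1125899944591360, 1992864857984, 2190433350656, 2190433320960, 824633733888, 1992864825344, 876173340672,
    876173328384, 824633720832, 624522742267932, 624525493731328, 1548112908779593, 562950088687616,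
    580542139727880, 580542676598784, 61575402618880, 2130854071500864, 61572651155456, 105553529405488,
    160528697655296, 105559971856384, 17592722915328, 17592186044416, 402653184, 140737488355328, 105559558717440,
    105553116266496, 1649267468800, 1821066158080, 1821066133504, 1099511646208, 1649267441664, 1236950597632,
    1236950581248, 1099511627776, 1375731712, 70369021001760, 70373315969024, 268435456, 70373039144960,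
    70368744177664, 1073741824, 281475916234752, 562949953421312, 1970325373845504, 3116017463066624]]

/-- Columns separating the Sylow subgroup at 5. -/
def cols5 : List ℕ := [1]

/-- Normal forms at 5, part 0. -/
def elts5_0 : List (List ℕ) := [[], [0, 0, 0, 0], [0], [0, 0], [0, 0, 0], [1, 1, 1, 1], [1], [1, 1], [1, 1, 1], [0, 0, 0, 0, 1, 1, 1, 1],
    [0, 0, 0, 0, 1], [0, 0, 0, 0, 1, 1], [0, 0, 0, 0, 1, 1, 1], [0, 1, 1, 1, 1], [0, 1, 1], [0, 0, 1, 1, 1, 1],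
    [0, 0, 1], [0, 0, 1, 1], [0, 0, 1, 1, 1], [0, 0, 0, 1, 1, 1, 1], [0, 0, 0, 1, 1], [0, 1], [0, 1, 1, 1],
    [0, 0, 0, 1], [0, 0, 0, 1, 1, 1]]

/-- The Sylow subgroup at 5. -/
def elts5 : List (List ℕ) := elts5_0

/-- Part of a closed path for the prime 5. -/
def path5_0_0 : List SchurPath.Step :=
  [([2], [], 0, true),
    ([], [0, 0, 0, 0], 3, false),
    ([1], [0, 0, 0], 3, false),
    ([1, 1], [0, 0], 3, false),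
    ([1, 1, 1], [0], 3, false),
    ([1, 1, 1, 1], [], 3, false),
    ([], [2], 2, false)]

/-- Part of a closed path for the prime 5. -/
def path5_1_0 : List SchurPath.Step :=
  [([2], [], 1, true),
    ([], [0], 4, false),
    ([0], [], 3, false),
    ([], [2], 1, true),
    ([1], [], 4, true),
    ([], [1], 3, true)]

/-- Part of a closed path for the prime 5. -/
def path5_2_0 : List SchurPath.Step :=
  [([3], [], 0, true),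
    ([], [0, 0, 0, 0], 5, false),
    ([1, 1], [0, 0, 0], 5, false),
    ([1, 1, 1, 1], [0, 0], 5, false),
    ([1, 1, 1, 1, 1, 1], [0], 5, false),
    ([1, 1, 1, 1, 1, 1, 1, 1], [], 5, false),
    ([], [1, 1, 1, 1, 1, 3], 2, false),
    ([], [3], 2, false)]

/-- Closed paths for the prime 5. -/
def paths5 : List (List ℕ × List SchurPath.Step) :=
  [([2], path5_0_0),
    ([2, 0, 1], path5_1_0),
    ([3], path5_2_0)]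

/-- Their linear forms. -/
def rows5 : List (List ℕ) :=
  [[4, 0, 1, 0, 0, 0, 0],
    [0, 3, 0, 0, 0, 0, 0],
    [4, 0, 2, 0, 0, 0, 0]]

/-- The certificate at 5. -/
def cert5 : SchurPath.Cert where
  m := 2
  rels := [([0, 0, 0, 0, 0], []), ([1, 0], [0, 1]), ([1, 1, 1, 1, 1], []), ([2, 0], [1, 2]), ([2, 1], [0, 2]),
    ([3, 0], [1, 1, 3]), ([3, 1], [0, 0, 0, 3])]
  paths := paths5
  rows := rows5
  mu := [[],
    []]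
  comb := [[3, 0, 1],
    [0, 2],
    [4, 0, 1]]

end CfsgLib.TitsSchur
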