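import Cfsg.Agent.Lib.TitsSchur.Mat
import Cfsg.Agent.Lib.TitsSchur.Data
import Cfsg.Agent.Lib.RankThree.TitsTwoTransData
import Cfsg.Agent.Lib.Schur.Trivial
import Mathlib.Tactic.NormNum.Prime

/-!
The Schur multiplier of the Tits group is trivial, given the index of the Tits group in ²F₄(2) and its order.
-/

set_option autoImplicit false
set_option maxRecDepth 20000
set_option maxHeartbeats 1000000

open Cfsg Cfsg.Lie

namespace CfsgLib.TitsSchur

open CfsgLib.Chev CfsgLib.TitsTTW
open CfsgLib.RankThree.Tits (H exists_three)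

/-- the matrix of a root, by position -/
def rootM (j : ℕ) : List ℕ := rootMats.getD j []

/-- the matrix of one of the twenty-four words -/
def kMat (i : ℕ) : List ℕ := kMats.getD i []

/-- one of the twenty-four words, in roots -/
def kw (i : ℕ) : List ℕ := (kWords.getD i []).map fun j => roots.getD j 0

/-- one of the twenty-four elements -/
noncomputable def gK (i : ℕ) : GG := wd (kw i)

/-- the matrices of the roots are right -/
noncomputable def rootsOK : Bool := allNat 12 fun j => rootCheck (roots.getD j 0) (rootM j)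

/-- the matrices of the words are right -/
noncomputable def kOK : Bool :=
  allNat 24 fun i => ((kWords.getD i []).all fun j => Nat.blt j 12) &&
    prodM ((kWords.getD i []).map rootM) == kMat i

theorem rootsOK_eq : rootsOK = true := by decide +kernel

theorem kOK_eq : kOK = true := by decide +kernel

theorem wd_prod : ∀ l : List ℕ, wd l = (l.map fun r => wd [r]).prod
  | [] => by simp [wd_nil]
  | r :: l => by
    rw [List.map_cons, List.prod_cons, ← wd_prod l, ← wd_append]
    rfl

theorem OK_K {i : ℕ} (hi : i < 24) : OK (kMat i) (gK i) := by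
  have h := allNat_iff.1 kOK_eq i hi
  simp only [Bool.and_eq_true, List.all_eq_true, Nat.blt_eq, beq_iff_eq] at h
  rw [← h.2, gK, kw, wd_prod, List.map_map]
  exact OK.prod rootM _ _ fun j hj => OK.root (allNat_iff.1 rootsOK_eq j (h.1 j hj))

theorem gK_mem (hidx : (commutator H).index = 2) {i : ℕ} (hi : i < 24) : gK i ∈ TT := by
  obtain ⟨hU, hU', hV, hW, hW'⟩ := gens_mem
  have hN : wd wN ∈ H := by rw [wN, wd_append, wd_append]; exact mul_mem (mul_mem hU hU') hU
  have hM : wd wM ∈ H := by
    rw [wM, wd_append, wd_append, wd_append]; exact mul_mem (mul_mem (mul_mem hV hW') hV) hW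
  obtain ⟨ta, -, -, ha, -, -⟩ := exists_three
  have tA : wd [38, 43] ∈ TT := by rw [wd_def]; exact ha ▸ co_mem ta
  have tU : wd wU ∈ TT := by
    rw [weq wU ((wN ++ wM).reverse ++ [38, 43] ++ (wN ++ wM)) (by decide +kernel), wd_append, wd_append,
      ← wd_inv _ (by decide)]
    have := TT_conj (inv_mem (show wd (wN ++ wM) ∈ H by rw [wd_append]; exact mul_mem hN hM)) tA
    rwa [inv_inv] at this
  have tU' : wd wU' ∈ TT := by
    rw [weq wU' (wN ++ wU ++ wN.reverse) (by decide +kernel), wd_append, wd_append, ← wd_inv _ (by decide)]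
    exact TT_conj hN tU
  have tVV : wd (wV ++ wV) ∈ TT := by rw [wd_append]; exact sq_mem_map hidx hV
  have tW : wd wW ∈ TT := by rw [weq wW (wV ++ wV) (by decide +kernel)]; exact tVV
  have tW' : wd wW' ∈ TT := by
    rw [weq wW' (wM ++ wW ++ wM.reverse) (by decide +kernel), wd_append, wd_append, ← wd_inv _ (by decide)]
    exact TT_conj hM tW
  have conjV : ∀ l, wd l ∈ TT → wd (wV ++ l ++ wV.reverse) ∈ TT := fun l hl => by
    rw [wd_append, wd_append, ← wd_inv wV (by decide)]; exact TT_conj hV hl
  have tE : wd wE ∈ TT := by rw [wE, wd_append]; exact mul_mem tW tW'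
  have hb : wd [20, 22, 19] ∈ H := by
    rw [weq [20, 22, 19] (wE ++ wV) (by decide +kernel), wd_append]; exact mul_mem (TT_le tE) hV
  have tbb : wd ([20, 22, 19] ++ [20, 22, 19]) ∈ TT := by rw [wd_append]; exact sq_mem_map hidx hb
  have t4 : wd (wV ++ wE ++ wV.reverse ++ (wV ++ wV)) ∈ TT := by
    rw [wd_append]; exact mul_mem (conjV _ tE) tVV
  have t10 : wd (wE ++ (wV ++ wV)) ∈ TT := by rw [wd_append]; exact mul_mem tE tVV
  have eq : ∀ i l, wd l ∈ TT → chk (kw i) l = true → gK i ∈ TT := fun i l hl h => by
    rw [gK, weq _ _ h]; exact hl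
  have low : ∀ i < 12, gK i ∈ TT := by
    intro i hi
    interval_cases i
    · exact eq _ wU tU (by decide +kernel)
    · exact eq _ wW tW (by decide +kernel)
    · exact eq _ wU' tU' (by decide +kernel)
    · exact eq _ wW' tW' (by decide +kernel)
    · exact eq _ _ t4 (by decide +kernel)
    · refine eq _ ((wV ++ wE ++ wV.reverse ++ (wV ++ wV)) ++ ([20, 22, 19] ++ [20, 22, 19])) ?_
        (by decide +kernel)
      rw [wd_append]; exact mul_mem t4 tbb
    · exact eq _ _ (conjV _ tU') (by decide +kernel)
    · exact eq _ _ (conjV _ tU) (by decide +kernel)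
    · exact eq _ _ (conjV _ tW') (by decide +kernel)
    · exact eq _ _ (conjV _ tW) (by decide +kernel)
    · exact eq _ _ t10 (by decide +kernel)
    · refine eq _ (([20, 22, 19] ++ [20, 22, 19]) ++ (wE ++ (wV ++ wV))) ?_ (by decide +kernel)
      rw [wd_append]; exact mul_mem tbb t10
  by_cases h : i < 12
  · exact low i h
  · obtain ⟨j, rfl⟩ : ∃ j, i = j + 12 := ⟨i - 12, by omega⟩
    have hrev : ∀ j < 12, kw (j + 12) = (kw j).reverse ∧ (kw j).all (fun r => decide (r < 48)) = true := by
      decide +kernel
    obtain ⟨e, hlt⟩ := hrev j (by omega)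
    rw [gK, e, ← wd_inv _ hlt]
    exact inv_mem (low j (by omega))

/-- the lift to the Tits group of one of the twenty-four elements -/
noncomputable def tK (hidx : (commutator H).index = 2) (i : ℕ) : TitsGroup :=
  if h : i < 24 then (mem_TT (gK_mem hidx h)).choose else 1

theorem co_tK (hidx : (commutator H).index = 2) {i : ℕ} (hi : i < 24) : co (tK hidx i) = gK i := by
  rw [tK, dif_pos hi]; exact (mem_TT (gK_mem hidx hi)).choose_spec

/-- column `c` of a product -/
def colW (M : ℕ → List ℕ) (w : List ℕ) (c : ℕ) : ℕ := w.foldr (fun a v => ap (M a) v) (1 <<< c)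

theorem getD_prodM (M : ℕ → List ℕ) (c : ℕ) (hc : c < 52) : ∀ w : List ℕ, (∀ a ∈ w, (M a).length = 52) →
    (prodM (w.map M)).length = 52 ∧ (prodM (w.map M)).getD c 0 = colW M w c
  | [], _ => by
    refine ⟨by simp [prodM, one], ?_⟩
    rw [List.map_nil, show prodM [] = one from rfl, one, List.getD_eq_getElem _ _ (by simpa using hc),
      List.getElem_map, List.getElem_range]
    rfl
  | a :: w, h => by
    obtain ⟨hl, ih⟩ := getD_prodM M c hc w fun b hb => h b (List.mem_cons_of_mem _ hb)
    show (mul (M a) (prodM (w.map M))).length = 52 ∧ (mul (M a) (prodM (w.map M))).getD c 0 = _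
    refine ⟨by simp [mul, hl], ?_⟩
    have hc' : c < (prodM (w.map M)).length := by omega
    rw [mul, List.getD_eq_getElem _ _ (by rw [List.length_map]; exact hc'), List.getElem_map,
      ← List.getD_eq_getElem _ 0 hc', ih]
    rfl

/-- the code of an element: some of its columns -/
def key (cols : List ℕ) (M : ℕ → List ℕ) (w : List ℕ) : ℕ :=
  (cols.map fun c => colW M w c % 2 ^ 52).foldl (fun acc v => acc * 2 ^ 52 + v) 0

/-- A strictly increasing list. -/
def incr : List ℕ → Bool
  | a :: b :: l => Nat.blt a b && incr (b :: l)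
  | _ => true

theorem incr_pairwise : ∀ l : List ℕ, incr l = true → l.Pairwise (· < ·)
  | [], _ => List.Pairwise.nil
  | [_], _ => List.pairwise_singleton _ _
  | a :: b :: l, h => by
    simp only [incr, Bool.and_eq_true, Nat.blt_eq] at h
    have ih := incr_pairwise (b :: l) h.2
    refine List.pairwise_cons.2 ⟨fun c hc => ?_, ih⟩
    rcases List.mem_cons.1 hc with rfl | hc
    · exact h.1
    · exact h.1.trans ((List.pairwise_cons.1 ih).1 c hc)

/-- the generators at one prime are right -/
def lettersOK (L mats : List (List ℕ)) : Bool :=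
  (List.range L.length).all fun a => ((L.getD a []).all fun i => Nat.blt i 24) &&
    prodM ((L.getD a []).map kMat) == mats.getD a []

/-- the relations at one prime hold -/
def relsOK (n : ℕ) (mats : List (List ℕ)) (R : SchurPath.Rels) : Bool :=
  R.all fun q => (q.1.all fun a => Nat.blt a n) && (q.2.all fun a => Nat.blt a n) &&
    prodM (q.1.map fun a => mats.getD a []) == prodM (q.2.map fun a => mats.getD a [])

/-- the normal forms at one prime are distinct -/
def eltsOK (n m q : ℕ) (mats E : List (List ℕ)) (cols : List ℕ) : Bool :=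
  Nat.beq E.length q && (cols.all fun c => Nat.blt c 52) &&
    (E.all fun w => w.all fun a => Nat.blt a m && Nat.blt a n) &&
    incr (E.map (key cols fun a => mats.getD a []))

/-- The certificate at one prime, applied. -/
theorem not_dvd_of_data (hidx : (commutator H).index = 2) (hcard : Nat.card TitsGroup = 17971200)
    (L mats E : List (List ℕ)) (cols : List ℕ) (C : SchurPath.Cert) {p : ℕ} [Fact p.Prime]
    (hC : C.check p = true) (hL : lettersOK L mats = true) (hR : relsOK L.length mats C.rels = true)
    (hE : eltsOK L.length C.m (p ^ C.m) mats E cols = true) {i : ℕ}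
    (hNi : 17971200 = p ^ C.m * i) (hi : ¬ p ∣ i) {Γ : Type} [Group Γ] [Finite Γ]
    (σ : Γ →* TitsGroup) (hσ : Function.Surjective σ) (hc : σ.ker ≤ Subgroup.center Γ)
    (hd : σ.ker ≤ commutator Γ) : ¬ p ∣ Nat.card σ.ker := by
  set t : ℕ → TitsGroup := fun a => ((L.getD a []).map (tK hidx)).prod with ht
  set M : ℕ → List ℕ := fun a => mats.getD a [] with hM
  have hE' : eltsOK L.length C.m (p ^ C.m) mats E cols = true ∧ (fun a => mats.getD a []) = M :=
    ⟨hE, rfl⟩
  simp only [lettersOK, List.all_eq_true, List.mem_range, Bool.and_eq_true, Nat.blt_eq, beq_iff_eq] at hL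
  have okL : ∀ a < L.length, OK (M a) (co (t a)) := fun a ha => by
    obtain ⟨h24, hm⟩ := hL a ha
    have e : co (t a) = ((L.getD a []).map gK).prod := by
      rw [ht, map_list_prod, List.map_map]
      exact congrArg _ (List.map_congr_left fun i hi => co_tK hidx (h24 i hi))
    rw [e, hM]
    show OK (mats.getD a []) _
    rw [← hm]
    exact OK.prod kMat gK _ fun i hi => OK_K (h24 i hi)
  have okW : ∀ w : List ℕ, (∀ a ∈ w, a < L.length) → OK (prodM (w.map M)) (co (w.map t).prod) :=
    fun w hw => by
      rw [map_list_prod, List.map_map]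
      exact OK.prod M _ w fun a ha => okL a (hw a ha)
  clear_value t M
  refine SchurPath.not_dvd_card_ker_of_check C hC t ?_ ?_ hcard hNi hi σ hσ hc hd
  · intro r hr
    simp only [relsOK, List.all_eq_true, Bool.and_eq_true, Nat.blt_eq, beq_iff_eq] at hR
    obtain ⟨⟨h1, h2⟩, he⟩ := hR _ (List.getElem_mem hr)
    rw [List.getD_eq_getElem _ _ hr]
    refine co_inj (OK.eq (okW _ h1) ?_)
    show OK (prodM (C.rels[r].1.map M)) _
    rw [hE'.2] at he
    rw [he]
    exact okW _ h2
  · simp only [eltsOK, Bool.and_eq_true, Nat.beq_eq, List.all_eq_true, Nat.blt_eq] at hE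
    obtain ⟨⟨⟨hlen, hcols⟩, hw⟩, hincr⟩ := hE
    rw [hE'.2] at hincr
    generalize hS : Subgroup.closure {x : TitsGroup | ∃ a < C.m, t a = x} = S
    have hmem : ∀ w ∈ E, (w.map t).prod ∈ S := by
      intro w hwE
      apply Subgroup.list_prod_mem S
      intro x hx
      rw [List.mem_map] at hx
      obtain ⟨a, ha, rfl⟩ := hx
      exact hS ▸ Subgroup.subset_closure ⟨a, (hw w hwE a ha).1, rfl⟩
    let f : Fin E.length → S := fun j => ⟨_, hmem _ (List.getElem_mem j.2)⟩
    have hf : Function.Injective f := by
      intro j k h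
      have h' : ((E[(j : ℕ)]).map t).prod = ((E[(k : ℕ)]).map t).prod := congrArg Subtype.val h
      have hj := fun a ha => (hw _ (List.getElem_mem j.2) a ha).2
      have hk := fun a ha => (hw _ (List.getElem_mem k.2) a ha).2
      have hkey : key cols M E[(j : ℕ)] = key cols M E[(k : ℕ)] := by
        unfold key
        refine congrArg _ (List.map_congr_left fun c hc => ?_)
        have hlen52 : ∀ w : List ℕ, (∀ a ∈ w, a < L.length) → ∀ a ∈ w, (M a).length = 52 :=
          fun w hw a ha => (okL a (hw a ha)).1
        rw [← (getD_prodM M c (hcols c hc) _ (hlen52 _ hj)).2, ← (getD_prodM M c (hcols c hc) _ (hlen52 _ hk)).2]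
        have e := okW _ hj
        rw [h'] at e
        exact e.col_eq (okW _ hk) (hcols c hc)
      have hnd : (E.map (key cols M)).Nodup := (incr_pairwise _ hincr).imp fun hab => Nat.ne_of_lt hab
      apply Fin.ext
      exact (List.Nodup.getElem_inj_iff hnd (hi := by simp) (hj := by simp)).1 (by simpa using hkey)
    have := Nat.card_le_card_of_injective f hf
    rw [Nat.card_fin, hlen] at this
    exact this

theorem letters2_ok : lettersOK letters2 mats2 = true := by decide +kernel
theorem letters3_ok : lettersOK letters3 mats3 = true := by decide +kernel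
theorem letters5_ok : lettersOK letters5 mats5 = true := by decide +kernel
theorem rels2_ok : relsOK letters2.length mats2 cert2.rels = true := by decide +kernel
theorem rels3_ok : relsOK letters3.length mats3 cert3.rels = true := by decide +kernel
theorem rels5_ok : relsOK letters5.length mats5 cert5.rels = true := by decide +kernel
theorem elts2_ok : eltsOK letters2.length cert2.m (2 ^ cert2.m) mats2 elts2 cols2 = true := by decide +kernel
theorem elts3_ok : eltsOK letters3.length cert3.m (3 ^ cert3.m) mats3 elts3 cols3 = true := by decide +kernel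
theorem elts5_ok : eltsOK letters5.length cert5.m (5 ^ cert5.m) mats5 elts5 cols5 = true := by decide +kernel
theorem check2 : cert2.check 2 = true := by decide +kernel
theorem check3 : cert3.check 3 = true := by decide +kernel
theorem check5 : cert5.check 5 = true := by decide +kernel

theorem prime_cases {r : ℕ} (hr : r.Prime) (h : r ∣ 17971200) : r = 2 ∨ r = 3 ∨ r = 5 ∨ r = 13 := by
  rw [show 17971200 = 2 ^ 11 * 3 ^ 3 * 5 ^ 2 * 13 by norm_num] at h
  rcases hr.dvd_mul.1 h with h | h
  · rcases hr.dvd_mul.1 h with h | h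
    · rcases hr.dvd_mul.1 h with h | h
      · exact Or.inl ((Nat.prime_dvd_prime_iff_eq hr Nat.prime_two).1 (hr.dvd_of_dvd_pow h))
      · exact Or.inr (Or.inl ((Nat.prime_dvd_prime_iff_eq hr Nat.prime_three).1 (hr.dvd_of_dvd_pow h)))
    · exact Or.inr (Or.inr (Or.inl ((Nat.prime_dvd_prime_iff_eq hr (by norm_num)).1 (hr.dvd_of_dvd_pow h))))
  · exact Or.inr (Or.inr (Or.inr ((Nat.prime_dvd_prime_iff_eq hr (by norm_num)).1 h)))

/-- The Schur multiplier of the Tits group is trivial. -/
theorem hasCyclic (hidx : (commutator H).index = 2) (hcard : Nat.card TitsGroup = 17971200) :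
    Cfsg.HasCyclicSchurMultiplier TitsGroup 1 := by
  refine SchurTrivial.hasCyclic_one fun Γ _ _ σ hσ hc hd r hr hdvd => ?_
  rw [hcard] at hdvd
  have h2 : Fact (Nat.Prime 2) := ⟨Nat.prime_two⟩
  have h3 : Fact (Nat.Prime 3) := ⟨Nat.prime_three⟩
  have h5 : Fact (Nat.Prime 5) := ⟨by norm_num⟩
  have h13 : Fact (Nat.Prime 13) := ⟨by norm_num⟩
  rcases prime_cases hr hdvd with rfl | rfl | rfl | rfl
  · exact not_dvd_of_data hidx hcard _ _ _ _ cert2 check2 letters2_ok rels2_ok elts2_ok (i := 8775)
      (by norm_num [cert2]) (by norm_num) σ hσ hc hd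
  · exact not_dvd_of_data hidx hcard _ _ _ _ cert3 check3 letters3_ok rels3_ok elts3_ok (i := 665600)
      (by norm_num [cert3]) (by norm_num) σ hσ hc hd
  · exact not_dvd_of_data hidx hcard _ _ _ _ cert5 check5 letters5_ok rels5_ok elts5_ok (i := 718848)
      (by norm_num [cert5]) (by norm_num) σ hσ hc hd
  · exact SchurBound.not_dvd_card_ker_of_sq_not_dvd σ hσ hc hd (by rw [hcard]; norm_num)

end CfsgLib.TitsSchur
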