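import Cfsg.Agent.Lib.RankThree.TitsTwoTransWitness
import Mathlib.Data.Nat.Bitwise

/-!
Matrices over the field of two elements for the adjoint module of F4, stored as lists of columns, each
column a bit mask, and their comparison with products of root elements at 1.
-/

set_option autoImplicit false

open Cfsg Cfsg.Lie Matrix

namespace CfsgLib.TitsSchur

open CfsgLib.Chev CfsgLib.TitsTTW
open CfsgLib.RankThree.Tits (applyW cnt cnt_cons entry_eq)

/-- the sum of the columns of `M` selected by the bits of `v` -/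
def ap : List ℕ → ℕ → ℕ
  | [], _ => 0
  | c :: M, v => bif Nat.beq v 0 then 0
      else bif Nat.beq (v % 2) 1 then Nat.xor c (ap M (v >>> 1)) else ap M (v >>> 1)

/-- the product of two matrices -/
def mul (A B : List ℕ) : List ℕ := B.map (ap A)

/-- the unit matrix -/
def one : List ℕ := (List.range 52).map (1 <<< ·)

/-- the product of a list of matrices -/
def prodM (l : List (List ℕ)) : List ℕ := l.foldr mul one

/-- the element of the field of two elements of a Boolean -/
def bz (b : Bool) : ZMod 2 := bif b then 1 else 0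

theorem bz_xor : ∀ a b : Bool, bz (a ^^ b) = bz a + bz b := by decide

theorem bz_and : ∀ a b : Bool, bz (a && b) = bz a * bz b := by decide

theorem bz_inj : ∀ a b : Bool, bz a = bz b → a = b := by decide

theorem bz_ap : ∀ (M : List ℕ) (v i : ℕ),
    bz ((ap M v).testBit i) = ∑ j ∈ Finset.range M.length, bz (v.testBit j) * bz ((M.getD j 0).testBit i)
  | [], v, i => by simp [ap, bz]
  | c :: M, v, i => by
    have ih := bz_ap M (v >>> 1) i
    have hsucc : ∀ j, (v >>> 1).testBit j = v.testBit (j + 1) := fun j => by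
      rw [Nat.testBit_shiftRight, Nat.add_comm]
    simp only [hsucc] at ih
    rw [List.length_cons, Finset.sum_range_succ']
    simp only [List.getD_cons_succ, List.getD_cons_zero]
    rw [← ih, ap]
    rcases Nat.eq_zero_or_pos v with rfl | hv
    · have : ∀ M : List ℕ, ap M 0 = 0 := by rintro (_ | ⟨a, l⟩) <;> simp [ap]
      simp [bz, this]
    · rw [show Nat.beq v 0 = false from by
        cases h : Nat.beq v 0
        · rfl
        · exact absurd (Nat.eq_of_beq_eq_true h) (by omega)]
      rw [cond_false, Nat.testBit_zero]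
      by_cases h : v % 2 = 1
      · rw [show Nat.beq (v % 2) 1 = true from by rw [h]; rfl, cond_true]
        show bz ((c ^^^ ap M (v >>> 1)).testBit i) = _
        rw [Nat.testBit_xor, bz_xor, decide_eq_true h]
        simp [bz, add_comm]
      · rw [show Nat.beq (v % 2) 1 = false from by
          cases h' : Nat.beq (v % 2) 1
          · rfl
          · exact absurd (Nat.eq_of_beq_eq_true h') h, cond_false, decide_eq_false h]
        simp [bz]

/-- the columns `M` describe the matrix `g` -/
def OK (M : List ℕ) (g : GG) : Prop :=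
  M.length = 52 ∧
    ∀ x y : chevF4.Idx, (g : Matrix chevF4.Idx chevF4.Idx (ZMod 2)) x y =
      bz ((M.getD (cd chevF4 y) 0).testBit (cd chevF4 x))

theorem dim_eq : chevF4.nroots + chevF4.rank = 52 := by decide

theorem OK.mul {A B : List ℕ} {g h : GG} (ha : OK A g) (hb : OK B h) :
    OK (TitsSchur.mul A B) (g * h) := by
  refine ⟨by simp [TitsSchur.mul, hb.1], fun x y => ?_⟩
  have hy : cd chevF4 y < B.length := by rw [hb.1, ← dim_eq]; exact cd_lt y
  have e : (TitsSchur.mul A B).getD (cd chevF4 y) 0 = ap A (B.getD (cd chevF4 y) 0) := by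
    rw [TitsSchur.mul, List.getD_eq_getElem _ _ hy,
      List.getD_eq_getElem _ _ (by rw [List.length_map]; exact hy), List.getElem_map]
  have him : (Finset.univ.image (cd chevF4)) = Finset.range 52 := by
    ext a
    simp only [Finset.mem_image, Finset.mem_univ, true_and, Finset.mem_range, ← dim_eq]
    exact ⟨fun ⟨z, hz⟩ => hz ▸ cd_lt z, fun h => exists_cd h⟩
  rw [e, bz_ap, ha.1, ← him, Finset.sum_image (cd_injective.injOn), Units.val_mul, Matrix.mul_apply]
  exact Finset.sum_congr rfl fun z _ => by rw [ha.2, hb.2, mul_comm]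

theorem OK.one : OK one (1 : GG) := by
  refine ⟨by simp [TitsSchur.one], fun x y => ?_⟩
  have hy : cd chevF4 y < 52 := dim_eq ▸ cd_lt y
  rw [TitsSchur.one, List.getD_eq_getElem _ _ (by simpa using hy), List.getElem_map, List.getElem_range,
    Nat.one_shiftLeft, Units.val_one, Matrix.one_apply]
  by_cases h : x = y
  · simp [h, bz, Nat.testBit_two_pow_self]
  · have : cd chevF4 y ≠ cd chevF4 x := fun e => h (cd_injective e.symm)
    simp [h, bz, Nat.testBit_two_pow_of_ne this]

theorem OK.prod {α : Type} (M : α → List ℕ) (g : α → GG) : ∀ (w : List α),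
    (∀ a ∈ w, OK (M a) (g a)) → OK (prodM (w.map M)) (w.map g).prod
  | [], _ => OK.one
  | a :: w, h => by
    simp only [List.map_cons, List.prod_cons]
    exact OK.mul (h a List.mem_cons_self) (OK.prod M g w fun b hb => h b (List.mem_cons_of_mem _ hb))

theorem OK.eq {A : List ℕ} {g h : GG} (hg : OK A g) (hh : OK A h) : g = h :=
  Units.ext (Matrix.ext fun x y => (hg.2 x y).trans (hh.2 x y).symm)

theorem OK.col_eq {A B : List ℕ} {g : GG} (ha : OK A g) (hb : OK B g) {c : ℕ} (hc : c < 52) :
    A.getD c 0 % 2 ^ 52 = B.getD c 0 % 2 ^ 52 := by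
  obtain ⟨y, rfl⟩ := exists_cd (D := chevF4) (dim_eq.symm ▸ hc)
  refine Nat.eq_of_testBit_eq fun i => ?_
  simp only [Nat.testBit_mod_two_pow]
  by_cases hi : i < 52
  · obtain ⟨x, rfl⟩ := exists_cd (D := chevF4) (dim_eq.symm ▸ hi)
    rw [bz_inj _ _ ((ha.2 x y).symm.trans (hb.2 x y))]
  · simp [hi]

/-- a list of indices as a bit mask -/
noncomputable def bitsOf (L : List ℕ) : ℕ :=
  List.rec (motive := fun _ => ℕ) 0 (fun j _ ih => Nat.xor (1 <<< j) ih) L

theorem bz_bitsOf (L : List ℕ) (i : ℕ) : bz ((bitsOf L).testBit i) = cnt L i := by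
  induction L with
  | nil => simp [bitsOf, bz, cnt]
  | cons j l ih =>
    show bz (((1 <<< j) ^^^ bitsOf l).testBit i) = _
    rw [Nat.testBit_xor, bz_xor, ih, cnt_cons, Nat.one_shiftLeft]
    congr 1
    by_cases h : j = i
    · simp [h, bz, Nat.testBit_two_pow_self]
    · simp [h, bz, Nat.testBit_two_pow_of_ne h]

/-- the columns of a root element at 1 -/
noncomputable def rootCheck (r : ℕ) (M : List ℕ) : Bool :=
  Nat.blt r 48 && Nat.beq M.length 52 &&
    allNat 52 fun c => Nat.beq (bitsOf (applyW chevF4 F4.tabs [r] [c])) (M.getD c 0)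

theorem OK.root {r : ℕ} {M : List ℕ} (h : rootCheck r M = true) : OK M (wd [r]) := by
  simp only [rootCheck, Bool.and_eq_true, Nat.beq_eq, Nat.blt_eq] at h
  obtain ⟨⟨hr, hlen⟩, hcols⟩ := h
  refine ⟨hlen, fun x y => ?_⟩
  have e := allNat_iff.1 hcols (cd chevF4 y) (dim_eq ▸ cd_lt y)
  rw [Nat.beq_eq] at e
  rw [← e, bz_bitsOf, wd_def]
  exact entry_eq F4.checked (fun q hq => by
    rw [List.mem_singleton.1 hq]; exact lt_of_lt_of_le hr (by decide)) x y

end CfsgLib.TitsSchur
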